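/-
Isometric embeddings of standard Hermitian spaces and the induced embeddings of transvection groups.
-/
import Cfsg.Agent.Lib.Classical.UnitaryPSU
import Cfsg.Agent.Lib.Classical.HermSplit

set_option autoImplicit false

namespace CfsgLib.UnMinIndex

open Matrix CfsgLib.Transvec CfsgLib.Transvec.Unitary CfsgLib.Classical.Unitary

/-- The standing hypotheses: a field of order `q ^ 2` and its involutive automorphism. -/
structure Setup (F : Type*) [Field F] [Fintype F] (q : ℕ) (σ : F ≃+* F) : Prop where
  card : Fintype.card F = q ^ 2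
  frob : ∀ a, σ a = a ^ q

variable {F : Type*} [Field F] [Fintype F] {q : ℕ} {σ : F ≃+* F} {n k : ℕ}

namespace Setup

variable (hs : Setup F q σ)
include hs

theorem inv (a : F) : σ (σ a) = a := by rw [hs.frob, hs.frob, CfsgLib.Classical.pow_q_q hs.card]

theorem two_le : 2 ≤ q := CfsgLib.Classical.two_le_q hs.card

theorem ne_refl : σ ≠ RingEquiv.refl F := by
  obtain ⟨τ, hτ, -, hne⟩ := exists_frob hs.card
  intro h
  apply hne
  ext a
  rw [hτ, ← hs.frob, h]

theorem form (n : ℕ) : Cfsg.Geo.IsUnitaryForm σ (Cfsg.hermForm n F q) :=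
  isUnitaryForm_hermForm hs.frob hs.inv hs.ne_refl

end Setup

/-- An isometry of the standard space of dimension `k` into the one of dimension `n`. -/
structure Emb (F : Type*) [Field F] (q n k : ℕ) where
  toLin : (Fin k → F) →ₗ[F] (Fin n → F)
  iso' : ∀ u v, Cfsg.hermForm n F q (toLin u) (toLin v) = Cfsg.hermForm k F q u v

namespace Emb

variable (φ : Emb F q n k)

/-- The coefficients of the orthogonal projection. -/
def proj (z : Fin n → F) : Fin k → F := fun i => Cfsg.hermForm n F q z (φ.toLin (Pi.single i 1))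

variable (hs : Setup F q σ)
include hs

theorem form_toLin (z : Fin n → F) (u : Fin k → F) :
    Cfsg.hermForm n F q z (φ.toLin u) = Cfsg.hermForm k F q (φ.proj z) u := by
  have hf := hs.form n
  let L : (Fin k → F) →+ F :=
    { toFun := fun u => Cfsg.hermForm n F q z (φ.toLin u)
      map_zero' := by rw [map_zero, zero_right' hf]
      map_add' := fun a b => by rw [map_add, add_right' hf] }
  have hu : u = ∑ i, u i • (Pi.single i (1 : F) : Fin k → F) := pi_eq_sum_univ' u
  show L u = _
  conv_lhs => rw [hu]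
  rw [map_sum]
  refine Finset.sum_congr rfl fun i _ => ?_
  show Cfsg.hermForm n F q z (φ.toLin (u i • Pi.single i 1)) = _
  rw [map_smul, smul_right' hf, hs.frob, mul_comm]
  rfl

theorem proj_toLin (u : Fin k → F) : φ.proj (φ.toLin u) = u := funext fun i => by
  rw [proj, φ.iso', (hs.form k).herm, hermForm_single hs.frob, hs.inv]

theorem toLin_injective : Function.Injective φ.toLin := fun u v h => by
  rw [← φ.proj_toLin hs u, ← φ.proj_toLin hs v, h]

omit hs in
theorem proj_zero [Fintype F] (hs : Setup F q σ) : φ.proj 0 = 0 := funext fun i => zero_left' (hs.form n) _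

theorem proj_add (z z' : Fin n → F) : φ.proj (z + z') = φ.proj z + φ.proj z' :=
  funext fun i => (hs.form n).add_left _ _ _

theorem proj_smul (c : F) (z : Fin n → F) : φ.proj (c • z) = c • φ.proj z :=
  funext fun i => (hs.form n).smul_left _ _ _

/-- The projection as a linear map. -/
def projLin : (Fin n → F) →ₗ[F] (Fin k → F) where
  toFun := φ.proj
  map_add' := φ.proj_add hs
  map_smul' := φ.proj_smul hs

/-- Extension of an endomorphism by the identity on the orthogonal complement. -/
def extEnd : Module.End F (Fin k → F) →* Module.End F (Fin n → F) where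
  toFun g := 1 + φ.toLin.comp ((g - 1).comp (φ.projLin hs))
  map_one' := by simp
  map_mul' g g' := by
    refine LinearMap.ext fun z => ?_
    have key : φ.proj (z + φ.toLin (g' (φ.proj z) - φ.proj z)) = g' (φ.proj z) := by
      rw [φ.proj_add hs, φ.proj_toLin hs, add_sub_cancel]
    show z + φ.toLin (g (g' (φ.proj z)) - φ.proj z) =
      (z + φ.toLin (g' (φ.proj z) - φ.proj z)) +
        φ.toLin (g (φ.proj (z + φ.toLin (g' (φ.proj z) - φ.proj z))) - φ.proj (z + φ.toLin (g' (φ.proj z) - φ.proj z)))
    rw [key, map_sub, map_sub, map_sub]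
    abel

/-- Extension of matrices by the identity on the orthogonal complement. -/
def extGL : GL (Fin k) F →* GL (Fin n) F :=
  Units.map (((LinearMap.toMatrixAlgEquiv' (R := F) (n := Fin n)).toMonoidHom.comp (φ.extEnd hs)).comp
    (Matrix.toLinAlgEquiv' (R := F) (n := Fin k)).toMonoidHom)

theorem extGL_mulVec (g : GL (Fin k) F) (z : Fin n → F) :
    (φ.extGL hs g : Matrix (Fin n) (Fin n) F) *ᵥ z =
      z + φ.toLin ((g : Matrix (Fin k) (Fin k) F) *ᵥ φ.proj z - φ.proj z) := by
  show LinearMap.toMatrix' (φ.extEnd hs (Matrix.toLin' (g : Matrix (Fin k) (Fin k) F))) *ᵥ z = _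
  rw [LinearMap.toMatrix'_mulVec]
  rfl

theorem extGL_toLin (g : GL (Fin k) F) (u : Fin k → F) :
    (φ.extGL hs g : Matrix (Fin n) (Fin n) F) *ᵥ φ.toLin u = φ.toLin ((g : Matrix (Fin k) (Fin k) F) *ᵥ u) := by
  rw [φ.extGL_mulVec hs, φ.proj_toLin hs, map_sub, add_sub_cancel]

theorem extGL_perp (g : GL (Fin k) F) {z : Fin n → F} (hz : φ.proj z = 0) :
    (φ.extGL hs g : Matrix (Fin n) (Fin n) F) *ᵥ z = z := by
  rw [φ.extGL_mulVec hs, hz, mulVec_zero, sub_zero, map_zero, add_zero]

theorem extGL_injective : Function.Injective (φ.extGL hs) := fun g g' h => gl_ext fun u =>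
  φ.toLin_injective hs (by rw [← φ.extGL_toLin hs, ← φ.extGL_toLin hs, h])

theorem extGL_uT {v : Fin k → F} (hv : Cfsg.hermForm k F q v v = 0) (c : F) :
    φ.extGL hs (uT (Cfsg.hermForm k F q) v c) = uT (Cfsg.hermForm n F q) (φ.toLin v) c := by
  refine gl_ext fun z => ?_
  rw [φ.extGL_mulVec hs, uT_mulVec (hs.form k) hv, uT_mulVec (hs.form n) (by rw [φ.iso', hv]), add_sub_cancel_left,
    map_smul, φ.form_toLin hs]

theorem extGL_mem {g : GL (Fin k) F} (hg : g ∈ transvGroup σ (Cfsg.hermForm k F q)) :
    φ.extGL hs g ∈ transvGroup σ (Cfsg.hermForm n F q) := by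
  refine (Subgroup.closure_le ((transvGroup σ (Cfsg.hermForm n F q)).comap (φ.extGL hs))).2 ?_ hg
  rintro _ ⟨v, c, hv, hc, rfl⟩
  show φ.extGL hs _ ∈ transvGroup σ _
  rw [φ.extGL_uT hs hv]
  exact uT_mem (hs.form n) (by rw [φ.iso', hv]) hc

/-- The embedding of the transvection groups. -/
noncomputable def hom : transvGroup σ (Cfsg.hermForm k F q) →* transvGroup σ (Cfsg.hermForm n F q) :=
  ((φ.extGL hs).comp (transvGroup σ (Cfsg.hermForm k F q)).subtype).codRestrict _ fun g => φ.extGL_mem hs g.2

theorem hom_coe (g : transvGroup σ (Cfsg.hermForm k F q)) : ((φ.hom hs g : GL (Fin n) F)) = φ.extGL hs g.1 := rfl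

theorem hom_toLin (g : transvGroup σ (Cfsg.hermForm k F q)) (u : Fin k → F) :
    ((φ.hom hs g).1 : Matrix (Fin n) (Fin n) F) *ᵥ φ.toLin u = φ.toLin ((g.1 : Matrix (Fin k) (Fin k) F) *ᵥ u) :=
  φ.extGL_toLin hs g.1 u

theorem hom_perp (g : transvGroup σ (Cfsg.hermForm k F q)) {z : Fin n → F} (hz : φ.proj z = 0) :
    ((φ.hom hs g).1 : Matrix (Fin n) (Fin n) F) *ᵥ z = z :=
  φ.extGL_perp hs g.1 hz

/-- The part of a vector orthogonal to the image. -/
theorem proj_sub (z : Fin n → F) : φ.proj (z - φ.toLin (φ.proj z)) = 0 := by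
  rw [sub_eq_add_neg, ← neg_one_smul F (φ.toLin _), φ.proj_add hs, φ.proj_smul hs, φ.proj_toLin hs]
  simp

omit hs in
/-- Composition. -/
def comp {l : ℕ} (φ : Emb F q n k) (ψ : Emb F q k l) : Emb F q n l where
  toLin := φ.toLin.comp ψ.toLin
  iso' u v := by simp [φ.iso', ψ.iso']

end Emb

/-- An embedding from an orthonormal family. -/
noncomputable def embOfFamily (hs : Setup F q σ) (b : Fin k → (Fin n → F))
    (hb : ∀ i j, Cfsg.hermForm n F q (b i) (b j) = if i = j then 1 else 0) : Emb F q n k where
  toLin := Fintype.linearCombination F b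
  iso' u v := by
    have hf := hs.form n
    simp only [Fintype.linearCombination_apply]
    rw [CfsgLib.Classical.hermForm_sum_left]
    refine Finset.sum_congr rfl fun i _ => ?_
    let L : (Fin n → F) →+ F :=
      { toFun := fun y => Cfsg.hermForm n F q (b i) y
        map_zero' := zero_right' hf _
        map_add' := fun a b' => add_right' hf _ _ _ }
    congr 1
    show L (∑ j, v j • b j) = _
    rw [map_sum, Finset.sum_eq_single i]
    · show Cfsg.hermForm n F q (b i) (v i • b i) = _
      rw [smul_right' hf, hb, if_pos rfl, mul_one, hs.frob]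
    · intro j _ hj
      show Cfsg.hermForm n F q (b i) (v j • b j) = _
      rw [smul_right' hf, hb, if_neg (Ne.symm hj), mul_zero]
    · intro h
      exact absurd (Finset.mem_univ i) h

/-- An orthonormal family spanning the orthogonal complement of an orthonormal family. -/
theorem exists_complement (hs : Setup F q σ) (φ : Emb F q n k) :
    ∃ ψ : Emb F q n (n - k), (∀ u, φ.proj (ψ.toLin u) = 0) ∧
      (∀ z, φ.proj z = 0 → ψ.toLin (ψ.proj z) = z) := by
  classical
  have hf := hs.form n
  set W : Submodule F (Fin n → F) := LinearMap.ker (φ.projLin hs) with hW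
  have hfin : Module.finrank F W = n - k := by
    have h := LinearMap.finrank_range_add_finrank_ker (φ.projLin hs)
    rw [LinearMap.range_eq_top.2 (fun u => ⟨φ.toLin u, φ.proj_toLin hs u⟩), finrank_top,
      Module.finrank_fintype_fun_eq_card, Module.finrank_fintype_fun_eq_card, Fintype.card_fin, Fintype.card_fin,
      ← hW] at h
    omega
  obtain ⟨b, hb, hspan⟩ := CfsgLib.Classical.exists_orthonormal_span hs.card W fun u hu h => by
    by_contra hu0
    obtain ⟨y, hy⟩ := (hf.nondegenerate u hu0).2
    refine hy ?_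
    have h1 := h (y - φ.toLin (φ.proj y)) (φ.proj_sub hs y)
    have h2 : φ.proj u = 0 := hu
    rw [sub_right' hf, φ.form_toLin hs, h2, zero_left' (hs.form k), sub_zero] at h1
    exact h1
  let e := (finCongr hfin).symm
  refine ⟨embOfFamily hs (b ∘ e) (fun i j => by simp [hb]), fun u => ?_, fun z hz => ?_⟩
  · have hbW : ∀ i, b i ∈ W := fun i => by
      rw [← hspan]
      exact Submodule.subset_span (Set.mem_range_self i)
    have hmem : ∑ i, u i • b (e i) ∈ W := Submodule.sum_mem W fun i _ => W.smul_mem (u i) (hbW (e i))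
    exact hmem
  · have hz' : z ∈ Submodule.span F (Set.range (b ∘ e)) := by
      rw [e.surjective.range_comp, hspan]
      exact hz
    obtain ⟨c, hc⟩ := (Submodule.mem_span_range_iff_exists_fun F).1 hz'
    have : z = (embOfFamily hs (b ∘ e) (fun i j => by simp [hb])).toLin c := by
      rw [← hc]; rfl
    rw [this, Emb.proj_toLin _ hs]

end CfsgLib.UnMinIndex
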