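/-
Character duality for the two additive pairings of a Hermitian space, and the Gauss sum.
-/
import Cfsg.Agent.Lib.UnMinIndex.Embed

set_option autoImplicit false

namespace CfsgLib.UnMinIndex

open Matrix CfsgLib.Transvec CfsgLib.Transvec.Unitary CfsgLib.Classical.Unitary

variable {F : Type*} [Field F] {q : ℕ} {σ : F ≃+* F} {m : ℕ}

/-- The skew elements. -/
def skew (σ : F ≃+* F) : AddSubgroup F where
  carrier := {c | c + σ c = 0}
  add_mem' {a b} ha hb := by
    simp only [Set.mem_ofPred_eq] at *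
    rw [map_add]
    linear_combination ha + hb
  zero_mem' := by simp
  neg_mem' {a} ha := by
    simp only [Set.mem_ofPred_eq] at *
    rw [map_neg]
    linear_combination -ha

theorem mem_skew {c : F} : c ∈ skew σ ↔ c + σ c = 0 := Iff.rfl

/-- The fixed elements. -/
def fixd (σ : F ≃+* F) : AddSubgroup F where
  carrier := {c | σ c = c}
  add_mem' {a b} ha hb := by
    simp only [Set.mem_ofPred_eq] at *
    rw [map_add, ha, hb]
  zero_mem' := by simp
  neg_mem' {a} ha := by
    simp only [Set.mem_ofPred_eq] at *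
    rw [map_neg, ha]

theorem mem_fixd {c : F} : c ∈ fixd σ ↔ σ c = c := Iff.rfl

/-- The alternating pairing. -/
def imB (m q : ℕ) (u v : Fin m → F) : F := Cfsg.hermForm m F q u v - Cfsg.hermForm m F q v u

/-- The symmetric pairing. -/
def reB (m q : ℕ) (u v : Fin m → F) : F := Cfsg.hermForm m F q u v + Cfsg.hermForm m F q v u

variable [Fintype F]

/-- A biadditive pairing with its nondegeneracy against a character. -/
structure Pairing (m : ℕ) (F : Type*) [Field F] where
  B : (Fin m → F) → (Fin m → F) → F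
  ψ : AddChar F ℂ
  add_left : ∀ u u' w, B (u + u') w = B u w + B u' w
  add_right : ∀ u w w', B u (w + w') = B u w + B u w'
  left_nd : ∀ u, u ≠ 0 → ∃ w, ψ (B u w) ≠ 1
  right_nd : ∀ w, w ≠ 0 → ∃ u, ψ (B u w) ≠ 1

namespace Pairing

variable (P : Pairing m F)

/-- The character `w ↦ ψ (B u w)`. -/
def charL (u : Fin m → F) : AddChar (Fin m → F) ℂ :=
  P.ψ.compAddMonoidHom (AddMonoidHom.mk' (P.B u) (P.add_right u))

/-- The character `u ↦ ψ (B u w)`. -/
def charR (w : Fin m → F) : AddChar (Fin m → F) ℂ :=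
  P.ψ.compAddMonoidHom (AddMonoidHom.mk' (fun u => P.B u w) (fun u u' => P.add_left u u' w))

theorem zero_left (w : Fin m → F) : P.ψ (P.B 0 w) = 1 := (P.charR w).map_zero_eq_one

theorem zero_right (u : Fin m → F) : P.ψ (P.B u 0) = 1 := (P.charL u).map_zero_eq_one

/-- The annihilator of a subgroup. -/
def perp (W : AddSubgroup (Fin m → F)) : AddSubgroup (Fin m → F) where
  carrier := {u | ∀ w ∈ W, P.ψ (P.B u w) = 1}
  add_mem' {a b} ha hb w hw := by
    rw [P.add_left, AddChar.map_add_eq_mul, ha w hw, hb w hw, one_mul]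
  zero_mem' w _ := P.zero_left w
  neg_mem' {a} ha w hw := by
    show P.charR w (-a) = 1
    rw [AddChar.map_neg_eq_inv]
    show (P.ψ (P.B a w))⁻¹ = 1
    rw [ha w hw, inv_one]

theorem mem_perp {W : AddSubgroup (Fin m → F)} {u : Fin m → F} : u ∈ P.perp W ↔ ∀ w ∈ W, P.ψ (P.B u w) = 1 :=
  Iff.rfl

theorem card_mul_perp (W : AddSubgroup (Fin m → F)) :
    Nat.card W * Nat.card (P.perp W) = Fintype.card F ^ m := by
  classical
  have h1 : ∀ u, ∑ w : W, P.ψ (P.B u w.1) = if u ∈ P.perp W then (Fintype.card W : ℂ) else 0 := by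
    intro u
    rw [show (∑ w : W, P.ψ (P.B u w.1)) = ∑ w : W, ((P.charL u).compAddMonoidHom W.subtype) w from rfl,
      AddChar.sum_eq_ite]
    congr 1
    refine propext ⟨fun h w hw => ?_, fun h => AddChar.ext _ _ fun w => ?_⟩
    · exact DFunLike.congr_fun h ⟨w, hw⟩
    · exact h w.1 w.2
  have h2 : ∀ w : W, ∑ u, P.ψ (P.B u w.1) = if w = 0 then (Fintype.card (Fin m → F) : ℂ) else 0 := by
    intro w
    rw [show (∑ u, P.ψ (P.B u w.1)) = ∑ u, P.charR w.1 u from rfl, AddChar.sum_eq_ite]
    congr 1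
    refine propext ⟨fun h => ?_, fun h => AddChar.ext _ _ fun u => ?_⟩
    · by_contra hw
      obtain ⟨u, hu⟩ := P.right_nd w.1 fun e => hw (Subtype.ext e)
      exact hu (DFunLike.congr_fun h u)
    · rw [h]
      exact P.zero_right u
  have key : (Fintype.card (P.perp W) : ℂ) * Fintype.card W = Fintype.card (Fin m → F) := by
    have := Finset.sum_comm (s := (Finset.univ : Finset (Fin m → F))) (t := (Finset.univ : Finset W))
      (f := fun u w => P.ψ (P.B u w.1))
    simp only [h1, h2, Finset.sum_ite_eq', Finset.mem_univ, if_true] at this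
    rw [← this, Finset.sum_ite, Finset.sum_const_zero, add_zero, Finset.sum_const, nsmul_eq_mul,
      Fintype.card_subtype]
  rw [Nat.card_eq_fintype_card, Nat.card_eq_fintype_card, mul_comm]
  have h3 : Fintype.card (P.perp W) * Fintype.card W = Fintype.card (Fin m → F) := by exact_mod_cast key
  rw [h3, Fintype.card_fun, Fintype.card_fin]

end Pairing

/-- A character trivial on a subgroup and not at a given element outside it. -/
theorem exists_char (A : AddSubgroup F) {t : F} (ht : t ∉ A) :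
    ∃ ψ : AddChar F ℂ, (∀ a ∈ A, ψ a = 1) ∧ ψ t ≠ 1 := by
  obtain ⟨χ, hχ⟩ := AddChar.exists_apply_ne_zero.2
    (show (QuotientAddGroup.mk t : F ⧸ A) ≠ 0 from fun h => ht ((QuotientAddGroup.eq_zero_iff t).1 h))
  refine ⟨χ.compAddMonoidHom (QuotientAddGroup.mk' A), fun a ha => ?_, hχ⟩
  show χ (QuotientAddGroup.mk a : F ⧸ A) = 1
  rw [(QuotientAddGroup.eq_zero_iff a).2 ha, AddChar.map_zero_eq_one]

variable (hs : Setup F q σ)
include hs

theorem exists_sub_eq {c : F} (hc : c ∈ skew σ) : ∃ e, e - σ e = c := by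
  obtain ⟨t, ht⟩ := exists_trace_eq hs.ne_refl hs.inv (b := (1 : F)) (map_one σ)
  refine ⟨c * t, ?_⟩
  have hσc : σ c = -c := by rw [mem_skew] at hc; linear_combination hc
  rw [map_mul, hσc]
  linear_combination c * ht

theorem exists_add_eq {c : F} (hc : c ∈ fixd σ) : ∃ e, e + σ e = c := exists_trace_eq hs.ne_refl hs.inv hc

theorem exists_form_eq {u : Fin m → F} (hu : u ≠ 0) (e : F) : ∃ w, Cfsg.hermForm m F q u w = e := by
  have hf := hs.form m
  obtain ⟨y, hy⟩ := (hf.nondegenerate u hu).2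
  refine ⟨σ (e / Cfsg.hermForm m F q u y) • y, ?_⟩
  rw [smul_right' hf, hs.inv, div_mul_cancel₀ _ hy]

theorem imB_mem (u v : Fin m → F) : imB m q u v ∈ skew σ := by
  have hf := hs.form m
  rw [mem_skew, imB, map_sub, ← hf.herm, ← hf.herm]
  ring

theorem reB_mem (u v : Fin m → F) : reB m q u v ∈ fixd σ := by
  have hf := hs.form m
  rw [mem_fixd, reB, map_add, ← hf.herm, ← hf.herm]
  ring

theorem exists_imB_eq {u : Fin m → F} (hu : u ≠ 0) {c : F} (hc : c ∈ skew σ) : ∃ w, imB m q u w = c := by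
  obtain ⟨e, he⟩ := exists_sub_eq hs hc
  obtain ⟨w, hw⟩ := exists_form_eq hs hu e
  exact ⟨w, by rw [imB, (hs.form m).herm w u, hw, he]⟩

theorem exists_reB_eq {u : Fin m → F} (hu : u ≠ 0) {c : F} (hc : c ∈ fixd σ) : ∃ w, reB m q u w = c := by
  obtain ⟨e, he⟩ := exists_add_eq hs hc
  obtain ⟨w, hw⟩ := exists_form_eq hs hu e
  exact ⟨w, by rw [reB, (hs.form m).herm w u, hw, he]⟩

/-- The alternating pairing against a character nontrivial on the skew elements. -/
noncomputable def imPair (ψ : AddChar F ℂ) (hψ : ∃ c ∈ skew σ, ψ c ≠ 1) : Pairing m F where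
  B := imB m q
  ψ := ψ
  add_left u u' w := by simp only [imB, (hs.form m).add_left, add_right' (hs.form m)]; ring
  add_right u w w' := by simp only [imB, (hs.form m).add_left, add_right' (hs.form m)]; ring
  left_nd u hu := by
    obtain ⟨c, hc, hne⟩ := hψ
    obtain ⟨w, hw⟩ := exists_imB_eq hs hu hc
    exact ⟨w, by rw [hw]; exact hne⟩
  right_nd w hw := by
    obtain ⟨c, hc, hne⟩ := hψ
    obtain ⟨u, hu⟩ := exists_imB_eq hs hw (neg_mem hc)
    exact ⟨u, by rw [show imB m q u w = c by rw [imB] at hu ⊢; linear_combination -hu]; exact hne⟩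

/-- The symmetric pairing against a character nontrivial on the fixed elements. -/
noncomputable def rePair (ψ : AddChar F ℂ) (hψ : ∃ c ∈ fixd σ, ψ c ≠ 1) : Pairing m F where
  B := reB m q
  ψ := ψ
  add_left u u' w := by simp only [reB, (hs.form m).add_left, add_right' (hs.form m)]; ring
  add_right u w w' := by simp only [reB, (hs.form m).add_left, add_right' (hs.form m)]; ring
  left_nd u hu := by
    obtain ⟨c, hc, hne⟩ := hψ
    obtain ⟨w, hw⟩ := exists_reB_eq hs hu hc
    exact ⟨w, by rw [hw]; exact hne⟩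
  right_nd w hw := by
    obtain ⟨c, hc, hne⟩ := hψ
    obtain ⟨u, hu⟩ := exists_reB_eq hs hw hc
    exact ⟨u, by rw [show reB m q u w = c by rw [reB] at hu ⊢; linear_combination hu]; exact hne⟩

theorem reB_eq_zero_of_singular {S : AddSubgroup (Fin m → F)} (hS : ∀ u ∈ S, Cfsg.hermForm m F q u u = 0)
    {u v : Fin m → F} (hu : u ∈ S) (hv : v ∈ S) : reB m q u v = 0 := by
  have h := hS (u + v) (add_mem hu hv)
  rw [(hs.form m).add_left, add_right' (hs.form m), add_right' (hs.form m), hS u hu, hS v hv] at h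
  rw [reB]
  linear_combination h

theorem card_singular_sq_le {S : AddSubgroup (Fin m → F)} (hS : ∀ u ∈ S, Cfsg.hermForm m F q u u = 0) :
    Nat.card S ≤ q ^ m := by
  obtain ⟨ψ, -, hψ⟩ := exists_char (⊥ : AddSubgroup F) (t := 1) (fun h => one_ne_zero (AddSubgroup.mem_bot.1 h))
  let P := rePair (m := m) hs ψ ⟨1, mem_fixd.2 (map_one σ), hψ⟩
  have hle : S ≤ P.perp S := fun u hu w hw => by
    show ψ (reB m q u w) = 1
    rw [reB_eq_zero_of_singular hs hS hu hw, AddChar.map_zero_eq_one]
  have h1 := P.card_mul_perp S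
  rw [hs.card] at h1
  have h2 : Nat.card S * Nat.card S ≤ q ^ m * q ^ m := by
    rw [← mul_pow, ← pow_two q]
    exact le_of_le_of_eq (Nat.mul_le_mul_left _ (Nat.card_le_card_of_injective
      (Set.inclusion hle) (Set.inclusion_injective hle))) h1
  exact Nat.mul_self_le_mul_self_iff.1 h2

omit hs in
theorem norm_fibre_card [DecidableEq F] (hs : Setup F q σ) {r : F} (hr : σ r = r) (hr0 : r ≠ 0) :
    (Finset.univ.filter fun a : F => a * σ a = r).card = q + 1 := by
  obtain ⟨a₀, ha₀⟩ := exists_norm_eq hs.ne_refl hs.inv hr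
  have ha0 : a₀ ≠ 0 := fun h => hr0 (by rw [← ha₀, h, zero_mul])
  rw [← CfsgLib.Classical.card_norm_one hs.card, ← Fintype.card_subtype, ← Nat.card_eq_fintype_card]
  have hkey : ∀ a : F, (a₀⁻¹ * a) ^ (q + 1) = 1 ↔ a * σ a = r := fun a => by
    rw [mul_pow, inv_pow, inv_mul_eq_one₀ (pow_ne_zero _ ha0), eq_comm, pow_succ', ← hs.frob, pow_succ', ← hs.frob,
      ha₀]
  exact Nat.card_congr
    { toFun := fun a => ⟨a₀⁻¹ * a.1, (hkey a.1).2 a.2⟩
      invFun := fun b => ⟨a₀ * b.1, (hkey _).1 (by rw [inv_mul_cancel_left₀ ha0]; exact b.2)⟩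
      left_inv := fun a => Subtype.ext (mul_inv_cancel_left₀ ha0 a.1)
      right_inv := fun b => Subtype.ext (inv_mul_cancel_left₀ ha0 b.1) }

/-- The one-dimensional Gauss sum. -/
theorem sum_norm_char (ψ : AddChar F ℂ) (hψ : ∃ c ∈ fixd σ, ψ c ≠ 1) : ∑ a : F, ψ (a * σ a) = -(q : ℂ) := by
  classical
  rw [← Finset.sum_fiberwise_of_maps_to (t := Finset.univ.filter fun r : F => σ r = r)
    (g := fun a => a * σ a) (fun a _ => Finset.mem_filter.2 ⟨Finset.mem_univ _, by rw [map_mul, hs.inv, mul_comm]⟩)]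
  have hsum : ∑ r ∈ Finset.univ.filter (fun r : F => σ r = r), ψ r = 0 := by
    obtain ⟨c, hc, hne⟩ := hψ
    rw [Finset.sum_subtype (p := fun r => r ∈ fixd σ) _ (fun r => by simp [mem_fixd])]
    exact AddChar.sum_eq_zero_of_ne_one (ψ := ψ.compAddMonoidHom (fixd σ).subtype)
      fun h => hne (DFunLike.congr_fun h ⟨c, hc⟩)
  have h0mem : (0 : F) ∈ Finset.univ.filter (fun r : F => σ r = r) := by simp
  rw [← Finset.add_sum_erase _ _ h0mem]
  have hfib0 : (Finset.univ.filter fun a : F => a * σ a = 0) = {0} := by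
    ext a
    simp
  rw [hfib0, Finset.sum_singleton, map_zero, mul_zero, AddChar.map_zero_eq_one]
  have hrest : ∀ r ∈ (Finset.univ.filter (fun r : F => σ r = r)).erase 0,
      ∑ a ∈ Finset.univ.filter (fun a : F => a * σ a = r), ψ (a * σ a) = ((q : ℂ) + 1) * ψ r := by
    intro r hr
    rw [Finset.mem_erase, Finset.mem_filter] at hr
    rw [Finset.sum_congr rfl (fun a ha => by rw [(Finset.mem_filter.1 ha).2]), Finset.sum_const,
      norm_fibre_card hs hr.2.2 hr.1, nsmul_eq_mul]
    push_cast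
    rfl
  rw [Finset.sum_congr rfl hrest, ← Finset.mul_sum]
  rw [← Finset.add_sum_erase _ _ h0mem, AddChar.map_zero_eq_one] at hsum
  linear_combination ((q : ℂ) + 1) * hsum

/-- A totally singular subgroup of the largest possible order needs even dimension. -/
theorem even_of_card_singular {S : AddSubgroup (Fin m → F)} (hS : ∀ u ∈ S, Cfsg.hermForm m F q u u = 0)
    (hcard : Nat.card S = q ^ m) : Even m := by
  classical
  obtain ⟨ψ, -, hψ⟩ := exists_char (⊥ : AddSubgroup F) (t := 1) (fun h => one_ne_zero (AddSubgroup.mem_bot.1 h))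
  have hex : ∃ c ∈ fixd σ, ψ c ≠ 1 := ⟨1, mem_fixd.2 (map_one σ), hψ⟩
  let P := rePair (m := m) hs ψ hex
  have hle : S ≤ P.perp S := fun u hu w hw => by
    show ψ (reB m q u w) = 1
    rw [reB_eq_zero_of_singular hs hS hu hw, AddChar.map_zero_eq_one]
  have hperp : P.perp S = S := by
    have h1 := P.card_mul_perp S
    rw [hs.card, hcard, ← pow_mul, two_mul, pow_add] at h1
    have h2 := Nat.eq_of_mul_eq_mul_left (pow_pos (by have := hs.two_le; omega) _) h1
    refine (SetLike.coe_injective (Set.eq_of_subset_of_ncard_le hle ?_ (Set.toFinite _))).symm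
    rw [← Nat.card_coe_set_eq, ← Nat.card_coe_set_eq]
    exact le_of_eq (h2.trans hcard.symm)
  set Γ := ∑ u : Fin m → F, ψ (Cfsg.hermForm m F q u u) with hΓ
  have hval : Γ = (-(q : ℂ)) ^ m := by
    rw [← sum_norm_char hs ψ hex, Fintype.sum_pow, hΓ]
    refine Finset.sum_congr rfl fun u _ => ?_
    rw [hermForm_eq hs.frob]
    induction (Finset.univ : Finset (Fin m)) using Finset.induction_on with
    | empty => simp
    | insert a t ha ih => rw [Finset.sum_insert ha, Finset.prod_insert ha, AddChar.map_add_eq_mul, ih]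
  have hshift : ∀ s ∈ S, ∀ u, Cfsg.hermForm m F q (u + s) (u + s) =
      Cfsg.hermForm m F q u u + reB m q u s := by
    intro s hs' u
    rw [(hs.form m).add_left, add_right' (hs.form m), add_right' (hs.form m), hS s hs', reB]
    ring
  have h1 : ∀ u, ∑ s : S, ψ (reB m q u s.1) = if u ∈ S then (Fintype.card S : ℂ) else 0 := by
    intro u
    rw [show (∑ s : S, ψ (reB m q u s.1)) = ∑ s : S, ((P.charL u).compAddMonoidHom S.subtype) s from rfl,
      AddChar.sum_eq_ite]
    congr 1
    refine propext ⟨fun h => hperp ▸ fun w hw => DFunLike.congr_fun h ⟨w, hw⟩, fun h => AddChar.ext _ _ fun w => ?_⟩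
    exact hle h w.1 w.2
  have hmul : (Fintype.card S : ℂ) * Γ = (Fintype.card S : ℂ) * (Fintype.card S : ℂ) := by
    calc (Fintype.card S : ℂ) * Γ = ∑ _s : S, Γ := by rw [Finset.sum_const, Finset.card_univ, nsmul_eq_mul]
      _ = ∑ s : S, ∑ u, ψ (Cfsg.hermForm m F q (u + s.1) (u + s.1)) :=
          Finset.sum_congr rfl fun s _ =>
            (Equiv.sum_comp (Equiv.addRight s.1) fun u => ψ (Cfsg.hermForm m F q u u)).symm
      _ = ∑ u, ψ (Cfsg.hermForm m F q u u) * ∑ s : S, ψ (reB m q u s.1) := by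
          rw [Finset.sum_comm]
          refine Finset.sum_congr rfl fun u _ => ?_
          rw [Finset.mul_sum]
          exact Finset.sum_congr rfl fun s _ => by rw [hshift s.1 s.2, AddChar.map_add_eq_mul]
      _ = ∑ u ∈ Finset.univ.filter (· ∈ S), (Fintype.card S : ℂ) := by
          rw [Finset.sum_filter]
          refine Finset.sum_congr rfl fun u _ => ?_
          rw [h1]
          split_ifs with h
          · rw [hS u h, AddChar.map_zero_eq_one, one_mul]
          · rw [mul_zero]
      _ = _ := by rw [Finset.sum_const, nsmul_eq_mul, Fintype.card_subtype]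
  rw [Nat.card_eq_fintype_card] at hcard
  have hq0 : (q : ℂ) ≠ 0 := Nat.cast_ne_zero.2 (by have := hs.two_le; omega)
  rw [hcard, hval] at hmul
  push_cast at hmul
  by_contra hodd
  rw [Nat.not_even_iff_odd] at hodd
  rw [hodd.neg_pow] at hmul
  have := mul_left_cancel₀ (pow_ne_zero _ hq0) hmul
  exact pow_ne_zero m hq0 (by linear_combination (-1 / 2 : ℂ) * this)

end CfsgLib.UnMinIndex
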