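/-
Counts of vectors of given norm and the inequalities used for the index bound.
-/
import Cfsg.Agent.Lib.UnMinIndex.Dual

set_option autoImplicit false

namespace CfsgLib.UnMinIndex

open Matrix CfsgLib.Transvec CfsgLib.Transvec.Unitary CfsgLib.Classical.Unitary

variable {F : Type*} [Field F] [Fintype F] {q : ℕ} {σ : F ≃+* F} {m : ℕ}

/-- The number of nonzero singular vectors. -/
noncomputable def sCount (F : Type*) [Field F] (q m : ℕ) : ℕ :=
  Nat.card {v : Fin m → F // v ≠ 0 ∧ Cfsg.hermForm m F q v v = 0}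

variable (hs : Setup F q σ)
include hs

theorem sCount_add_one (m : ℕ) : sCount F q m + 1 = CfsgLib.Classical.hermCount m F q (0 : F) := by
  classical
  rw [sCount, CfsgLib.Classical.hermCount, Nat.card_eq_fintype_card, Nat.card_eq_fintype_card, Fintype.card_subtype,
    Fintype.card_subtype]
  rw [show (Finset.univ.filter fun v : Fin m → F => v ≠ 0 ∧ Cfsg.hermForm m F q v v = 0) =
    (Finset.univ.filter fun v : Fin m → F => Cfsg.hermForm m F q v v = 0).erase 0 by ext v; simp]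
  exact Finset.card_erase_add_one (Finset.mem_filter.2 ⟨Finset.mem_univ _, zero_left' (hs.form m) _⟩)

theorem hermCount_eq_one_of {a : F} (ha : σ a = a) (ha0 : a ≠ 0) :
    CfsgLib.Classical.hermCount m F q a = CfsgLib.Classical.hermCount m F q 1 := by
  obtain ⟨t, ht⟩ := exists_norm_eq hs.ne_refl hs.inv ha
  have ht0 : t ≠ 0 := fun h => ha0 (by rw [← ht, h, zero_mul])
  rw [← CfsgLib.Classical.hermCount_smul m (c := (1 : F)) ht0, mul_one, pow_succ', ← hs.frob, ht]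

theorem sCount_formula (j : ℕ) :
    (sCount F q (j + 1) : ℤ) = ((q : ℤ) ^ (j + 1) - (-1) ^ (j + 1)) * ((q : ℤ) ^ j + (-1) ^ (j + 1)) := by
  have h := (CfsgLib.Classical.hermCount_formula hs.card j).2
  rw [← sCount_add_one hs] at h
  push_cast at h
  linarith

theorem norm_count_lower (j : ℕ) :
    (q : ℤ) ^ j * ((q : ℤ) ^ (j + 1) - 1) ≤ CfsgLib.Classical.hermCount (j + 1) F q (1 : F) := by
  rw [(CfsgLib.Classical.hermCount_formula hs.card j).1]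
  rcases neg_one_pow_eq_or ℤ (j + 1) with h | h <;> rw [h]
  refine mul_le_mul_of_nonneg_left ?_ (by positivity)
  linarith

theorem sCount_lower (j : ℕ) :
    ((q : ℤ) ^ (j + 1) - 1) * ((q : ℤ) ^ j - 1) ≤ sCount F q (j + 1) := by
  rw [sCount_formula hs]
  have h1 : (1 : ℤ) ≤ (q : ℤ) ^ (j + 1) := one_le_pow₀ (by have := hs.two_le; omega)
  have h2 : (1 : ℤ) ≤ (q : ℤ) ^ j := one_le_pow₀ (by have := hs.two_le; omega)
  rcases neg_one_pow_eq_or ℤ (j + 1) with h | h <;> rw [h] <;> nlinarith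

theorem sCount_upper (j : ℕ) :
    (sCount F q (j + 1) : ℤ) ≤ ((q : ℤ) ^ (j + 1) + 1) * ((q : ℤ) ^ j + 1) := by
  rw [sCount_formula hs]
  have h1 : (1 : ℤ) ≤ (q : ℤ) ^ (j + 1) := one_le_pow₀ (by have := hs.two_le; omega)
  have h2 : (1 : ℤ) ≤ (q : ℤ) ^ j := one_le_pow₀ (by have := hs.two_le; omega)
  rcases neg_one_pow_eq_or ℤ (j + 1) with h | h <;> rw [h] <;> nlinarith

theorem sCount_even {j : ℕ} (he : Even (j + 1)) :
    (sCount F q (j + 1) : ℤ) = ((q : ℤ) ^ (j + 1) - 1) * ((q : ℤ) ^ j + 1) := by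
  rw [sCount_formula hs, he.neg_one_pow]

theorem sCount_three : (sCount F q 3 : ℤ) = ((q : ℤ) ^ 3 + 1) * ((q : ℤ) ^ 2 - 1) := by
  rw [show (3 : ℕ) = 2 + 1 from rfl, sCount_formula hs]
  ring

/-- The bound for the number of singular vectors of the ambient space. -/
theorem sCount_total (j : ℕ) :
    (sCount F q (j + 1) : ℤ) ≤ (q : ℤ) ^ (2 * j + 1) + (q : ℤ) ^ (j + 1) := by
  rw [sCount_formula hs]
  have h2 : (q : ℤ) ^ j ≤ (q : ℤ) ^ (j + 1) := pow_le_pow_right₀ (by have := hs.two_le; omega) (by omega)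
  have h3 : (q : ℤ) ^ (2 * j + 1) = (q : ℤ) ^ (j + 1) * (q : ℤ) ^ j := by rw [← pow_add]; congr 1; omega
  have h4 : (0 : ℤ) ≤ (q : ℤ) ^ j := by positivity
  rcases neg_one_pow_eq_or ℤ (j + 1) with h | h <;> rw [h, h3] <;> nlinarith

omit hs in
theorem enough_aux {Q : ℤ} (hQ : 2 ≤ Q) {m : ℕ} (hm : 3 ≤ m) :
    Q ^ (2 * m + 3) + Q ^ (m + 2) ≤ (Q ^ 2 - 1) * (Q ^ (2 * m + 1) + 2 * Q ^ (2 * m - 1)) := by
  obtain ⟨i, rfl⟩ := Nat.exists_eq_add_of_le hm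
  have e1 : 2 * (3 + i) + 3 = 2 * i + 9 := by omega
  have e2 : 2 * (3 + i) + 1 = 2 * i + 7 := by omega
  have e3 : 2 * (3 + i) - 1 = 2 * i + 5 := by omega
  have e4 : 3 + i + 2 = i + 5 := by omega
  rw [e1, e2, e3, e4]
  have hA : 0 ≤ Q ^ i := by positivity
  have hA1 : 1 ≤ Q ^ i := one_le_pow₀ (by omega)
  have h5 : 0 ≤ Q ^ 5 := by positivity
  have h6 : Q ^ (i + 5) ≤ Q ^ (2 * i + 5) := pow_le_pow_right₀ (by omega) (by omega)
  have h7 : Q ^ (2 * i + 7) = Q ^ 2 * Q ^ (2 * i + 5) := by rw [← pow_add]; congr 1; omega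
  have h9 : Q ^ (2 * i + 9) = Q ^ 2 * (Q ^ 2 * Q ^ (2 * i + 5)) := by
    rw [← pow_add, ← pow_add]; congr 1; omega
  have h10 : 0 ≤ Q ^ (2 * i + 5) := by positivity
  rw [h7, h9]
  nlinarith [mul_nonneg (show (0 : ℤ) ≤ Q ^ 2 - 4 by nlinarith) h10]

/-- A count of cosets reaching this size contradicts the index bound. -/
theorem enough (hm : 3 ≤ m) {M : ℕ} (hM : (q : ℤ) ^ (2 * m + 1) + 2 * (q : ℤ) ^ (2 * m - 1) ≤ M)
    (hlt : M * (q ^ 2 - 1) < sCount F q (m + 2)) : False := by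
  have hq := hs.two_le
  have hpos : 1 ≤ q ^ 2 := Nat.one_le_pow _ _ (by omega)
  have hlt' : (M : ℤ) * ((q : ℤ) ^ 2 - 1) < sCount F q (m + 2) := by
    have := (Nat.cast_lt (α := ℤ)).2 hlt
    push_cast [hpos] at this
    exact this
  have h1 := sCount_total hs (m + 1)
  have h2 := enough_aux (Q := (q : ℤ)) (by exact_mod_cast hq) hm
  have h3 : (0 : ℤ) ≤ (q : ℤ) ^ 2 - 1 := by nlinarith [(by exact_mod_cast hq : (2 : ℤ) ≤ q)]
  have h4 := mul_le_mul_of_nonneg_left hM h3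
  rw [show 2 * (m + 1) + 1 = 2 * m + 3 by ring] at h1
  linarith

/-- The transvection count is too small. -/
theorem plane_bound (hm : 3 ≤ m) :
    (sCount F q m : ℤ) + (q : ℤ) ^ 3 + (q : ℤ) ^ 2 ≤ ((q : ℤ) ^ 2 - 1) * (q : ℤ) ^ (2 * m - 1) := by
  obtain ⟨i, rfl⟩ := Nat.exists_eq_add_of_le hm
  have hq : (2 : ℤ) ≤ q := by exact_mod_cast hs.two_le
  have h := sCount_upper hs (2 + i)
  rw [show 2 + i + 1 = 3 + i by ring] at h
  rw [show 2 * (3 + i) - 1 = 2 * i + 5 by omega]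
  have hA : (1 : ℤ) ≤ (q : ℤ) ^ i := one_le_pow₀ (by omega)
  have e1 : (q : ℤ) ^ (2 * i + 5) = (q : ℤ) ^ 5 * ((q : ℤ) ^ i * (q : ℤ) ^ i) := by ring
  have e2 : (q : ℤ) ^ (3 + i) = (q : ℤ) ^ 3 * (q : ℤ) ^ i := by ring
  have e3 : (q : ℤ) ^ (2 + i) = (q : ℤ) ^ 2 * (q : ℤ) ^ i := by ring
  rw [e1]
  rw [e2, e3] at h
  set Q := (q : ℤ)
  set A := Q ^ i
  have h5 : (0 : ℤ) ≤ Q ^ 5 := by positivity
  have hAA : A ≤ A * A := le_mul_of_one_le_left (by linarith) hA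
  have hAA1 : (1 : ℤ) ≤ A * A := le_trans hA hAA
  nlinarith [mul_nonneg (show (0 : ℤ) ≤ Q ^ 2 - 4 by nlinarith) (mul_nonneg h5 (by linarith : (0 : ℤ) ≤ A * A)),
    mul_le_mul_of_nonneg_left hAA (show (0 : ℤ) ≤ Q ^ 3 + Q ^ 2 by positivity),
    mul_le_mul_of_nonneg_left hAA1 (show (0 : ℤ) ≤ Q ^ 3 + Q ^ 2 + 1 by positivity),
    mul_nonneg (show (0 : ℤ) ≤ Q ^ 2 - 4 by nlinarith) (show (0 : ℤ) ≤ Q ^ 3 * (A * A) by positivity)]

end CfsgLib.UnMinIndex
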