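/-
A hyperbolic frame, the elements normalising it and the unipotent radical at its first vector.
-/
import Cfsg.Agent.Lib.UnMinIndex.Arith

set_option autoImplicit false

namespace CfsgLib.UnMinIndex

open Matrix CfsgLib.Transvec CfsgLib.Transvec.Unitary CfsgLib.Classical.Unitary

variable {F : Type*} [Field F] [Fintype F] {q : ℕ} {σ : F ≃+* F} {m n k : ℕ}

/-- A hyperbolic pair with an isometric parametrisation of its orthogonal complement. -/
structure Fr (F : Type*) [Field F] (q m : ℕ) where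
  x : Fin (m + 2) → F
  y : Fin (m + 2) → F
  φ : Emb F q (m + 2) m
  hxx : Cfsg.hermForm (m + 2) F q x x = 0
  hyy : Cfsg.hermForm (m + 2) F q y y = 0
  hxy : Cfsg.hermForm (m + 2) F q x y = 1
  φx : ∀ u, Cfsg.hermForm (m + 2) F q (φ.toLin u) x = 0
  φy : ∀ u, Cfsg.hermForm (m + 2) F q (φ.toLin u) y = 0
  decomp : ∀ z, Cfsg.hermForm (m + 2) F q z y • x + Cfsg.hermForm (m + 2) F q z x • y + φ.toLin (φ.proj z) = z

variable (hs : Setup F q σ)
include hs

/-- Every hyperbolic pair extends to a frame. -/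
theorem exists_fr {x y : Fin (m + 2) → F} (hxx : Cfsg.hermForm (m + 2) F q x x = 0)
    (hyy : Cfsg.hermForm (m + 2) F q y y = 0) (hxy : Cfsg.hermForm (m + 2) F q x y = 1) :
    ∃ fr : Fr F q m, fr.x = x ∧ fr.y = y := by
  have hf := hs.form (m + 2)
  have hyx : Cfsg.hermForm (m + 2) F q y x = 1 := by rw [hf.herm, hxy, map_one]
  obtain ⟨t, ht⟩ := exists_trace_eq hs.ne_refl hs.inv (b := (1 : F)) (map_one σ)
  obtain ⟨β, hβ⟩ := CfsgLib.Transvec.Unitary.exists_norm_eq hs.ne_refl hs.inv (b := (-1 : F)) (by rw [map_neg, map_one])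
  let b : Fin 2 → (Fin (m + 2) → F) := ![t • x + y, β • (-σ t • x + y)]
  have hb : ∀ i j, Cfsg.hermForm (m + 2) F q (b i) (b j) = if i = j then 1 else 0 := by
    intro i j
    fin_cases i <;> fin_cases j <;>
      simp only [b, Fin.mk_zero, Fin.mk_one, Fin.isValue, cons_val_zero, cons_val_one,
        hf.add_left, add_right' hf, hf.smul_left, smul_right' hf, hxx, hyy, hxy, hyx, map_neg, hs.inv] <;>
      norm_num
    all_goals first | linear_combination (0 : F) * ht | linear_combination ht | linear_combination (-(β * σ β)) * ht - hβ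
  let φ₀ := embOfFamily hs b hb
  obtain ⟨ψ, hψ, hψ'⟩ := exists_complement hs φ₀
  have hb0 : ∀ i, φ₀.toLin (Pi.single i 1) = b i := fun i => by
    show Fintype.linearCombination F b (Pi.single i 1) = _
    rw [Fintype.linearCombination_apply_single, one_smul]
  have hφ₀ : ∀ z, φ₀.proj z = 0 ↔ Cfsg.hermForm (m + 2) F q z x = 0 ∧ Cfsg.hermForm (m + 2) F q z y = 0 := by
    intro z
    have hβ0 : σ β ≠ 0 := fun h => by rw [h, mul_zero] at hβ; exact one_ne_zero (neg_eq_zero.1 hβ.symm)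
    constructor
    · intro h
      have h0 := congrFun h 0
      have h1 := congrFun h 1
      simp only [Emb.proj, hb0, b, Fin.isValue, cons_val_zero, cons_val_one, add_right' hf, smul_right' hf,
        map_neg, hs.inv, Pi.zero_apply, mul_eq_zero, hβ0, false_or] at h0 h1
      have hx0 : Cfsg.hermForm (m + 2) F q z x = 0 := by linear_combination h0 - h1 - Cfsg.hermForm (m + 2) F q z x * ht
      exact ⟨hx0, by rw [hx0] at h0; linear_combination h0⟩
    · rintro ⟨hzx, hzy⟩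
      funext i
      simp only [Emb.proj, hb0]
      fin_cases i <;>
        simp only [b, Fin.mk_zero, Fin.mk_one, Fin.isValue, cons_val_zero, cons_val_one, add_right' hf, smul_right' hf,
          hzx, hzy, mul_zero, add_zero, Pi.zero_apply]
  refine ⟨⟨x, y, ψ, hxx, hyy, hxy, fun u => ((hφ₀ _).1 (hψ u)).1, fun u => ((hφ₀ _).1 (hψ u)).2, fun z => ?_⟩,
    rfl, rfl⟩
  obtain ⟨z', hz'⟩ : ∃ z', z' = z - Cfsg.hermForm (m + 2) F q z y • x - Cfsg.hermForm (m + 2) F q z x • y := ⟨_, rfl⟩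
  have hz'0 : φ₀.proj z' = 0 := (hφ₀ _).2 ⟨by simp only [hz', sub_left' hf, hf.smul_left, hxx, hyx]; ring,
    by simp only [hz', sub_left' hf, hf.smul_left, hyy, hxy]; ring⟩
  have hp : ψ.proj z = ψ.proj z' := by
    funext i
    have e := (hφ₀ _).1 (hψ (Pi.single i 1))
    have ex : Cfsg.hermForm (m + 2) F q x (ψ.toLin (Pi.single i 1)) = 0 := (eq_zero_comm hf).mp e.1
    have ey : Cfsg.hermForm (m + 2) F q y (ψ.toLin (Pi.single i 1)) = 0 := (eq_zero_comm hf).mp e.2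
    simp only [Emb.proj, hz', sub_left' hf, hf.smul_left, ex, ey, mul_zero, sub_zero]
  rw [hp, hψ' z' hz'0, hz']
  abel

theorem det_extGL (φ : Emb F q n k) (g : GL (Fin k) F) :
    (φ.extGL hs g : Matrix (Fin n) (Fin n) F).det = (g : Matrix (Fin k) (Fin k) F).det := by
  let P : Matrix (Fin n) (Fin k) F := LinearMap.toMatrix' φ.toLin
  let R : Matrix (Fin k) (Fin n) F := LinearMap.toMatrix' (φ.projLin hs)
  have hRP : R * P = 1 := by
    rw [← LinearMap.toMatrix'_comp, ← LinearMap.toMatrix'_id]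
    congr 1
    exact LinearMap.ext fun u => φ.proj_toLin hs u
  have hval : (φ.extGL hs g : Matrix (Fin n) (Fin n) F) =
      1 + P * (((g : Matrix (Fin k) (Fin k) F) - 1) * R) := by
    refine Matrix.ext_of_mulVec_single fun i => ?_
    rw [φ.extGL_mulVec hs, add_mulVec, one_mulVec, ← mulVec_mulVec, ← mulVec_mulVec, sub_mulVec, one_mulVec,
      LinearMap.toMatrix'_mulVec, LinearMap.toMatrix'_mulVec]
    rfl
  rw [hval, det_one_add_mul_comm, Matrix.mul_assoc, hRP, Matrix.mul_one, add_sub_cancel]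

/-- Isometries have determinant of norm one. -/
theorem det_norm {g : GL (Fin n) F} (hg : Iso (Cfsg.hermForm n F q) g) :
    (g : Matrix (Fin n) (Fin n) F).det * σ (g : Matrix (Fin n) (Fin n) F).det = 1 := by
  have h : ((g : Matrix (Fin n) (Fin n) F))ᵀ * (g : Matrix (Fin n) (Fin n) F).map σ = 1 := by
    ext i j
    have h1 := hg (Pi.single i 1) (Pi.single j 1)
    rw [hermForm_basis hs.frob, mulVec_single_one, mulVec_single_one, hermForm_eq hs.frob] at h1
    rw [Matrix.mul_apply, Matrix.one_apply, ← h1]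
    rfl
  have h2 := congrArg Matrix.det h
  rw [det_mul, det_transpose, det_one] at h2
  rw [RingEquiv.map_det]
  exact h2

namespace Fr

variable (fr : Fr F q m)

theorem hyx : Cfsg.hermForm (m + 2) F q fr.y fr.x = 1 := by rw [(hs.form _).herm, fr.hxy, map_one]

theorem xφ (u : Fin m → F) : Cfsg.hermForm (m + 2) F q fr.x (fr.φ.toLin u) = 0 :=
  (eq_zero_comm (hs.form _)).mp (fr.φx u)

theorem yφ (u : Fin m → F) : Cfsg.hermForm (m + 2) F q fr.y (fr.φ.toLin u) = 0 :=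
  (eq_zero_comm (hs.form _)).mp (fr.φy u)

theorem proj_x : fr.φ.proj fr.x = 0 := funext fun _ => fr.xφ hs _

theorem proj_y : fr.φ.proj fr.y = 0 := funext fun _ => fr.yφ hs _

theorem x_ne : fr.x ≠ 0 := fun h => by
  have := fr.hxy
  rw [h, zero_left' (hs.form _)] at this
  exact zero_ne_one this

theorem form_decomp (z z' : Fin (m + 2) → F) : Cfsg.hermForm (m + 2) F q z z' =
    Cfsg.hermForm (m + 2) F q z fr.y * σ (Cfsg.hermForm (m + 2) F q z' fr.x) +
      Cfsg.hermForm (m + 2) F q z fr.x * σ (Cfsg.hermForm (m + 2) F q z' fr.y) +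
      Cfsg.hermForm m F q (fr.φ.proj z) (fr.φ.proj z') := by
  have hf := hs.form (m + 2)
  conv_lhs => rw [← fr.decomp z, ← fr.decomp z']
  simp only [hf.add_left, add_right' hf, hf.smul_left, smul_right' hf, fr.hxx, fr.hyy, fr.hxy, fr.hyx hs, fr.φx,
    fr.φy, fr.xφ hs, fr.yφ hs, fr.φ.iso']
  ring

/-- The action `x ↦ a x`, `y ↦ σa⁻¹ y`, `φ ↦ φ γ`. -/
structure Mov (g : GL (Fin (m + 2)) F) (a : F) (γ : GL (Fin m) F) : Prop where
  ne : a ≠ 0
  iso : Iso (Cfsg.hermForm m F q) γ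
  hx : (g : Matrix _ _ F) *ᵥ fr.x = a • fr.x
  hy : (g : Matrix _ _ F) *ᵥ fr.y = (σ a)⁻¹ • fr.y
  hφ : ∀ u, (g : Matrix _ _ F) *ᵥ fr.φ.toLin u = fr.φ.toLin ((γ : Matrix _ _ F) *ᵥ u)

/-- Elements of the group with prescribed action on the frame. -/
theorem exists_mov (hm : 1 ≤ m) (h32 : ¬(m + 2 = 3 ∧ q = 2)) {a : F} (ha : a ≠ 0) {γ : GL (Fin m) F}
    (hγ : Iso (Cfsg.hermForm m F q) γ) (hdet : (γ : Matrix (Fin m) (Fin m) F).det = σ a / a) :
    ∃ g : transvGroup σ (Cfsg.hermForm (m + 2) F q), fr.Mov (σ := σ) g.1 a γ := by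
  have hf := hs.form (m + 2)
  have hσa : σ a ≠ 0 := (map_ne_zero_iff _ σ.injective).2 ha
  have d1 : ((a - 1) • uvec (Cfsg.hermForm (m + 2) F q) fr.y) ⬝ᵥ fr.x = a - 1 := by
    rw [smul_dotProduct, uvec_dot hf, fr.hxy, smul_eq_mul, mul_one]
  have d2 : (((σ a)⁻¹ - 1) • uvec (Cfsg.hermForm (m + 2) F q) fr.x) ⬝ᵥ fr.y = (σ a)⁻¹ - 1 := by
    rw [smul_dotProduct, uvec_dot hf, fr.hyx hs, smul_eq_mul, mul_one]
  have n1 : 1 + ((a - 1) • uvec (Cfsg.hermForm (m + 2) F q) fr.y) ⬝ᵥ fr.x ≠ 0 := by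
    rw [d1, add_sub_cancel]; exact ha
  have n2 : 1 + (((σ a)⁻¹ - 1) • uvec (Cfsg.hermForm (m + 2) F q) fr.x) ⬝ᵥ fr.y ≠ 0 := by
    rw [d2, add_sub_cancel]; exact inv_ne_zero hσa
  obtain ⟨g, hg⟩ : ∃ g : GL (Fin (m + 2)) F, g = pseudo fr.x ((a - 1) • uvec (Cfsg.hermForm (m + 2) F q) fr.y) *
      pseudo fr.y (((σ a)⁻¹ - 1) • uvec (Cfsg.hermForm (m + 2) F q) fr.x) * fr.φ.extGL hs γ := ⟨_, rfl⟩
  have hext : ∀ z, (fr.φ.extGL hs γ : Matrix _ _ F) *ᵥ z = Cfsg.hermForm (m + 2) F q z fr.y • fr.x +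
      Cfsg.hermForm (m + 2) F q z fr.x • fr.y + fr.φ.toLin ((γ : Matrix _ _ F) *ᵥ fr.φ.proj z) := fun z => by
    rw [fr.φ.extGL_mulVec hs, map_sub]
    nth_rewrite 1 [← fr.decomp z]
    abel
  have key : ∀ z, (g : Matrix _ _ F) *ᵥ z = (a * Cfsg.hermForm (m + 2) F q z fr.y) • fr.x +
      ((σ a)⁻¹ * Cfsg.hermForm (m + 2) F q z fr.x) • fr.y + fr.φ.toLin ((γ : Matrix _ _ F) *ᵥ fr.φ.proj z) := by
    intro z
    rw [hg, mul_mulVec, mul_mulVec, hext, pseudo_mulVec n2, pseudo_mulVec n1]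
    simp only [smul_dotProduct, uvec_dot hf, hf.add_left, hf.smul_left, fr.hxx, fr.hyy, fr.hxy, fr.hyx hs, fr.φx,
      fr.φy, smul_eq_mul]
    module
  have hiso : Iso (Cfsg.hermForm (m + 2) F q) g := fun z z' => by
    rw [fr.form_decomp hs z z', key, key]
    simp only [hf.add_left, add_right' hf, hf.smul_left, smul_right' hf, fr.hxx, fr.hyy, fr.hxy, fr.hyx hs, fr.φx,
      fr.φy, fr.xφ hs, fr.yφ hs, fr.φ.iso', hγ _ _, map_mul, map_inv₀, hs.inv]
    field_simp
    ring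
  have hgdet : (g : Matrix (Fin (m + 2)) (Fin (m + 2)) F).det = 1 := by
    rw [hg, Units.val_mul, Units.val_mul, det_mul, det_mul, det_pseudo n1, det_pseudo n2, det_extGL hs, hdet, d1, d2]
    field_simp
    ring
  have hmem : g ∈ transvGroup σ (Cfsg.hermForm (m + 2) F q) := by
    refine mem_transvGroup_short hf (by rw [Fintype.card_fin]; omega) ?_ (hermForm_basis hs.frob) hiso hgdet
    rw [Fintype.card_fin]
    by_cases h4 : 4 ≤ m + 2
    · exact Or.inl h4
    · have := hs.two_le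
      exact Or.inr (exists_skew_ne_neg_one hs.card (by omega) hs.frob hs.inv hs.ne_refl)
  refine ⟨⟨g, hmem⟩, ha, hγ, ?_, ?_, fun u => ?_⟩
  · rw [key, fr.hxy, fr.hxx, fr.proj_x hs]
    simp
  · rw [key, fr.hyy, fr.hyx hs, fr.proj_y hs]
    simp
  · rw [key, fr.φx, fr.φy, fr.φ.proj_toLin hs]
    simp

end Fr

end CfsgLib.UnMinIndex
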