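/-
The unipotent radical at the first vector of a frame, the two invariants it attaches to a point of a finite
set acted on by the group, and the counting bound for their values.
-/
import Cfsg.Agent.Lib.UnMinIndex.Frame

set_option autoImplicit false

namespace CfsgLib.UnMinIndex

open Matrix CfsgLib.Transvec CfsgLib.Transvec.Unitary CfsgLib.Classical.Unitary
open scoped commutatorElement

/-- The parameters of the radical. -/
abbrev Rad {F : Type*} [Field F] (σ : F ≃+* F) (q m : ℕ) : Type _ :=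
  {p : (Fin m → F) × F // p.2 + σ p.2 + Cfsg.hermForm m F q p.1 p.1 = 0}

variable {F : Type*} [Field F] [Fintype F] {q : ℕ} {σ : F ≃+* F} {m n : ℕ}

local notation "𝔾" => transvGroup σ (Cfsg.hermForm (m + 2) F q)

theorem conj_eu {f : (Fin n → F) → (Fin n → F) → F} (hf : Cfsg.Geo.IsUnitaryForm σ f) {g : GL (Fin n) F}
    (hg : Iso f g) {v w : Fin n → F} (hv : f v v = 0) (hwv : f w v = 0) (b : F) :
    g * eu f v w b * g⁻¹ = eu f ((g : Matrix (Fin n) (Fin n) F) *ᵥ v) ((g : Matrix (Fin n) (Fin n) F) *ᵥ w) b := by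
  refine gl_ext fun z => ?_
  have h1 := hg (((g⁻¹ : GL (Fin n) F) : Matrix (Fin n) (Fin n) F) *ᵥ z) v
  have h2 := hg (((g⁻¹ : GL (Fin n) F) : Matrix (Fin n) (Fin n) F) *ᵥ z) w
  rw [mulVec_inv_cancel] at h1 h2
  rw [mul_mulVec, mul_mulVec, eu_mulVec hf hv hwv, eu_mulVec hf (by rw [hg]; exact hv) (by rw [hg]; exact hwv),
    mulVec_add, mulVec_add, mulVec_smul, mulVec_smul, mulVec_inv_cancel, h1, h2]

theorem eu_smul_left {f : (Fin n → F) → (Fin n → F) → F} (hf : Cfsg.Geo.IsUnitaryForm σ f) {v w : Fin n → F}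
    (hv : f v v = 0) (hwv : f w v = 0) (a b : F) :
    eu f (a • v) w b = eu f v (σ a • w) (a * σ a * b) := by
  refine gl_ext fun z => ?_
  rw [eu_mulVec hf (by rw [hf.smul_left, smul_right' hf, hv, mul_zero, mul_zero])
    (by rw [smul_right' hf, hwv, mul_zero]), eu_mulVec hf hv (by rw [hf.smul_left, hwv, mul_zero]),
    smul_right' hf, smul_right' hf, hf.involutive]
  module

variable (hs : Setup F q σ)
include hs

namespace Rad

/-- Multiplication of parameters. -/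
def mul (p p' : Rad σ q m) : Rad σ q m :=
  ⟨(p.1.1 + p'.1.1, p.1.2 + p'.1.2 - Cfsg.hermForm m F q p'.1.1 p.1.1), by
    have hf := hs.form m
    simp only [map_sub, map_add, hf.add_left, add_right' hf, ← hf.herm]
    linear_combination p.2 + p'.2⟩

/-- Inversion of parameters. -/
def inv (p : Rad σ q m) : Rad σ q m :=
  ⟨(-p.1.1, σ p.1.2), by
    have hf := hs.form m
    simp only [hs.inv, neg_left' hf]
    rw [← neg_one_smul F p.1.1, smul_right' hf, map_neg, map_one]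
    linear_combination p.2⟩

/-- The central element with parameter `c`. -/
def zr {c : F} (hc : c ∈ skew σ) : Rad σ q m :=
  ⟨(0, c), by rw [zero_left' (hs.form m), add_zero]; exact hc⟩

theorem card : Nat.card (Rad σ q m) = q ^ (2 * m) * Nat.card (skew σ) := by
  classical
  have hb : ∀ w : Fin m → F, ∃ b, b + σ b = -Cfsg.hermForm m F q w w := fun w =>
    exists_trace_eq hs.ne_refl hs.inv (by rw [map_neg, self_fixed (hs.form m)])
  choose b₀ hb₀ using hb
  let e : Rad σ q m ≃ (Fin m → F) × skew σ :=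
    { toFun := fun p => (p.1.1, ⟨p.1.2 - b₀ p.1.1, by
        rw [mem_skew, map_sub]; linear_combination p.2 - hb₀ p.1.1⟩)
      invFun := fun x => ⟨(x.1, x.2.1 + b₀ x.1), by
        have := mem_skew.1 x.2.2
        rw [map_add]; linear_combination this + hb₀ x.1⟩
      left_inv := fun p => Subtype.ext (Prod.ext rfl (sub_add_cancel _ _))
      right_inv := fun x => Prod.ext rfl (Subtype.ext (add_sub_cancel_right _ _)) }
  rw [Nat.card_congr e, Nat.card_prod, Nat.card_fun, Nat.card_eq_fintype_card, hs.card, Nat.card_fin, ← pow_mul]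

end Rad

namespace Fr

variable (hm : 2 ≤ m) (fr : Fr F q m)
include hm

/-- The element of the radical with given parameters. -/
noncomputable def rad (p : Rad σ q m) : 𝔾 :=
  ⟨eu (Cfsg.hermForm (m + 2) F q) fr.x (fr.φ.toLin p.1.1) p.1.2,
    eu_mem (hs.form (m + 2)) (by rw [Fintype.card_fin]; omega) (Or.inl (by rw [Fintype.card_fin]; omega))
      (hermForm_basis hs.frob) fr.hxx (fr.φx _) (by rw [fr.φ.iso']; exact p.2)⟩

theorem rad_mul (p p' : Rad σ q m) : fr.rad hs hm p * fr.rad hs hm p' = fr.rad hs hm (Rad.mul hs p p') := by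
  refine Subtype.ext ?_
  show eu _ _ _ _ * eu _ _ _ _ = eu _ _ _ _
  rw [eu_mul (hs.form (m + 2)) fr.hxx (fr.φx _) (fr.φx _), fr.φ.iso']
  show eu _ _ (_ + _) _ = eu _ _ (fr.φ.toLin (_ + _)) _
  rw [map_add]
  rfl

theorem rad_zero (p : Rad σ q m) (h : p.1.1 = 0) :
    (fr.rad hs hm p).1 = uT (Cfsg.hermForm (m + 2) F q) fr.x p.1.2 := by
  show eu _ _ _ _ = _
  rw [h, map_zero, eu_zero (hs.form (m + 2)) fr.hxx]

theorem rad_one (h0 : (0 : F) ∈ skew σ) : fr.rad hs hm (Rad.zr hs h0) = 1 := by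
  refine Subtype.ext ?_
  rw [fr.rad_zero hs hm _ rfl]
  exact gl_ext fun z => by
    rw [uT_mulVec (hs.form (m + 2)) fr.hxx]
    simp [Rad.zr]

theorem rad_inv (p : Rad σ q m) : (fr.rad hs hm p)⁻¹ = fr.rad hs hm (Rad.inv hs p) := by
  refine inv_eq_of_mul_eq_one_right ?_
  rw [fr.rad_mul hs hm, ← fr.rad_one hs hm (zero_mem _)]
  congr 1
  have hf := hs.form m
  refine Subtype.ext (Prod.ext (add_neg_cancel _) ?_)
  show p.1.2 + σ p.1.2 - Cfsg.hermForm m F q (-p.1.1) p.1.1 = 0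
  rw [neg_left' hf]
  linear_combination p.2

theorem rad_commutator (p p' : Rad σ q m) :
    ⁅fr.rad hs hm p, fr.rad hs hm p'⁆ = fr.rad hs hm (Rad.zr hs (imB_mem hs p.1.1 p'.1.1)) := by
  refine Subtype.ext ?_
  rw [fr.rad_zero hs hm _ rfl]
  show ⁅eu (Cfsg.hermForm (m + 2) F q) fr.x _ _, eu (Cfsg.hermForm (m + 2) F q) fr.x _ _⁆ = _
  rw [eu_commutator (hs.form (m + 2)) fr.hxx (fr.φx _) (fr.φx _), fr.φ.iso', fr.φ.iso']
  rfl

omit hm in
/-- The parameters after conjugation. -/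
def tr {g : GL (Fin (m + 2)) F} {a : F} {γ : GL (Fin m) F} (hg : fr.Mov (σ := σ) g a γ) (p : Rad σ q m) : Rad σ q m :=
  ⟨(σ a • ((γ : Matrix (Fin m) (Fin m) F) *ᵥ p.1.1), a * σ a * p.1.2), by
    have hf := hs.form m
    simp only [hf.smul_left, smul_right' hf, hg.iso _ _, map_mul, hs.inv]
    linear_combination (a * σ a) * p.2⟩

theorem rad_conj {g : 𝔾} {a : F} {γ : GL (Fin m) F} (hg : fr.Mov (σ := σ) g.1 a γ) (p : Rad σ q m) :
    g * fr.rad hs hm p * g⁻¹ = fr.rad hs hm (fr.tr hs hg p) := by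
  refine Subtype.ext ?_
  show g.1 * eu _ _ _ _ * g.1⁻¹ = eu _ _ _ _
  rw [conj_eu (hs.form (m + 2)) (transvGroup_iso (hs.form (m + 2)) g) fr.hxx (fr.φx _), hg.hx, hg.hφ,
    eu_smul_left (hs.form (m + 2)) fr.hxx (fr.φx _), ← map_smul]
  rfl

variable {X : Type*} [MulAction (transvGroup σ (Cfsg.hermForm (m + 2) F q)) X]

/-- The central parameters fixing a point. -/
def Aof (ω : X) : AddSubgroup F where
  carrier := {c | ∃ hc : c ∈ skew σ, fr.rad hs hm (Rad.zr hs hc) • ω = ω}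
  zero_mem' := ⟨zero_mem _, by rw [fr.rad_one hs hm, one_smul]⟩
  add_mem' := by
    rintro c c' ⟨hc, h⟩ ⟨hc', h'⟩
    refine ⟨add_mem hc hc', ?_⟩
    have e : fr.rad hs hm (Rad.zr hs hc) * fr.rad hs hm (Rad.zr hs hc') = fr.rad hs hm (Rad.zr hs (add_mem hc hc')) := by
      rw [fr.rad_mul hs hm]
      congr 1
      refine Subtype.ext (Prod.ext (add_zero _) ?_)
      show c + c' - Cfsg.hermForm m F q 0 0 = c + c'
      rw [zero_left' (hs.form m), sub_zero]
    rw [← e, mul_smul, h', h]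
  neg_mem' := by
    rintro c ⟨hc, h⟩
    refine ⟨neg_mem hc, ?_⟩
    have e : (fr.rad hs hm (Rad.zr hs hc))⁻¹ = fr.rad hs hm (Rad.zr hs (neg_mem hc)) := by
      rw [fr.rad_inv hs hm]
      congr 1
      refine Subtype.ext (Prod.ext (neg_zero (G := Fin m → F)) ?_)
      show σ c = -c
      linear_combination mem_skew.1 hc
    rw [← e]
    exact inv_smul_eq_iff.2 h.symm

/-- The images of the parameters fixing a point. -/
def Wof (ω : X) : AddSubgroup (Fin m → F) where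
  carrier := {w | ∃ p : Rad σ q m, p.1.1 = w ∧ fr.rad hs hm p • ω = ω}
  zero_mem' := ⟨Rad.zr hs (zero_mem _), rfl, by rw [fr.rad_one hs hm, one_smul]⟩
  add_mem' := by
    rintro _ _ ⟨p, rfl, h⟩ ⟨p', rfl, h'⟩
    exact ⟨Rad.mul hs p p', rfl, by rw [← fr.rad_mul hs hm, mul_smul, h', h]⟩
  neg_mem' := by
    rintro _ ⟨p, rfl, h⟩
    exact ⟨Rad.inv hs p, rfl, by rw [← fr.rad_inv hs hm]; exact inv_smul_eq_iff.2 h.symm⟩

/-- The pair of invariants. -/
def inv (ω : X) : AddSubgroup F × AddSubgroup (Fin m → F) := (fr.Aof hs hm ω, fr.Wof hs hm ω)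

theorem Aof_le (ω : X) : fr.Aof hs hm ω ≤ skew σ := fun _ h => h.1

theorem imB_mem_Aof (ω : X) {w w' : Fin m → F} (hw : w ∈ fr.Wof hs hm ω) (hw' : w' ∈ fr.Wof hs hm ω) :
    imB m q w w' ∈ fr.Aof hs hm ω := by
  obtain ⟨p, rfl, h⟩ := hw
  obtain ⟨p', rfl, h'⟩ := hw'
  refine ⟨imB_mem hs _ _, ?_⟩
  rw [← fr.rad_commutator hs hm, commutatorElement_def, mul_smul, mul_smul, mul_smul, inv_smul_eq_iff.2 h'.symm,
    inv_smul_eq_iff.2 h.symm, h', h]

theorem inv_rad_le (r : Rad σ q m) (ω : X) :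
    fr.Aof hs hm ω ≤ fr.Aof hs hm (fr.rad hs hm r • ω) ∧ fr.Wof hs hm ω ≤ fr.Wof hs hm (fr.rad hs hm r • ω) := by
  have hf := hs.form m
  constructor
  · rintro c ⟨hc, h⟩
    refine ⟨hc, ?_⟩
    have e : fr.rad hs hm (Rad.zr hs hc) * fr.rad hs hm r = fr.rad hs hm r * fr.rad hs hm (Rad.zr hs hc) := by
      rw [fr.rad_mul hs hm, fr.rad_mul hs hm]
      congr 1
      refine Subtype.ext (Prod.ext (add_comm _ _) ?_)
      show c + r.1.2 - Cfsg.hermForm m F q r.1.1 0 = r.1.2 + c - Cfsg.hermForm m F q 0 r.1.1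
      rw [zero_left' hf, zero_right' hf]
      ring
    rw [← mul_smul, e, mul_smul, h]
  · rintro _ ⟨p, rfl, h⟩
    refine ⟨Rad.mul hs (Rad.mul hs r p) (Rad.inv hs r), ?_, ?_⟩
    · show r.1.1 + p.1.1 + -r.1.1 = p.1.1
      abel
    · rw [← fr.rad_mul hs hm, ← fr.rad_mul hs hm, ← fr.rad_inv hs hm, mul_smul, mul_smul, inv_smul_smul, h]

theorem inv_rad (r : Rad σ q m) (ω : X) : fr.inv hs hm (fr.rad hs hm r • ω) = fr.inv hs hm ω := by
  have h1 := fr.inv_rad_le hs hm r ω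
  have h2 := fr.inv_rad_le hs hm (Rad.inv hs r) (fr.rad hs hm r • ω)
  rw [← fr.rad_inv hs hm, inv_smul_smul] at h2
  exact Prod.ext (le_antisymm h2.1 h1.1) (le_antisymm h2.2 h1.2)

theorem Aof_mov {g : 𝔾} {a : F} {γ : GL (Fin m) F} (hg : fr.Mov (σ := σ) g.1 a γ) (ω : X) (c : F) :
    a * σ a * c ∈ fr.Aof hs hm (g • ω) ↔ c ∈ fr.Aof hs hm ω := by
  have hr : a * σ a ≠ 0 := mul_ne_zero hg.ne ((map_ne_zero_iff _ σ.injective).2 hg.ne)
  have hfix : σ (a * σ a) = a * σ a := by rw [map_mul, hs.inv, mul_comm]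
  have key : ∀ (hc : c ∈ skew σ) (hc' : a * σ a * c ∈ skew σ),
      fr.rad hs hm (Rad.zr hs hc') = g * fr.rad hs hm (Rad.zr hs hc) * g⁻¹ := fun hc hc' => by
    rw [fr.rad_conj hs hm hg]
    congr 1
    refine Subtype.ext (Prod.ext ?_ rfl)
    show (0 : Fin m → F) = σ a • ((γ : Matrix (Fin m) (Fin m) F) *ᵥ (0 : Fin m → F))
    rw [mulVec_zero, smul_zero]
  constructor
  · rintro ⟨hc', h⟩
    have hc : c ∈ skew σ := by
      have := mem_skew.1 hc'
      rw [map_mul, hfix, ← mul_add, mul_eq_zero] at this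
      exact mem_skew.2 (this.resolve_left hr)
    refine ⟨hc, ?_⟩
    rw [key hc hc', mul_smul, mul_smul, inv_smul_smul] at h
    exact smul_left_cancel g h
  · rintro ⟨hc, h⟩
    have hc' : a * σ a * c ∈ skew σ := mem_skew.2 (by rw [map_mul, hfix, ← mul_add, mem_skew.1 hc, mul_zero])
    exact ⟨hc', by rw [key hc hc', mul_smul, mul_smul, inv_smul_smul, h]⟩

theorem Wof_mov {g : 𝔾} {a : F} {γ : GL (Fin m) F} (hg : fr.Mov (σ := σ) g.1 a γ) (ω : X) (w : Fin m → F) :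
    σ a • ((γ : Matrix (Fin m) (Fin m) F) *ᵥ w) ∈ fr.Wof hs hm (g • ω) ↔ w ∈ fr.Wof hs hm ω := by
  constructor
  · rintro ⟨p, hp, h⟩
    have hf := hs.form m
    obtain ⟨p₀, hp₀⟩ : ∃ p₀ : Rad σ q m, fr.tr hs hg p₀ = p := by
      refine ⟨⟨(w, (a * σ a)⁻¹ * p.1.2), ?_⟩, ?_⟩
      · have e := p.2
        rw [hp, hf.smul_left, smul_right' hf, hg.iso, hs.inv] at e
        have hσa : σ a ≠ 0 := (map_ne_zero_iff _ σ.injective).2 hg.ne
        have := hg.ne
        simp only [map_mul, map_inv₀, hs.inv]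
        field_simp
        linear_combination e
      · refine Subtype.ext (Prod.ext hp.symm ?_)
        exact mul_inv_cancel_left₀ (mul_ne_zero hg.ne ((map_ne_zero_iff _ σ.injective).2 hg.ne)) _
    have hσa : σ a ≠ 0 := (map_ne_zero_iff _ σ.injective).2 hg.ne
    refine ⟨p₀, ?_, ?_⟩
    · have e : σ a • ((γ : Matrix (Fin m) (Fin m) F) *ᵥ p₀.1.1) = σ a • ((γ : Matrix (Fin m) (Fin m) F) *ᵥ w) := by
        rw [← hp, ← hp₀]; rfl
      have e' := congrArg (fun z => ((γ⁻¹ : GL (Fin m) F) : Matrix (Fin m) (Fin m) F) *ᵥ z) (smul_right_injective _ hσa e)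
      simpa [← mul_mulVec] using e'
    · rw [← hp₀, ← fr.rad_conj hs hm hg, mul_smul, mul_smul, inv_smul_smul] at h
      exact smul_left_cancel g h
  · rintro ⟨p, rfl, h⟩
    exact ⟨fr.tr hs hg p, rfl, by rw [← fr.rad_conj hs hm hg, mul_smul, mul_smul, inv_smul_smul, h]⟩

/-- Distinct values of the invariants cost points. -/
theorem card_inv_le [Finite X] (P : Finset (AddSubgroup F × AddSubgroup (Fin m → F))) (K : ℕ)
    (hP : ∀ p ∈ P, ∃ ω : X, fr.inv hs hm ω = p) (hK : ∀ p ∈ P, Nat.card p.1 * Nat.card p.2 ≤ K) :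
    P.card * Nat.card (Rad σ q m) ≤ K * Nat.card X := by
  classical
  haveI := Fintype.ofFinite X
  haveI : Fintype (Rad σ q m) := Fintype.ofFinite _
  choose ω hω using hP
  rw [Nat.card_eq_fintype_card, Nat.card_eq_fintype_card]
  let Φ : {p // p ∈ P} × Rad σ q m → X := fun x => fr.rad hs hm x.2 • ω x.1.1 x.1.2
  have hcard : (Finset.univ : Finset ({p // p ∈ P} × Rad σ q m)).card = P.card * Fintype.card (Rad σ q m) := by
    rw [Finset.card_univ, Fintype.card_prod, Fintype.card_coe]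
  rw [← hcard, ← Finset.card_univ (α := X)]
  refine Finset.card_le_mul_card_image_of_maps_to (f := Φ) (fun x _ => Finset.mem_univ _) K fun z _ => ?_
  by_cases hne : ∃ x, Φ x = z
  swap
  · rw [Finset.card_eq_zero.2 (Finset.filter_eq_empty_iff.2 fun x _ h => hne ⟨x, h⟩)]
    exact Nat.zero_le _
  obtain ⟨x₀, hx₀⟩ := hne
  have hsame : ∀ x, Φ x = z → x.1 = x₀.1 := fun x hx => Subtype.ext (by
    rw [← hω x.1.1 x.1.2, ← hω x₀.1.1 x₀.1.2]
    exact (fr.inv_rad hs hm x.2 _).symm.trans ((congrArg (fr.inv hs hm) (hx.trans hx₀.symm)).trans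
      (fr.inv_rad hs hm x₀.2 _)))
  set ω₀ := ω x₀.1.1 x₀.1.2 with hω₀def
  have hfix : ∀ x, Φ x = z → fr.rad hs hm (Rad.mul hs (Rad.inv hs x₀.2) x.2) • ω₀ = ω₀ := fun x hx => by
    obtain ⟨y, r⟩ := x
    obtain rfl : y = x₀.1 := hsame _ hx
    rw [← fr.rad_mul hs hm, ← fr.rad_inv hs hm, mul_smul]
    show (fr.rad hs hm x₀.2)⁻¹ • Φ (x₀.1, r) = ω₀
    rw [hx, ← hx₀, inv_smul_smul]
  have hw : ∀ w : fr.Wof hs hm ω₀, ∃ p : Rad σ q m, p.1.1 = w.1 ∧ fr.rad hs hm p • ω₀ = ω₀ := fun w => w.2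
  choose sel hsel using hw
  have hWmem : ∀ x, Φ x = z → (Rad.mul hs (Rad.inv hs x₀.2) x.2).1.1 ∈ fr.Wof hs hm ω₀ := fun x hx =>
    ⟨_, rfl, hfix x hx⟩
  have hAmem : ∀ x (hx : Φ x = z),
      (Rad.mul hs (Rad.inv hs x₀.2) x.2).1.2 - (sel ⟨_, hWmem x hx⟩).1.2 ∈ fr.Aof hs hm ω₀ := by
    intro x hx
    have hf := hs.form m
    set p := Rad.mul hs (Rad.inv hs x₀.2) x.2
    obtain ⟨e1, e2⟩ := hsel ⟨_, hWmem x hx⟩
    set p₁ := sel ⟨_, hWmem x hx⟩
    have hsk : p.1.2 - p₁.1.2 ∈ skew σ := by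
      have h1 := p.2
      have h2 := p₁.2
      rw [e1] at h2
      rw [mem_skew, map_sub]
      linear_combination h1 - h2
    refine ⟨hsk, ?_⟩
    have e : Rad.mul hs (Rad.inv hs p₁) p = Rad.zr hs hsk := by
      refine Subtype.ext (Prod.ext ?_ ?_)
      · show -p₁.1.1 + p.1.1 = 0
        rw [e1]
        exact neg_add_cancel _
      · show σ p₁.1.2 + p.1.2 - Cfsg.hermForm m F q p.1.1 (-p₁.1.1) = p.1.2 - p₁.1.2
        have h2 := p₁.2
        rw [e1] at h2 ⊢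
        rw [← neg_one_smul F p.1.1, smul_right' hf, map_neg, map_one]
        linear_combination h2
    rw [← e, ← fr.rad_mul hs hm, ← fr.rad_inv hs hm, mul_smul, hfix x hx]
    exact inv_smul_eq_iff.2 e2.symm
  refine le_trans ?_ (hK x₀.1.1 x₀.1.2)
  have hK' : Nat.card x₀.1.1.1 * Nat.card x₀.1.1.2 = Nat.card ((fr.Aof hs hm ω₀) × (fr.Wof hs hm ω₀)) := by
    rw [Nat.card_prod, ← hω x₀.1.1 x₀.1.2]
    rfl
  rw [hK', ← Fintype.card_coe, ← Nat.card_eq_fintype_card]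
  refine Nat.card_le_card_of_injective
    (fun x => (⟨_, hAmem x.1 (Finset.mem_filter.1 x.2).2⟩, ⟨_, hWmem x.1 (Finset.mem_filter.1 x.2).2⟩)) ?_
  intro x x' e
  have e2 := congrArg (fun t => (t.2 : Fin m → F)) e
  have e1 := congrArg (fun t => (t.1 : F)) e
  simp only at e1 e2
  have eW : (⟨_, hWmem x.1 (Finset.mem_filter.1 x.2).2⟩ : fr.Wof hs hm ω₀) = ⟨_, hWmem x'.1 (Finset.mem_filter.1 x'.2).2⟩ :=
    Subtype.ext e2
  rw [eW, sub_left_inj] at e1
  have hp : Rad.mul hs (Rad.inv hs x₀.2) x.1.2 = Rad.mul hs (Rad.inv hs x₀.2) x'.1.2 := Subtype.ext (Prod.ext e2 e1)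
  have hr : x.1.2 = x'.1.2 := by
    have hw' : x.1.2.1.1 = x'.1.2.1.1 := add_left_cancel e2
    refine Subtype.ext (Prod.ext hw' ?_)
    have e1' : σ x₀.2.1.2 + x.1.2.1.2 - Cfsg.hermForm m F q x.1.2.1.1 (-x₀.2.1.1) =
        σ x₀.2.1.2 + x'.1.2.1.2 - Cfsg.hermForm m F q x'.1.2.1.1 (-x₀.2.1.1) := e1
    rw [hw'] at e1'
    linear_combination e1'
  exact Subtype.ext (Prod.ext ((hsame _ (Finset.mem_filter.1 x.2).2).trans (hsame _ (Finset.mem_filter.1 x'.2).2).symm) hr)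

end Fr

end CfsgLib.UnMinIndex
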