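/-
Maps of the middle space with prescribed determinant, transitivity on vectors and pairs, and counts of scalars
and partners.
-/
import Cfsg.Agent.Lib.UnMinIndex.Radical

set_option autoImplicit false

namespace CfsgLib.UnMinIndex

open Matrix CfsgLib.Transvec CfsgLib.Transvec.Unitary CfsgLib.Classical.Unitary

variable {F : Type*} [Field F] [Fintype F] {q : ℕ} {σ : F ≃+* F} {m n k : ℕ}

variable (hs : Setup F q σ)
include hs

theorem card_fixd : Nat.card (fixd σ) = q := by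
  classical
  have h0 : (0 : F) ∈ Finset.univ.filter (fun r : F => σ r = r) := by simp
  have hc : Nat.card (fixd σ) = (Finset.univ.filter (fun r : F => σ r = r)).card := by
    rw [← Fintype.card_subtype, ← Nat.card_eq_fintype_card]
    rfl
  have h := Finset.card_eq_sum_card_fiberwise (s := (Finset.univ : Finset F))
    (t := Finset.univ.filter fun r : F => σ r = r) (f := fun a => a * σ a)
    (fun a _ => Finset.mem_filter.2 ⟨Finset.mem_univ _, by rw [map_mul, hs.inv, mul_comm]⟩)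
  rw [← Finset.add_sum_erase _ _ h0] at h
  have hfib0 : (Finset.univ.filter fun a : F => a * σ a = 0) = {0} := by
    ext a
    simp
  have hsum : ∀ r ∈ (Finset.univ.filter fun r : F => σ r = r).erase 0,
      (Finset.univ.filter fun a : F => a * σ a = r).card = q + 1 := fun r hr => by
    rw [Finset.mem_erase, Finset.mem_filter] at hr
    exact norm_fibre_card hs hr.2.2 hr.1
  rw [hfib0, Finset.card_singleton, Finset.sum_congr rfl hsum, Finset.sum_const, Finset.card_erase_of_mem h0, ← hc,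
    Finset.card_univ, hs.card, smul_eq_mul] at h
  obtain ⟨i, hi⟩ : ∃ i, Nat.card (fixd σ) = i + 1 := ⟨Nat.card (fixd σ) - 1, by
    have : 0 < Nat.card (fixd σ) := Nat.card_pos
    omega⟩
  obtain ⟨j, rfl⟩ : ∃ j, q = j + 1 := ⟨q - 1, by have := hs.two_le; omega⟩
  rw [hi, Nat.add_sub_cancel] at h
  rw [hi]
  have : i = j := by nlinarith
  omega

theorem card_skew : Nat.card (skew σ) = q := by
  obtain ⟨c, hc0, hc⟩ := exists_skew hs.ne_refl hs.inv
  refine (Nat.card_congr ?_).trans (card_fixd hs)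
  exact
    { toFun := fun x => ⟨x.1 / c, by
        rw [mem_fixd, map_div₀, div_eq_div_iff ((map_ne_zero_iff _ σ.injective).2 hc0) hc0]
        linear_combination c * mem_skew.1 x.2 - x.1 * hc⟩
      invFun := fun r => ⟨r.1 * c, by rw [mem_skew, map_mul, mem_fixd.1 r.2, ← mul_add, hc, mul_zero]⟩
      left_inv := fun x => Subtype.ext (div_mul_cancel₀ _ hc0)
      right_inv := fun r => Subtype.ext (mul_div_cancel_right₀ _ hc0) }

theorem Rad.card_eq : Nat.card (Rad σ q m) = q ^ (2 * m + 1) := by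
  rw [Rad.card hs, card_skew hs, pow_succ]

theorem iso_qR' {x : Fin n → F} (hx : Cfsg.hermForm n F q x x = 1) {l : F} (hl : l * σ l = 1) :
    Iso (Cfsg.hermForm n F q) (qR (Cfsg.hermForm n F q) x l) := iso_qR (hs.form n) hx hl

/-- Isometries with prescribed determinant moving one anisotropic vector to a multiple of another. -/
theorem exists_move_aniso (hm : 2 ≤ m) {a : F} (ha : a ≠ 0) {v v' : Fin m → F}
    (hv : Cfsg.hermForm m F q v v ≠ 0)
    (hv' : Cfsg.hermForm m F q v' v' = a * σ a * Cfsg.hermForm m F q v v) :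
    ∃ γ : GL (Fin m) F, Iso (Cfsg.hermForm m F q) γ ∧ (γ : Matrix (Fin m) (Fin m) F).det = σ a / a ∧
      σ a • ((γ : Matrix (Fin m) (Fin m) F) *ᵥ v) = v' := by
  have hf := hs.form m
  obtain ⟨k, rfl⟩ : ∃ k, m = k + 1 + 1 := ⟨m - 2, by omega⟩
  obtain ⟨s, hs'⟩ := CfsgLib.Transvec.Unitary.exists_norm_eq hs.ne_refl hs.inv
    (b := (Cfsg.hermForm (k + 1 + 1) F q v v)⁻¹) (by rw [map_inv₀, self_fixed hf])
  have hs0 : s ≠ 0 := fun h => inv_ne_zero hv (by rw [← hs', h, zero_mul])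
  have hσa : σ a ≠ 0 := (map_ne_zero_iff _ σ.injective).2 ha
  obtain ⟨e, he⟩ : ∃ e, e = s • v := ⟨_, rfl⟩
  obtain ⟨e', he'⟩ : ∃ e', e' = (s * (σ a)⁻¹) • v' := ⟨_, rfl⟩
  have hee : Cfsg.hermForm (k + 1 + 1) F q e e = 1 := by
    rw [he, hf.smul_left, smul_right' hf, ← mul_assoc, hs', inv_mul_cancel₀ hv]
  have hee' : Cfsg.hermForm (k + 1 + 1) F q e' e' = 1 := by
    rw [he', hf.smul_left, smul_right' hf, hv', map_mul, map_inv₀, hs.inv]
    field_simp
    rw [← hee, he, hf.smul_left, smul_right' hf]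
    ring
  let φ₁ := embOfFamily hs ![e] (fun i j => by fin_cases i; fin_cases j; simpa using hee)
  let φ₂ := embOfFamily hs ![e'] (fun i j => by fin_cases i; fin_cases j; simpa using hee')
  obtain ⟨ψ₁, hψ₁, hψ₁'⟩ := exists_complement hs φ₁
  obtain ⟨ψ₂, hψ₂, hψ₂'⟩ := exists_complement hs φ₂
  have hφ₁ : ∀ z, φ₁.proj z = 0 ↔ Cfsg.hermForm (k + 1 + 1) F q z e = 0 := fun z => by
    have : φ₁.toLin (Pi.single 0 1) = e := by
      show Fintype.linearCombination F ![e] (Pi.single 0 1) = _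
      simp [Fintype.linearCombination_apply_single]
    constructor
    · intro h
      rw [← this]
      exact congrFun h 0
    · intro h
      funext i
      fin_cases i
      show Cfsg.hermForm (k + 1 + 1) F q z (φ₁.toLin (Pi.single 0 1)) = 0
      rw [this, h]
  have hφ₂ : ∀ u, Cfsg.hermForm (k + 1 + 1) F q (ψ₂.toLin u) e' = 0 := fun u => by
    have h := congrFun (hψ₂ u) 0
    have : φ₂.toLin (Pi.single 0 1) = e' := by
      show Fintype.linearCombination F ![e'] (Pi.single 0 1) = _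
      simp [Fintype.linearCombination_apply_single]
    rw [← this]
    exact h
  let T : (Fin (k + 1 + 1) → F) →ₗ[F] (Fin (k + 1 + 1) → F) :=
    (linL hf e).smulRight e' + ψ₂.toLin.comp (ψ₁.projLin hs)
  have hT : ∀ z, T z = Cfsg.hermForm (k + 1 + 1) F q z e • e' + ψ₂.toLin (ψ₁.proj z) := fun z => rfl
  have hdec : ∀ z z', Cfsg.hermForm (k + 1 + 1) F q z z' = Cfsg.hermForm (k + 1 + 1) F q z e *
      σ (Cfsg.hermForm (k + 1 + 1) F q z' e) + Cfsg.hermForm (k + 1 + 1 - 1) F q (ψ₁.proj z) (ψ₁.proj z') := by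
    intro z z'
    obtain ⟨r, hr⟩ : ∃ r, r = z' - Cfsg.hermForm (k + 1 + 1) F q z' e • e := ⟨_, rfl⟩
    have hre : φ₁.proj r = 0 := (hφ₁ _).2 (by rw [hr, sub_left' hf, hf.smul_left, hee, mul_one, sub_self])
    have hp : ψ₁.proj r = ψ₁.proj z' := by
      funext i
      have e0 : Cfsg.hermForm (k + 1 + 1) F q e (ψ₁.toLin (Pi.single i 1)) = 0 :=
        (eq_zero_comm hf).mp ((hφ₁ _).1 (hψ₁ _))
      show Cfsg.hermForm (k + 1 + 1) F q r (ψ₁.toLin (Pi.single i 1)) = _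
      rw [hr, sub_left' hf, hf.smul_left, e0, mul_zero, sub_zero]
      rfl
    have hz' : z' = Cfsg.hermForm (k + 1 + 1) F q z' e • e + ψ₁.toLin (ψ₁.proj z') := by
      rw [← hp, hψ₁' r hre, hr, add_sub_cancel]
    conv_lhs => rw [hz', add_right' hf, smul_right' hf, ψ₁.form_toLin hs]
    ring
  have hTiso : ∀ z z', Cfsg.hermForm (k + 1 + 1) F q (T z) (T z') = Cfsg.hermForm (k + 1 + 1) F q z z' := by
    intro z z'
    rw [hdec z z', hT, hT]
    simp only [hf.add_left, add_right' hf, hf.smul_left, smul_right' hf, hee', hφ₂,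
      (eq_zero_comm hf).mp (hφ₂ _), ψ₂.iso']
    ring
  have hinj : Function.Injective (LinearMap.toMatrix' T).mulVec := by
    intro z z' h
    rw [LinearMap.toMatrix'_mulVec, LinearMap.toMatrix'_mulVec] at h
    by_contra hne
    obtain ⟨y, hy⟩ := (hf.nondegenerate _ (sub_ne_zero.2 hne)).2
    refine hy ?_
    rw [← hTiso, map_sub, h, sub_self, zero_left' hf]
  let g := (Matrix.mulVec_injective_iff_isUnit.1 hinj).unit
  have hgv : ∀ z, (g : Matrix (Fin (k + 1 + 1)) (Fin (k + 1 + 1)) F) *ᵥ z = T z :=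
    fun z => LinearMap.toMatrix'_mulVec _ _
  have hgiso : Iso (Cfsg.hermForm (k + 1 + 1) F q) g := fun z z' => by rw [hgv, hgv, hTiso]
  have hge : T e = e' := by
    rw [hT, hee, one_smul]
    have : ψ₁.proj e = 0 := funext fun i => (eq_zero_comm hf).mp ((hφ₁ _).1 (hψ₁ _))
    rw [this, map_zero, add_zero]
  obtain ⟨u, hu⟩ : ∃ u, u = ψ₂.toLin (Pi.single (0 : Fin (k + 1)) 1) := ⟨_, rfl⟩
  have huu : Cfsg.hermForm (k + 1 + 1) F q u u = 1 := by
    rw [hu, ψ₂.iso']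
    exact (hermForm_basis hs.frob _ _).trans (if_pos rfl)
  have heu : Cfsg.hermForm (k + 1 + 1) F q e' u = 0 := hu ▸ (eq_zero_comm hf).mp (hφ₂ _)
  obtain ⟨d, hd⟩ : ∃ d, d = (g : Matrix (Fin (k + 1 + 1)) (Fin (k + 1 + 1)) F).det := ⟨_, rfl⟩
  have hdn : d * σ d = 1 := hd ▸ det_norm hs hgiso
  have hd0 : d ≠ 0 := left_ne_zero_of_mul_eq_one hdn
  obtain ⟨l, hl⟩ : ∃ l, l = σ a / a / d := ⟨_, rfl⟩
  have hln : l * σ l = 1 := by
    rw [hl, map_div₀, map_div₀, hs.inv]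
    have hσd : σ d ≠ 0 := (map_ne_zero_iff _ σ.injective).2 hd0
    field_simp
    linear_combination -hdn
  refine ⟨qR (Cfsg.hermForm (k + 1 + 1) F q) u l * g, (iso_qR hf huu hln).mul hgiso, ?_, ?_⟩
  · rw [Units.val_mul, det_mul, det_qR hf huu hln, ← hd, hl, div_mul_cancel₀ _ hd0]
  · have hgv' : (g : Matrix (Fin (k + 1 + 1)) (Fin (k + 1 + 1)) F) *ᵥ v = (σ a)⁻¹ • v' := by
      have e1 : T (s • v) = e' := he ▸ hge
      rw [map_smul, he', mul_smul] at e1
      rw [hgv]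
      exact smul_right_injective _ hs0 e1
    have hfix : (qR (Cfsg.hermForm (k + 1 + 1) F q) u l : Matrix _ _ F) *ᵥ ((σ a)⁻¹ • v') = (σ a)⁻¹ • v' := by
      have h0 : Cfsg.hermForm (k + 1 + 1) F q ((σ a)⁻¹ • v') u = 0 := by
        have h := heu
        rw [he', hf.smul_left, mul_eq_zero, mul_eq_zero] at h
        rw [hf.smul_left, (h.resolve_left (by simp [hs0, hσa]))]
        ring
      rw [qR_mulVec hf huu hln, h0]
      simp
    rw [mul_mulVec, hgv', hfix, smul_smul, mul_inv_cancel₀ hσa, one_smul]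

/-- Isometries with prescribed determinant moving one singular pair to a multiple of another. -/
theorem exists_move_pair (hm : 4 ≤ m) {v z v' z' : Fin m → F} {d d' : F} (hd : d ∈ skew σ) (hd0 : d ≠ 0)
    (hd' : d' ∈ skew σ) (hd0' : d' ≠ 0) (hvv : Cfsg.hermForm m F q v v = 0)
    (hzz : Cfsg.hermForm m F q z z = 0) (hvz : Cfsg.hermForm m F q v z = d)
    (hvv' : Cfsg.hermForm m F q v' v' = 0) (hzz' : Cfsg.hermForm m F q z' z' = 0)
    (hvz' : Cfsg.hermForm m F q v' z' = d') :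
    ∃ (a : F) (γ : GL (Fin m) F), a ≠ 0 ∧ Iso (Cfsg.hermForm m F q) γ ∧
      (γ : Matrix (Fin m) (Fin m) F).det = σ a / a ∧ σ a • ((γ : Matrix (Fin m) (Fin m) F) *ᵥ v) = v' ∧
      σ a • ((γ : Matrix (Fin m) (Fin m) F) *ᵥ z) = z' := by
  have hf := hs.form m
  have hσd : σ d = -d := by linear_combination mem_skew.1 hd
  have hσd' : σ d' = -d' := by linear_combination mem_skew.1 hd'
  obtain ⟨a, ha⟩ := CfsgLib.Transvec.Unitary.exists_norm_eq hs.ne_refl hs.inv (b := d' / d)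
    (by rw [map_div₀, hσd, hσd', neg_div_neg_eq])
  have ha0 : a ≠ 0 := fun h => div_ne_zero hd0' hd0 (by rw [← ha, h, zero_mul])
  have hσa : σ a ≠ 0 := (map_ne_zero_iff _ σ.injective).2 ha0
  obtain ⟨v₁, hv₁⟩ : ∃ v₁, v₁ = (σ a)⁻¹ • v' := ⟨_, rfl⟩
  obtain ⟨z₁, hz₁⟩ : ∃ z₁, z₁ = (σ a)⁻¹ • z' := ⟨_, rfl⟩
  have hv₁v₁ : Cfsg.hermForm m F q v₁ v₁ = 0 := by rw [hv₁, hf.smul_left, smul_right' hf, hvv', mul_zero, mul_zero]
  have hz₁z₁ : Cfsg.hermForm m F q z₁ z₁ = 0 := by rw [hz₁, hf.smul_left, smul_right' hf, hzz', mul_zero, mul_zero]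
  have hv₁z₁ : Cfsg.hermForm m F q v₁ z₁ = d := by
    rw [hv₁, hz₁, hf.smul_left, smul_right' hf, hvz', map_inv₀, hs.inv]
    have := ha
    field_simp at this ⊢
    linear_combination -this
  have hv0 : v ≠ 0 := fun h => hd0 (by rw [← hvz, h, zero_left' hf])
  have hv₁0 : v₁ ≠ 0 := fun h => hd0 (by rw [← hv₁z₁, h, zero_left' hf])
  have hdim : 3 ≤ Fintype.card (Fin m) := by rw [Fintype.card_fin]; omega
  have hsk : 4 ≤ Fintype.card (Fin m) ∨ ∃ c : F, c ≠ 0 ∧ c + σ c = 0 ∧ 1 + c ≠ 0 :=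
    Or.inl (by rw [Fintype.card_fin]; omega)
  obtain ⟨g₁, hg₁⟩ := exists_move_iso hf hdim hsk (hermForm_basis hs.frob) hvv hv₁v₁ hv0 hv₁0
  have hi₁ := transvGroup_iso hf g₁
  obtain ⟨z₂, hz₂⟩ : ∃ z₂, z₂ = (g₁.1 : Matrix (Fin m) (Fin m) F) *ᵥ z := ⟨_, rfl⟩
  have hz₂z₂ : Cfsg.hermForm m F q z₂ z₂ = 0 := by rw [hz₂, hi₁, hzz]
  have hv₁z₂ : Cfsg.hermForm m F q v₁ z₂ = d := by rw [hz₂, ← hg₁, hi₁, hvz]
  obtain ⟨g₂, hg₂v, hg₂z⟩ := exists_move_partner hf hdim hsk (hermForm_basis hs.frob) hv₁v₁ hz₂z₂ hz₁z₁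
    (by rw [hf.herm, hv₁z₂, hf.herm z₁, hv₁z₁]) (by
      rw [hf.herm, hv₁z₂]; exact (map_ne_zero_iff _ σ.injective).2 hd0)
  obtain ⟨k, rfl⟩ : ∃ k, m = k + 2 := ⟨m - 2, by omega⟩
  obtain ⟨fr, hfx, hfy⟩ := exists_fr hs (x := v₁) (y := (σ d)⁻¹ • z₁) hv₁v₁
    (by rw [hf.smul_left, smul_right' hf, hz₁z₁, mul_zero, mul_zero])
    (by rw [smul_right' hf, hv₁z₁, map_inv₀, hs.inv, inv_mul_cancel₀ hd0])
  obtain ⟨u, hu⟩ : ∃ u, u = fr.φ.toLin (Pi.single ⟨0, by omega⟩ 1) := ⟨_, rfl⟩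
  have huu : Cfsg.hermForm (k + 2) F q u u = 1 := by
    rw [hu, fr.φ.iso', hermForm_basis hs.frob, if_pos rfl]
  obtain ⟨l, hl⟩ : ∃ l, l = σ a / a := ⟨_, rfl⟩
  have hln : l * σ l = 1 := by rw [hl, map_div₀, hs.inv]; field_simp
  have hvu : Cfsg.hermForm (k + 2) F q v₁ u = 0 := by rw [hu, ← hfx]; exact fr.xφ hs _
  have hzu : Cfsg.hermForm (k + 2) F q z₁ u = 0 := by
    have h := fr.yφ hs (Pi.single ⟨0, by omega⟩ 1)
    rw [hfy, ← hu, hf.smul_left, mul_eq_zero] at h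
    exact h.resolve_left (inv_ne_zero ((map_ne_zero_iff _ σ.injective).2 hd0))
  refine ⟨a, qR (Cfsg.hermForm (k + 2) F q) u l * (g₂.1 * g₁.1), ha0,
    (iso_qR hf huu hln).mul ((transvGroup_iso hf g₂).mul hi₁), ?_, ?_, ?_⟩
  · rw [Units.val_mul, Units.val_mul, det_mul, det_mul, det_qR hf huu hln, (transvGroup_le hf g₂.2).2,
      (transvGroup_le hf g₁.2).2, mul_one, mul_one, hl]
  · rw [mul_mulVec, mul_mulVec, hg₁, hg₂v, qR_mulVec hf huu hln, hvu, mul_zero, zero_smul, add_zero, hv₁,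
      smul_smul, mul_inv_cancel₀ hσa, one_smul]
  · rw [mul_mulVec, mul_mulVec, ← hz₂, hg₂z, qR_mulVec hf huu hln, hzu, mul_zero, zero_smul, add_zero, hz₁,
      smul_smul, mul_inv_cancel₀ hσa, one_smul]

/-- Singular partners with a given product. -/
theorem card_partners {v : Fin (k + 2) → F} (hv0 : v ≠ 0) (hv : Cfsg.hermForm (k + 2) F q v v = 0) {d : F}
    (hd0 : d ≠ 0) :
    q ^ (2 * k + 1) ≤ Nat.card {z : Fin (k + 2) → F //
      Cfsg.hermForm (k + 2) F q z z = 0 ∧ Cfsg.hermForm (k + 2) F q v z = d} := by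
  have hf := hs.form (k + 2)
  obtain ⟨z, hz, hzv⟩ := exists_iso_partner hf hv hv0
  obtain ⟨fr, hfx, -⟩ := exists_fr hs hv hz (by rw [hf.herm, hzv, map_one])
  rw [← Rad.card_eq hs]
  refine Nat.card_le_card_of_injective (fun p : Rad σ q k =>
    ⟨σ d • (p.1.2 • fr.x + fr.y + fr.φ.toLin p.1.1), ?_, ?_⟩) fun p p' e => ?_
  · simp only [hf.smul_left, smul_right' hf, hf.add_left, add_right' hf, fr.hxx, fr.hyy, fr.hxy, fr.hyx hs, fr.φx,
      fr.φy, fr.xφ hs, fr.yφ hs, fr.φ.iso']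
    linear_combination (σ d * d) * p.2 + (σ d * (p.1.2 + σ p.1.2 + Cfsg.hermForm k F q p.1.1 p.1.1)) * (hs.inv d)
  · rw [← hfx]
    simp only [smul_right' hf, add_right' hf, fr.hxx, fr.hxy, fr.xφ hs, hs.inv]
    ring
  · have e' := smul_right_injective _ ((map_ne_zero_iff _ σ.injective).2 hd0) (congrArg Subtype.val e)
    have hp : ∀ r : Rad σ q k, Cfsg.hermForm (k + 2) F q (r.1.2 • fr.x + fr.y + fr.φ.toLin r.1.1) fr.y = r.1.2 ∧
        fr.φ.proj (r.1.2 • fr.x + fr.y + fr.φ.toLin r.1.1) = r.1.1 := fun r => by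
      constructor
      · simp only [hf.add_left, hf.smul_left, fr.hxy, fr.hyy, fr.φy]; ring
      · rw [fr.φ.proj_add hs, fr.φ.proj_add hs, fr.φ.proj_smul hs, fr.proj_x hs, fr.proj_y hs, fr.φ.proj_toLin hs,
          smul_zero, add_zero, zero_add]
    refine Subtype.ext (Prod.ext ?_ ?_)
    · rw [← (hp p).2, ← (hp p').2]; exact congrArg fr.φ.proj e'
    · rw [← (hp p).1, ← (hp p').1]; exact congrArg (fun w => Cfsg.hermForm (k + 2) F q w fr.y) e'

end CfsgLib.UnMinIndex
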