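/-
Isotropic subgroups of the middle space are moved by transvections fixing some anisotropic vector nearby.
-/
import Cfsg.Agent.Lib.UnMinIndex.Moves

set_option autoImplicit false

namespace CfsgLib.UnMinIndex

open Matrix CfsgLib.Transvec CfsgLib.Transvec.Unitary CfsgLib.Classical.Unitary

variable {F : Type*} [Field F] [Fintype F] {q : ℕ} {σ : F ≃+* F} {m j : ℕ}

variable (hs : Setup F q σ)
include hs

/-- The orthogonal complement of an anisotropic vector. -/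
theorem exists_perp_emb {v : Fin m → F} (hv : Cfsg.hermForm m F q v v ≠ 0) :
    ∃ ψ : Emb F q m (m - 1), (∀ u, Cfsg.hermForm m F q (ψ.toLin u) v = 0) ∧
      ∀ z, Cfsg.hermForm m F q z v = 0 → ψ.toLin (ψ.proj z) = z := by
  have hf := hs.form m
  obtain ⟨s, hs'⟩ := CfsgLib.Transvec.Unitary.exists_norm_eq hs.ne_refl hs.inv
    (b := (Cfsg.hermForm m F q v v)⁻¹) (by rw [map_inv₀, self_fixed hf])
  have hs0 : s ≠ 0 := fun h => inv_ne_zero hv (by rw [← hs', h, zero_mul])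
  let φ := embOfFamily hs ![s • v] (fun a b => by
    fin_cases a; fin_cases b
    simp only [Fin.zero_eta, Fin.isValue, cons_val_zero, hf.smul_left, smul_right' hf, if_true]
    rw [← mul_assoc, hs', inv_mul_cancel₀ hv])
  obtain ⟨ψ, hψ, hψ'⟩ := exists_complement hs φ
  have hb : φ.toLin (Pi.single 0 1) = s • v := by
    show Fintype.linearCombination F ![s • v] (Pi.single 0 1) = _
    simp [Fintype.linearCombination_apply_single]
  have hsσ : σ s ≠ 0 := (map_ne_zero_iff _ σ.injective).2 hs0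
  refine ⟨ψ, fun u => ?_, fun z hz => hψ' z (funext fun i => ?_)⟩
  · have h := congrFun (hψ u) 0
    simp only [Emb.proj, hb, smul_right' hf, Pi.zero_apply, mul_eq_zero, hsσ, false_or] at h
    exact h
  · fin_cases i
    show Cfsg.hermForm m F q z (φ.toLin (Pi.single 0 1)) = 0
    rw [hb, smul_right' hf, hz, mul_zero]

/-- Two elements of norm one other than one. -/
theorem exists_two_norm_one : ∃ ξ ξ' : F, ξ * σ ξ = 1 ∧ ξ' * σ ξ' = 1 ∧ ξ ≠ 1 ∧ ξ' ≠ 1 ∧ ξ ≠ ξ' := by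
  classical
  have hcard : (Finset.univ.filter fun a : F => a * σ a = 1).card = q + 1 :=
    norm_fibre_card hs (map_one σ) one_ne_zero
  have h1 : 1 < ((Finset.univ.filter fun a : F => a * σ a = 1).erase 1).card := by
    rw [Finset.card_erase_of_mem (by simp), hcard]
    have := hs.two_le
    omega
  obtain ⟨ξ, ξ', hξ, hξ', hne⟩ := Finset.one_lt_card_iff.1 h1
  simp only [Finset.mem_erase, Finset.mem_filter, Finset.mem_univ, true_and] at hξ hξ'
  exact ⟨ξ, ξ', hξ.2, hξ'.2, hξ.1, hξ'.1, hne⟩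

/-- Singular vectors separate in dimension at least two. -/
theorem exists_singular_test (hj : 2 ≤ j) {r : Fin j → F} (hr : r ≠ 0) :
    ∃ u, Cfsg.hermForm j F q u u = 0 ∧ Cfsg.hermForm j F q r u ≠ 0 := by
  have hf := hs.form j
  obtain ⟨i, hi⟩ := Function.ne_iff.1 hr
  obtain ⟨i', hii'⟩ := Fintype.exists_ne_of_one_lt_card (show 1 < Fintype.card (Fin j) by rw [Fintype.card_fin]; omega) i
  obtain ⟨α, hα⟩ := CfsgLib.Transvec.Unitary.exists_norm_eq hs.ne_refl hs.inv (b := (-1 : F))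
    (by rw [map_neg, map_one])
  obtain ⟨ξ, -, hξ, -, hξ1, -, -⟩ := exists_two_norm_one hs
  have key : ∀ α : F, α * σ α = -1 →
      Cfsg.hermForm j F q (Pi.single i 1 + α • Pi.single i' 1) (Pi.single i 1 + α • Pi.single i' 1) = 0 ∧
      Cfsg.hermForm j F q r (Pi.single i 1 + α • Pi.single i' 1) = r i + σ α * r i' := by
    intro α hα
    have e : ∀ k, Cfsg.hermForm j F q r (Pi.single k 1) = r k := fun k => by
      rw [hf.herm, hermForm_single hs.frob, hs.inv]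
    refine ⟨?_, by rw [add_right' hf, smul_right' hf, e, e]⟩
    simp only [hf.add_left, add_right' hf, hf.smul_left, smul_right' hf, hermForm_basis hs.frob, if_true,
      if_neg hii', if_neg hii'.symm]
    linear_combination hα
  by_cases h : r i + σ α * r i' = 0
  · refine ⟨_, (key (ξ * α) (by rw [map_mul]; linear_combination (α * σ α) * hξ + hα)).1, ?_⟩
    rw [(key (ξ * α) (by rw [map_mul]; linear_combination (α * σ α) * hξ + hα)).2, map_mul]
    intro h'
    have : (σ ξ - 1) * (σ α * r i') = 0 := by linear_combination h' - h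
    have hξ' : σ ξ - 1 ≠ 0 := fun e => hξ1 (by
      have := congrArg σ (sub_eq_zero.1 e)
      rwa [hs.inv, map_one] at this)
    rw [mul_eq_zero, or_iff_right hξ'] at this
    rw [this, add_zero] at h
    exact hi h
  · exact ⟨_, (key α hα).1, by rw [(key α hα).2]; exact h⟩

/-- Singular vectors orthogonal to an anisotropic one separate its orthogonal complement. -/
theorem exists_singular_test_perp (hm : 3 ≤ m) {v r : Fin m → F} (hv : Cfsg.hermForm m F q v v ≠ 0)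
    (hr : r ≠ 0) (hrv : Cfsg.hermForm m F q r v = 0) :
    ∃ u, Cfsg.hermForm m F q u u = 0 ∧ Cfsg.hermForm m F q u v = 0 ∧ Cfsg.hermForm m F q r u = 1 := by
  have hf := hs.form m
  obtain ⟨ψ, hψ, hψ'⟩ := exists_perp_emb hs hv
  obtain ⟨u, hu, hru⟩ := exists_singular_test hs (j := m - 1) (by omega) (r := ψ.proj r)
    (fun h => hr (by rw [← hψ' r hrv, h, map_zero]))
  have hru' : Cfsg.hermForm m F q r (ψ.toLin u) ≠ 0 := by rwa [ψ.form_toLin hs]
  refine ⟨(σ (Cfsg.hermForm m F q r (ψ.toLin u)))⁻¹ • ψ.toLin u, ?_, ?_, ?_⟩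
  · rw [hf.smul_left, smul_right' hf, ψ.iso', hu, mul_zero, mul_zero]
  · rw [hf.smul_left, hψ, mul_zero]
  · rw [smul_right' hf, map_inv₀, hs.inv, inv_mul_cancel₀ hru']

/-- A vector of norm one orthogonal to an anisotropic vector and a hyperbolic pair. -/
theorem exists_unit_perp3 (hm : 4 ≤ m) {v x y : Fin m → F} (hv : Cfsg.hermForm m F q v v ≠ 0)
    (hxv : Cfsg.hermForm m F q x v = 0) (hyv : Cfsg.hermForm m F q y v = 0)
    (hxx : Cfsg.hermForm m F q x x = 0) (hyy : Cfsg.hermForm m F q y y = 0)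
    (hxy : Cfsg.hermForm m F q x y = 1) :
    ∃ z, Cfsg.hermForm m F q z z = 1 ∧ Cfsg.hermForm m F q z v = 0 ∧ Cfsg.hermForm m F q z x = 0 ∧
      Cfsg.hermForm m F q z y = 0 := by
  obtain ⟨k, rfl⟩ : ∃ k, m = k + 1 + 2 + 1 := ⟨m - 4, by omega⟩
  obtain ⟨ψ, hψ, hψ'⟩ : ∃ ψ : Emb F q (k + 1 + 2 + 1) (k + 1 + 2),
      (∀ u, Cfsg.hermForm (k + 1 + 2 + 1) F q (ψ.toLin u) v = 0) ∧
      ∀ z, Cfsg.hermForm (k + 1 + 2 + 1) F q z v = 0 → ψ.toLin (ψ.proj z) = z := exists_perp_emb hs hv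
  have e : ∀ a b, Cfsg.hermForm (k + 1 + 2 + 1) F q a v = 0 → Cfsg.hermForm (k + 1 + 2) F q (ψ.proj b) (ψ.proj a) =
      Cfsg.hermForm (k + 1 + 2 + 1) F q b a := fun a b ha => by
    rw [← ψ.form_toLin hs b (ψ.proj a), hψ' a ha]
  obtain ⟨fr, hfx, hfy⟩ := exists_fr hs (m := k + 1) (x := ψ.proj x) (y := ψ.proj y)
    ((e x x hxv).trans hxx) ((e y y hyv).trans hyy) ((e y x hyv).trans hxy)
  refine ⟨ψ.toLin (fr.φ.toLin (Pi.single 0 1)), ?_, hψ _, ?_, ?_⟩
  · rw [ψ.iso', fr.φ.iso', hermForm_basis hs.frob, if_pos rfl]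
  · rw [← hψ' x hxv, ψ.iso', ← hfx]; exact fr.φx _
  · rw [← hψ' y hyv, ψ.iso', ← hfy]; exact fr.φy _

/-- Some transvection fixing an anisotropic vector of the annihilator moves the subgroup. -/
theorem exists_moved (hm : 3 ≤ m) (A : AddSubgroup F) {t₀ : F} (ht₀ : t₀ ∈ skew σ) (ht₀A : t₀ ∉ A)
    (W E : AddSubgroup (Fin m → F)) (hWE : W ≤ E) (hA : ∀ w ∈ W, ∀ w' ∈ W, imB m q w w' ∈ A)
    (hperp : ∀ u, (∀ w ∈ W, Cfsg.hermForm m F q u w = 0) → u ∈ E) (hW0 : ∃ w ∈ W, w ≠ 0)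
    (hE : ∃ v ∈ E, Cfsg.hermForm m F q v v ≠ 0) :
    ∃ v ∈ E, Cfsg.hermForm m F q v v ≠ 0 ∧ ∃ u, Cfsg.hermForm m F q u u = 0 ∧ Cfsg.hermForm m F q u v = 0 ∧
      ∃ c ∈ skew σ, ∃ w ∈ W, w + (c * Cfsg.hermForm m F q w u) • u ∉ W := by
  have hf := hs.form m
  by_contra hcon
  push Not at hcon
  have key : ∀ v ∈ E, Cfsg.hermForm m F q v v ≠ 0 → ∀ u, Cfsg.hermForm m F q u u = 0 →
      Cfsg.hermForm m F q u v = 0 → ∀ c ∈ skew σ, ∀ w ∈ W, (c * Cfsg.hermForm m F q w u) • u ∈ W :=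
    fun v hv hvv u huu huv c hc w hw => by
      have h := sub_mem (hcon v hv hvv u huu huv c hc w hw) hw
      rwa [add_sub_cancel_left] at h
  -- a vector whose singular perpendiculars see the subgroup
  obtain ⟨v, hvE, hvv, u, huu, huv, w, hw, hwu⟩ : ∃ v ∈ E, Cfsg.hermForm m F q v v ≠ 0 ∧ ∃ u,
      Cfsg.hermForm m F q u u = 0 ∧ Cfsg.hermForm m F q u v = 0 ∧ ∃ w ∈ W, Cfsg.hermForm m F q w u ≠ 0 := by
    obtain ⟨v, hvE, hvv⟩ := hE
    by_contra hno
    push Not at hno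
    have hline : ∀ w ∈ W, ∃ l : F, w = l • v := by
      intro w hw
      refine ⟨Cfsg.hermForm m F q w v / Cfsg.hermForm m F q v v, sub_eq_zero.1 (by_contra fun hr => ?_)⟩
      obtain ⟨u, huu, huv, hru⟩ := exists_singular_test_perp hs hm hvv hr
        (by rw [sub_left' hf, hf.smul_left, div_mul_cancel₀ _ hvv, sub_self])
      rw [sub_left' hf, hf.smul_left, hno v hvE hvv u huu huv w hw, (eq_zero_comm hf).mp huv] at hru
      simp at hru
    obtain ⟨w₀, hw₀, hw₀0⟩ := hW0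
    obtain ⟨l, rfl⟩ := hline w₀ hw₀
    have hl : l ≠ 0 := fun h => hw₀0 (by rw [h, zero_smul])
    have hσl : σ l ≠ 0 := (map_ne_zero_iff _ σ.injective).2 hl
    obtain ⟨r, hr, hrv⟩ : ∃ r : Fin m → F, r ≠ 0 ∧ Cfsg.hermForm m F q r v = 0 := by
      obtain ⟨y, hy0, hyv, -⟩ := exists_perp_two' hf (by rw [Fintype.card_fin]; omega) v v
      exact ⟨y, hy0, hyv⟩
    obtain ⟨u₀, hu₀, hu₀v, hru₀⟩ := exists_singular_test_perp hs hm hvv hr hrv
    have hu₀0 : u₀ ≠ 0 := fun h => by rw [h, zero_right' hf] at hru₀; exact zero_ne_one hru₀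
    obtain ⟨z, hz, hzv, hu₀z⟩ := exists_singular_test_perp hs hm hvv hu₀0 hu₀v
    have hzu₀ : Cfsg.hermForm m F q z u₀ = 1 := by rw [hf.herm, hu₀z, map_one]
    have hvz := (eq_zero_comm hf).mp hzv
    have hvu₀ := (eq_zero_comm hf).mp hu₀v
    obtain ⟨α, hα⟩ : ∃ α, α = -(σ l * Cfsg.hermForm m F q v v)⁻¹ := ⟨_, rfl⟩
    obtain ⟨t, ht⟩ := exists_trace_eq hs.ne_refl hs.inv (b := -(α * σ α * Cfsg.hermForm m F q v v))
      (by rw [map_neg, map_mul, map_mul, hs.inv, self_fixed hf]; ring)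
    refine absurd (hno (l • v + u₀) (add_mem (hWE hw₀) (hperp _ fun w hw => ?_)) ?_ (z + α • v + t • u₀) ?_ ?_
      (l • v) hw₀) ?_
    · obtain ⟨k, rfl⟩ := hline w hw
      rw [smul_right' hf, hu₀v, mul_zero]
    · simp only [hf.add_left, add_right' hf, hf.smul_left, smul_right' hf, hvu₀, hu₀v, hu₀, mul_zero, add_zero,
        zero_add]
      exact mul_ne_zero hl (mul_ne_zero hσl hvv)
    · simp only [hf.add_left, add_right' hf, hf.smul_left, smul_right' hf, hz, hzv, hzu₀, hvz, hvu₀, hu₀z, hu₀v,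
        hu₀, mul_zero, add_zero, zero_add]
      linear_combination ht
    · simp only [hf.add_left, add_right' hf, hf.smul_left, smul_right' hf, hzv, hzu₀, hvu₀, hu₀v, hu₀, mul_zero,
        add_zero, zero_add]
      rw [hα]
      field_simp
      ring
    · simp only [add_right' hf, hf.smul_left, smul_right' hf, hvz, hvu₀, mul_zero, add_zero, zero_add]
      refine mul_ne_zero hl (mul_ne_zero ((map_ne_zero_iff _ σ.injective).2 ?_) hvv)
      rw [hα]
      exact neg_ne_zero.2 (inv_ne_zero (mul_ne_zero hσl hvv))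
  obtain ⟨c₀, hc₀0, hc₀⟩ := exists_skew hs.ne_refl hs.inv
  obtain ⟨u₁, hu₁⟩ : ∃ u₁, u₁ = (c₀ * Cfsg.hermForm m F q w u) • u := ⟨_, rfl⟩
  have hu₁W : u₁ ∈ W := hu₁ ▸ key v hvE hvv u huu huv c₀ hc₀ w hw
  have hu₁v : Cfsg.hermForm m F q u₁ v = 0 := by rw [hu₁, hf.smul_left, huv, mul_zero]
  have hu₁u₁ : Cfsg.hermForm m F q u₁ u₁ = 0 := by rw [hu₁, hf.smul_left, smul_right' hf, huu, mul_zero, mul_zero]
  have hu0 : u ≠ 0 := fun h => hwu (by rw [h, zero_right' hf])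
  have hu₁0 : u₁ ≠ 0 := hu₁ ▸ smul_ne_zero (mul_ne_zero hc₀0 hwu) hu0
  obtain ⟨u₂, hu₂u₂, hu₂v, hu₁u₂⟩ := exists_singular_test_perp hs hm hvv hu₁0 hu₁v
  have hu₂u₁ : Cfsg.hermForm m F q u₂ u₁ = 1 := by rw [hf.herm, hu₁u₂, map_one]
  have hvu₁ := (eq_zero_comm hf).mp hu₁v
  have hvu₂ := (eq_zero_comm hf).mp hu₂v
  have hW2 : ∀ c ∈ skew σ, c • u₂ ∈ W := fun c hc => by
    have h := key v hvE hvv u₂ hu₂u₂ hu₂v c hc u₁ hu₁W
    rwa [hu₁u₂, mul_one] at h
  have hW1 : ∀ c ∈ skew σ, ∀ c' ∈ skew σ, (c' * c) • u₁ ∈ W := fun c hc c' hc' => by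
    have h := key v hvE hvv u₁ hu₁u₁ hu₁v c' hc' _ (hW2 c hc)
    rwa [hf.smul_left, hu₂u₁, mul_one] at h
  by_cases h2 : (2 : F) = 0
  swap
  · refine ht₀A ?_
    have hc : -(t₀ / 2) ∈ skew σ := by
      rw [mem_skew, map_neg, map_div₀, map_ofNat]
      field_simp
      linear_combination -(mem_skew.1 ht₀)
    have h := hA u₁ hu₁W _ (hW2 _ hc)
    have e : imB m q u₁ (-(t₀ / 2) • u₂) = t₀ := by
      rw [imB, smul_right' hf, hf.smul_left, hu₁u₂, hu₂u₁]
      have := mem_skew.1 hc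
      field_simp
      have e2 : σ (-(t₀ / 2)) = t₀ / 2 := by linear_combination this
      rw [e2]
      field_simp
      ring
    rwa [e] at h
  have hfix : ∀ {c : F}, c ∈ skew σ → σ c = c := fun {c} hc => by linear_combination mem_skew.1 hc - c * h2
  have hskew : ∀ {c : F}, σ c = c → c ∈ skew σ := fun {c} hc => mem_skew.2 (by linear_combination hc + c * h2)
  have h1 : (1 : F) ∈ skew σ := hskew (map_one σ)
  by_cases hm4 : 4 ≤ m
  · obtain ⟨z, hzz, hzv, hzu₁, hzu₂⟩ := exists_unit_perp3 hs hm4 hvv hu₁v hu₂v hu₁u₁ hu₂u₂ hu₁u₂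
    have hu₁z := (eq_zero_comm hf).mp hzu₁
    have hu₂z := (eq_zero_comm hf).mp hzu₂
    obtain ⟨t, ht⟩ := exists_trace_eq hs.ne_refl hs.inv (b := (-1 : F)) (by rw [map_neg, map_one])
    have hWz : ∀ ξ : F, ξ * σ ξ = 1 → ∀ c ∈ skew σ, c • (u₂ + ξ • z + t • u₁) ∈ W := by
      intro ξ hξ c hc
      have h := key v hvE hvv (u₂ + ξ • z + t • u₁)
        (by
          simp only [hf.add_left, add_right' hf, hf.smul_left, smul_right' hf, hu₂u₂, hu₁u₁, hu₁u₂, hu₂u₁, hzz,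
            hzu₁, hzu₂, hu₁z, hu₂z, mul_zero, add_zero, zero_add]
          linear_combination hξ + ht)
        (by simp only [hf.add_left, hf.smul_left, hu₂v, hzv, hu₁v, mul_zero, add_zero]) c hc u₁ hu₁W
      rwa [add_right' hf, add_right' hf, smul_right' hf, smul_right' hf, hu₁u₂, hu₁z, hu₁u₁, mul_zero, mul_zero,
        add_zero, add_zero, mul_one] at h
    have hdiff : ∀ ξ : F, ξ * σ ξ = 1 → ∀ c ∈ skew σ, (c * (ξ - 1)) • z ∈ W := by
      intro ξ hξ c hc
      have := sub_mem (hWz ξ hξ c hc) (hWz 1 (by simp) c hc)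
      convert this using 1
      module
    obtain ⟨ξ, ξ', hξ, hξ', hξ1, hξ1', hne⟩ := exists_two_norm_one hs
    obtain ⟨D, hD⟩ : ∃ D, D = (ξ - 1) * (σ ξ' - 1) - (ξ' - 1) * (σ ξ - 1) := ⟨_, rfl⟩
    have hD0 : D ≠ 0 := by
      intro h
      have e : (ξ - ξ') * ((ξ - 1) * (ξ' - 1)) = 0 := by
        linear_combination (-(ξ * ξ')) * (hD.symm.trans h) + (ξ ^ 2 - ξ) * hξ' - (ξ' ^ 2 - ξ') * hξ
      rcases mul_eq_zero.1 e with e | e
      · exact hne (sub_eq_zero.1 e)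
      · rcases mul_eq_zero.1 e with e | e
        · exact hξ1 (sub_eq_zero.1 e)
        · exact hξ1' (sub_eq_zero.1 e)
    have hDfix : σ D = D := by
      rw [hD, map_sub, map_mul, map_mul, map_sub, map_sub, map_sub, map_sub, hs.inv, hs.inv, map_one]
      linear_combination (-((ξ - 1) * (σ ξ' - 1) - (ξ' - 1) * (σ ξ - 1))) * h2
    refine ht₀A ?_
    have hc : t₀ / D ∈ skew σ := hskew (by rw [map_div₀, hfix ht₀, hDfix])
    have h := hA _ (hdiff ξ hξ _ hc) _ (hdiff ξ' hξ' 1 h1)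
    have e : imB m q ((t₀ / D * (ξ - 1)) • z) ((1 * (ξ' - 1)) • z) = t₀ := by
      have e1 : σ (t₀ / D) = t₀ / D := by rw [map_div₀, hfix ht₀, hDfix]
      rw [imB, hf.smul_left, hf.smul_left, smul_right' hf, smul_right' hf, hzz]
      simp only [map_mul, map_sub, map_one, e1]
      calc _ = t₀ / D * D := by rw [hD]; ring
        _ = t₀ := div_mul_cancel₀ _ hD0
    rwa [e] at h
  · obtain rfl : m = 3 := by omega
    obtain ⟨ψ, hψ, hψ'⟩ : ∃ ψ : Emb F q 3 2, (∀ u, Cfsg.hermForm 3 F q (ψ.toLin u) v = 0) ∧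
      ∀ z, Cfsg.hermForm 3 F q z v = 0 → ψ.toLin (ψ.proj z) = z := exists_perp_emb hs hvv
    have ev : ∀ a b, Cfsg.hermForm 3 F q a v = 0 →
        Cfsg.hermForm 2 F q (ψ.proj b) (ψ.proj a) = Cfsg.hermForm 3 F q b a := fun a b ha => by
      rw [← ψ.form_toLin hs b (ψ.proj a), hψ' a ha]
    obtain ⟨fr, hfx, hfy⟩ := exists_fr hs (m := 0) (x := ψ.proj u₁) (y := ψ.proj u₂)
      ((ev u₁ u₁ hu₁v).trans hu₁u₁) ((ev u₂ u₂ hu₂v).trans hu₂u₂) ((ev u₂ u₁ hu₂v).trans hu₁u₂)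
    -- singular vectors of the subgroup are orthogonal to `v`
    have hsing : ∀ y ∈ W, Cfsg.hermForm 3 F q y y = 0 → Cfsg.hermForm 3 F q y v = 0 := by
      intro y hy hyy
      have htr : ∀ z', (∀ c ∈ skew σ, c • z' ∈ W) →
          Cfsg.hermForm 3 F q y z' + σ (Cfsg.hermForm 3 F q y z') = 0 := by
        intro z' hz'
        by_contra hne
        refine ht₀A ?_
        obtain ⟨T, hT⟩ : ∃ T, T = Cfsg.hermForm 3 F q y z' + σ (Cfsg.hermForm 3 F q y z') := ⟨_, rfl⟩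
        have hTfix : σ T = T := by rw [hT, map_add, hs.inv, add_comm]
        have hc : t₀ / T ∈ skew σ := hskew (by rw [map_div₀, hfix ht₀, hTfix])
        have h := hA y hy _ (hz' _ hc)
        have e : imB 3 q y ((t₀ / T) • z') = t₀ := by
          rw [imB, smul_right' hf, hf.smul_left, hf.herm z' y, map_div₀, hfix ht₀, hTfix]
          calc _ = t₀ / T * T := by
                linear_combination (-(t₀ / T) * σ (Cfsg.hermForm 3 F q y z')) * h2 - (t₀ / T) * hT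
            _ = t₀ := div_mul_cancel₀ _ (hT ▸ hne)
        rwa [e] at h
      have hα := htr u₂ hW2
      have hγ := htr u₁ fun c hc => by have h := hW1 c hc 1 h1; rwa [one_mul] at h
      obtain ⟨r, hr⟩ : ∃ r, r = y - (Cfsg.hermForm 3 F q y v / Cfsg.hermForm 3 F q v v) • v := ⟨_, rfl⟩
      have hrv : Cfsg.hermForm 3 F q r v = 0 := by
        rw [hr, sub_left' hf, hf.smul_left, div_mul_cancel₀ _ hvv, sub_self]
      have hru₁ : Cfsg.hermForm 3 F q r u₁ = Cfsg.hermForm 3 F q y u₁ := by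
        rw [hr, sub_left' hf, hf.smul_left, hvu₁, mul_zero, sub_zero]
      have hru₂ : Cfsg.hermForm 3 F q r u₂ = Cfsg.hermForm 3 F q y u₂ := by
        rw [hr, sub_left' hf, hf.smul_left, hvu₂, mul_zero, sub_zero]
      have hrr : Cfsg.hermForm 3 F q r r = 0 := by
        rw [← ev r r hrv, fr.form_decomp hs]
        rw [hfx, hfy, ev u₁ r hu₁v, ev u₂ r hu₂v, hru₁, hru₂]
        have h0 : Cfsg.hermForm 0 F q (fr.φ.proj (ψ.proj r)) (fr.φ.proj (ψ.proj r)) = 0 := by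
          rw [Subsingleton.elim (fr.φ.proj (ψ.proj r)) 0, zero_left' (hs.form 0)]
        rw [h0]
        linear_combination Cfsg.hermForm 3 F q y u₂ * hγ + Cfsg.hermForm 3 F q y u₁ * hα -
          (Cfsg.hermForm 3 F q y u₂ * Cfsg.hermForm 3 F q y u₁) * h2
      have hy' : y = r + (Cfsg.hermForm 3 F q y v / Cfsg.hermForm 3 F q v v) • v := by rw [hr, sub_add_cancel]
      rw [hy', hf.add_left, add_right' hf, add_right' hf] at hyy
      simp only [hf.smul_left, smul_right' hf, hrr, hrv, (eq_zero_comm hf).mp hrv, mul_zero, zero_add, add_zero,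
        mul_eq_zero, map_eq_zero_iff _ σ.injective, or_iff_left hvv, or_self, div_eq_zero_iff] at hyy
      exact hyy
    obtain ⟨α, hα⟩ : ∃ α, α = -(Cfsg.hermForm 3 F q v v)⁻¹ := ⟨_, rfl⟩
    obtain ⟨t, ht⟩ := exists_trace_eq hs.ne_refl hs.inv (b := -(α * σ α * Cfsg.hermForm 3 F q v v))
      (by rw [map_neg, map_mul, map_mul, hs.inv, self_fixed hf]; ring)
    have hy : u₂ + α • v + t • u₁ ∈ W := by
      have h := key (v + u₁) (add_mem hvE (hWE hu₁W))
        (by simpa [hf.add_left, add_right' hf, hu₁v, hvu₁, hu₁u₁] using hvv) (u₂ + α • v + t • u₁)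
        (by
          simp only [hf.add_left, add_right' hf, hf.smul_left, smul_right' hf, hu₂u₂, hu₁u₁, hu₁u₂, hu₂u₁, hvu₁,
            hvu₂, hu₁v, hu₂v, mul_zero, add_zero, zero_add]
          linear_combination ht)
        (by
          simp only [hf.add_left, add_right' hf, hf.smul_left, hu₂v, hu₁v, hvu₁, hu₁u₁, hu₂u₁, mul_zero, add_zero,
            zero_add]
          rw [hα]
          field_simp
          ring)
        1 h1 u₁ hu₁W
      rwa [add_right' hf, add_right' hf, smul_right' hf, smul_right' hf, hu₁u₂, hu₁v, hu₁u₁, mul_zero, mul_zero,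
        add_zero, add_zero, mul_one, one_smul] at h
    have hyv := hsing _ hy (by
      simp only [hf.add_left, add_right' hf, hf.smul_left, smul_right' hf, hu₂u₂, hu₁u₁, hu₁u₂, hu₂u₁, hvu₁,
        hvu₂, hu₁v, hu₂v, mul_zero, add_zero, zero_add]
      linear_combination ht)
    rw [hf.add_left, hf.add_left, hf.smul_left, hf.smul_left, hu₂v, hu₁v, mul_zero, add_zero, zero_add, hα,
      neg_mul, inv_mul_cancel₀ hvv] at hyv
    exact one_ne_zero (neg_eq_zero.1 hyv)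

end CfsgLib.UnMinIndex
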