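/-
Lower bounds for orbit sizes of the groups generated by unitary transvections.
-/
import Cfsg.Agent.Lib.UnMinIndex.Invariance
import Cfsg.Agent.Lib.MinDegree.Unitary
import Cfsg.Agent.Lib.U3MinIndex.Main

set_option autoImplicit false

namespace CfsgLib.UnMinIndex

open Matrix CfsgLib.Transvec CfsgLib.Transvec.Unitary CfsgLib.Classical.Unitary
open scoped commutatorElement

variable {F : Type*} [Field F] [Fintype F] {q : ℕ} {σ : F ≃+* F} {j : ℕ}

/-- The permutation representation on complex functions. -/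
noncomputable def permRep (Γ Y : Type*) [Group Γ] [MulAction Γ Y] : Γ →* Module.End ℂ (Y → ℂ) where
  toFun g := LinearMap.funLeft ℂ ℂ (fun y => g⁻¹ • y)
  map_one' := LinearMap.ext fun f => funext fun y => by simp [LinearMap.funLeft_apply]
  map_mul' g h := LinearMap.ext fun f => funext fun y => by simp [LinearMap.funLeft_apply, mul_smul]

variable (hs : Setup F q σ)
include hs

/-- An orbit of size above one has size above `q + 1`. -/
theorem orbit_lower (hj : 3 ≤ j) (hjq : ¬(j = 3 ∧ q = 2)) {Y : Type*} [Finite Y]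
    [MulAction (transvGroup σ (Cfsg.hermForm j F q)) Y] (g : transvGroup σ (Cfsg.hermForm j F q)) {y : Y}
    (hgy : g • y ≠ y) : q + 2 ≤ Nat.card Y := by
  classical
  haveI := Fintype.ofFinite Y
  let e := suEquiv hs.card hs.frob hs.inv hs.ne_refl hj hjq
  let ρ : Cfsg.SU j F q →* Module.End ℂ (Y → ℂ) :=
    (permRep (transvGroup σ (Cfsg.hermForm j F q)) Y).comp e.toMonoidHom
  have hρ : ρ ≠ 1 := fun h => hgy (by
    by_contra
    have h1 := DFunLike.congr_fun h (e.symm g)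
    have h2 := congrFun (LinearMap.congr_fun h1 (Pi.single y 1)) (g • y)
    simp [ρ, permRep, LinearMap.funLeft_apply, Pi.single_eq_of_ne hgy] at h2)
  have hdim : Module.finrank ℂ (Y → ℂ) = Nat.card Y := by
    rw [Module.finrank_fintype_fun_eq_card, Nat.card_eq_fintype_card]
  have hF : (Fintype.card F : ℂ) ≠ 0 := Nat.cast_ne_zero.2 Fintype.card_ne_zero
  have hq := hs.two_le
  rcases Nat.even_or_odd' j with ⟨k, rfl | rfl⟩
  · have h := CfsgLib.MinDegree.su_bound_even hs.card (by omega) hF ρ hρ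
    rw [hdim] at h
    by_contra hlt
    push Not at hlt
    have h4 : q ^ 4 ≤ q ^ (2 * k) := Nat.pow_le_pow_right (by omega) (by omega)
    have h2 : (q + 1) * Nat.card Y ≤ (q + 1) * (q + 1) := Nat.mul_le_mul_left _ (by omega)
    have h3 : q ^ 2 * 4 ≤ q ^ 4 := by
      calc q ^ 2 * 4 ≤ q ^ 2 * q ^ 2 := Nat.mul_le_mul_left _ (by nlinarith)
        _ = q ^ 4 := by ring
    have h6 : q * 2 ≤ q ^ 2 := by rw [pow_two]; exact Nat.mul_le_mul_left _ hq
    have h8 : (q + 1) * (q + 1) = q ^ 2 + 2 * q + 1 := by ring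
    omega
  · have h := CfsgLib.MinDegree.su_bound_odd hs.card (by omega) hjq hF ρ hρ
    rw [hdim] at h
    by_contra hlt
    push Not at hlt
    have h2 : (q + 1) * Nat.card Y ≤ (q + 1) * (q + 1) := Nat.mul_le_mul_left _ (by omega)
    have h8 : (q + 1) * (q + 1) = q ^ 2 + 2 * q + 1 := by ring
    rcases Nat.lt_or_ge k 2 with hk | hk
    · obtain rfl : k = 1 := by omega
      have hq3 : 3 ≤ q := by
        rcases Nat.lt_or_ge q 3 with h' | h'
        · exact absurd ⟨rfl, by omega⟩ hjq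
        · exact h'
      have h3 : q ^ (2 * 1 + 1) = q * q ^ 2 := by ring
      have h5 : 3 * q ^ 2 ≤ q * q ^ 2 := Nat.mul_le_mul_right _ hq3
      have h6 : q * 3 ≤ q ^ 2 := by rw [pow_two]; exact Nat.mul_le_mul_left _ hq3
      omega
    · have h4 : q ^ 5 ≤ q ^ (2 * k + 1) := Nat.pow_le_pow_right (by omega) (by omega)
      have h3 : q ^ 2 * 8 ≤ q ^ 5 := by
        calc q ^ 2 * 8 ≤ q ^ 2 * q ^ 3 := Nat.mul_le_mul_left _ (Nat.pow_le_pow_left hq 3)
          _ = q ^ 5 := by ring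
      have h6 : q * 2 ≤ q ^ 2 := by rw [pow_two]; exact Nat.mul_le_mul_left _ hq
      omega

/-- A proper subgroup of the three-dimensional group has index above `q ^ 3`. -/
theorem index_three (hq3 : 3 ≤ q) (h5 : q ≠ 5) (H : Subgroup (transvGroup σ (Cfsg.hermForm 3 F q))) (hH : H ≠ ⊤) :
    q ^ 3 + 1 ≤ H.index := by
  have hjq : ¬(3 = 3 ∧ q = 2) := by omega
  let e := suEquiv hs.card hs.frob hs.inv hs.ne_refl (n := 3) le_rfl hjq
  have hperf := transvGroup_perfect (hs.form 3) (by rw [Fintype.card_fin])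
    (Or.inr (exists_skew_ne_neg_one hs.card hq3 hs.frob hs.inv hs.ne_refl)) (hermForm_basis hs.frob)
  let π : transvGroup σ (Cfsg.hermForm 3 F q) →* Cfsg.PSU 3 F q :=
    (QuotientGroup.mk' _).comp e.symm.toMonoidHom
  have hπ : Function.Surjective π := (QuotientGroup.mk'_surjective _).comp e.symm.surjective
  have hne : H.map π ≠ ⊤ := fun htop => hH (by
    rw [eq_top_iff, ← hperf, commutator_def, Subgroup.commutator_le]
    intro g₁ _ g₂ _
    have hz : ∀ g, ∃ h ∈ H, ∃ c ∈ Subgroup.center (transvGroup σ (Cfsg.hermForm 3 F q)), g = h * c := by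
      intro g
      obtain ⟨h, hh, hhg⟩ := (htop ▸ Subgroup.mem_top (π g) : π g ∈ H.map π)
      refine ⟨h, hh, h⁻¹ * g, Subgroup.mem_center_iff.2 fun y => e.symm.injective ?_, by group⟩
      have hker : e.symm (h⁻¹ * g) ∈ Subgroup.center (Cfsg.SU 3 F q) := by
        rw [← QuotientGroup.eq_one_iff]
        show π (h⁻¹ * g) = 1
        rw [map_mul, map_inv, hhg, inv_mul_cancel]
      simpa [map_mul, mul_assoc] using Subgroup.mem_center_iff.1 hker (e.symm y)
    obtain ⟨h₁, hh₁, c₁, hc₁, rfl⟩ := hz g₁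
    obtain ⟨h₂, hh₂, c₂, hc₂, rfl⟩ := hz g₂
    have hc₁' := Subgroup.mem_center_iff.1 hc₁
    have hc₂' := Subgroup.mem_center_iff.1 hc₂
    have key : ⁅h₁ * c₁, h₂ * c₂⁆ = ⁅h₁, h₂⁆ := by
      simp only [commutatorElement_def, _root_.mul_inv_rev]
      calc h₁ * c₁ * (h₂ * c₂) * (c₁⁻¹ * h₁⁻¹) * (c₂⁻¹ * h₂⁻¹)
          = h₁ * (c₁ * h₂ * c₁⁻¹) * (c₁ * c₂ * c₁⁻¹) * h₁⁻¹ * c₂⁻¹ * h₂⁻¹ := by group
        _ = h₁ * h₂ * c₂ * h₁⁻¹ * c₂⁻¹ * h₂⁻¹ := by
            rw [← hc₁' h₂, ← hc₁' c₂, mul_inv_cancel_right, mul_inv_cancel_right]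
        _ = h₁ * h₂ * (c₂ * h₁⁻¹ * c₂⁻¹) * h₂⁻¹ := by group
        _ = h₁ * h₂ * h₁⁻¹ * h₂⁻¹ := by rw [← hc₂' h₁⁻¹, mul_inv_cancel_right]
    rw [key]
    exact mul_mem (mul_mem (mul_mem hh₁ hh₂) (inv_mem hh₁)) (inv_mem hh₂))
  refine le_trans ((CfsgLib.U3MinIndex.min_index hs.card hq3 h5).1 _ hne) (Nat.le_of_dvd ?_ (H.index_map_dvd hπ))
  exact Nat.pos_of_ne_zero Subgroup.index_ne_zero_of_finite

end CfsgLib.UnMinIndex
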