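/-
Counting the values of the invariants: the scalar orbit of the central part and the covering lemmas.
-/
import Cfsg.Agent.Lib.UnMinIndex.Perm

set_option autoImplicit false

namespace CfsgLib.UnMinIndex

open Matrix CfsgLib.Transvec CfsgLib.Transvec.Unitary CfsgLib.Classical.Unitary

variable {F : Type*} [Field F] [Fintype F] {q : ℕ} {σ : F ≃+* F} {m : ℕ}

/-- Double counting. -/
theorem cover_card {ι τ : Type*} (P : Finset ι) (T : Finset τ) (R : ι → τ → Prop)
    [∀ p t, Decidable (R p t)] (k s : ℕ) (h1 : ∀ t ∈ T, k ≤ (P.filter fun p => R p t).card)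
    (h2 : ∀ p ∈ P, (T.filter fun t => R p t).card ≤ s) : T.card * k ≤ P.card * s :=
  Finset.card_mul_le_card_mul' R h1 h2

/-- The action of a group on additive subgroups through matrices. -/
@[reducible] noncomputable def mapAct {Γ : Type*} [Group Γ] (ρ : Γ →* GL (Fin m) F) :
    MulAction Γ (AddSubgroup (Fin m → F)) where
  smul g W := W.map (Matrix.mulVecLin (ρ g : Matrix (Fin m) (Fin m) F)).toAddMonoidHom
  one_smul W := SetLike.coe_injective (by
    show (Matrix.mulVecLin ((ρ 1 : GL (Fin m) F) : Matrix (Fin m) (Fin m) F)) '' (W : Set (Fin m → F)) = W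
    rw [map_one, Units.val_one, Matrix.mulVecLin_one]
    exact Set.image_id _)
  mul_smul g h W := SetLike.coe_injective (by
    show (Matrix.mulVecLin ((ρ (g * h) : GL (Fin m) F) : Matrix (Fin m) (Fin m) F)) '' (W : Set (Fin m → F)) =
      (Matrix.mulVecLin ((ρ g : GL (Fin m) F) : Matrix (Fin m) (Fin m) F)) ''
        ((Matrix.mulVecLin ((ρ h : GL (Fin m) F) : Matrix (Fin m) (Fin m) F)) '' (W : Set (Fin m → F)))
    rw [map_mul, Units.val_mul, Matrix.mulVecLin_mul, LinearMap.coe_comp, Set.image_comp])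

/-- The image of an additive subgroup under `w ↦ s • γ w`. -/
noncomputable def moveW (s : F) (γ : GL (Fin m) F) (W : AddSubgroup (Fin m → F)) : AddSubgroup (Fin m → F) :=
  W.map (s • Matrix.mulVecLin (γ : Matrix (Fin m) (Fin m) F)).toAddMonoidHom

theorem mem_moveW {s : F} {γ : GL (Fin m) F} {W : AddSubgroup (Fin m → F)} {z : Fin m → F} :
    z ∈ moveW s γ W ↔ ∃ w ∈ W, s • ((γ : Matrix (Fin m) (Fin m) F) *ᵥ w) = z := Iff.rfl

theorem moveW_mem {s : F} (γ : GL (Fin m) F) {W : AddSubgroup (Fin m → F)} {w : Fin m → F} (hw : w ∈ W) :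
    s • ((γ : Matrix (Fin m) (Fin m) F) *ᵥ w) ∈ moveW s γ W := mem_moveW.2 ⟨w, hw, rfl⟩

theorem moveW_injective {s : F} (hs0 : s ≠ 0) (γ : GL (Fin m) F) :
    Function.Injective fun w : Fin m → F => s • ((γ : Matrix (Fin m) (Fin m) F) *ᵥ w) := fun w w' h => by
  have e := congrArg (fun z => ((γ⁻¹ : GL (Fin m) F) : Matrix (Fin m) (Fin m) F) *ᵥ z) (smul_right_injective _ hs0 h)
  simpa [← mul_mulVec] using e

theorem card_moveW {s : F} (hs0 : s ≠ 0) (γ : GL (Fin m) F) (W : AddSubgroup (Fin m → F)) :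
    Nat.card (moveW s γ W) = Nat.card W :=
  Nat.card_congr (Equiv.Set.image _ (W : Set (Fin m → F)) (moveW_injective hs0 γ)).symm

theorem moveW_inj {s : F} (hs0 : s ≠ 0) (γ : GL (Fin m) F) : Function.Injective (moveW s γ) :=
  AddSubgroup.map_injective (moveW_injective hs0 γ)

/-- The image of an additive subgroup under a scalar. -/
def moveA (r : F) (A : AddSubgroup F) : AddSubgroup F := A.map (AddMonoidHom.mulLeft r)

theorem mem_moveA {r : F} {A : AddSubgroup F} {z : F} : z ∈ moveA r A ↔ ∃ c ∈ A, r * c = z := Iff.rfl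

theorem card_moveA {r : F} (hr : r ≠ 0) (A : AddSubgroup F) : Nat.card (moveA r A) = Nat.card A :=
  Nat.card_congr (Equiv.Set.image _ (A : Set F) (mul_right_injective₀ hr)).symm

theorem moveA_one (A : AddSubgroup F) : moveA 1 A = A := by
  ext z
  simp [mem_moveA]

/-- The scalar images of a central subgroup. -/
noncomputable def oaSet (σ : F ≃+* F) (A : AddSubgroup F) : Finset (AddSubgroup F) :=
  (Set.toFinite ((fun r => moveA r A) '' {r : F | σ r = r ∧ r ≠ 0})).toFinset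

theorem mem_oaSet {A A' : AddSubgroup F} : A' ∈ oaSet σ A ↔ ∃ r, (σ r = r ∧ r ≠ 0) ∧ moveA r A = A' := by
  rw [oaSet, Set.Finite.mem_toFinset]
  rfl

theorem oaSet_nonempty (A : AddSubgroup F) : A ∈ oaSet σ A :=
  mem_oaSet.2 ⟨1, ⟨map_one σ, one_ne_zero⟩, moveA_one A⟩

variable (hs : Setup F q σ)
include hs

/-- The scalar orbit of a proper non-trivial central subgroup is large. -/
theorem oa_bound {A : AddSubgroup F} (hA : A ≤ skew σ) {t : F} (ht : t ∈ skew σ) (htA : t ∉ A) (hne : A ≠ ⊥) :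
    (q + 1) * Nat.card A ≤ (oaSet σ A).card * q := by
  classical
  haveI : Fintype {r : F // σ r = r ∧ r ≠ 0} := Fintype.ofFinite _
  let K := {r : F // σ r = r ∧ ∀ c ∈ A, r * c ∈ A}
  have hsplit : ∀ r : F, (∀ c ∈ A, r * c ∈ A) → r ≠ 0 → ∀ c, r * c ∈ A → c ∈ A := by
    intro r hr hr0 c hc
    obtain ⟨c', hc'⟩ := (Finite.injective_iff_surjective.1
      (show Function.Injective fun c : A => (⟨r * c.1, hr c.1 c.2⟩ : A) from fun a b e =>
        Subtype.ext (mul_left_cancel₀ hr0 (congrArg Subtype.val e)))) ⟨r * c, hc⟩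
    have : r * c'.1 = r * c := congrArg Subtype.val hc'
    rw [← mul_left_cancel₀ hr0 this]
    exact c'.2
  have h1 : Nat.card K * Nat.card A ≤ q := by
    rw [← Nat.card_prod, ← card_skew hs]
    refine Nat.card_le_card_of_injective (fun x : K × A => (⟨x.1.1 * t + x.2.1, add_mem (mem_skew.2 (by
      rw [map_mul, x.1.2.1, ← mul_add, mem_skew.1 ht, mul_zero])) (hA x.2.2)⟩ : skew σ)) fun x x' e => ?_
    have e' : x.1.1 * t + x.2.1 = x'.1.1 * t + x'.2.1 := congrArg Subtype.val e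
    have hr : x.1.1 = x'.1.1 := by
      by_contra hne'
      refine htA (hsplit (x.1.1 - x'.1.1) (fun c hc => ?_) (sub_ne_zero.2 hne') t ?_)
      · rw [sub_mul]; exact sub_mem (x.1.2.2 c hc) (x'.1.2.2 c hc)
      · rw [show (x.1.1 - x'.1.1) * t = x'.2.1 - x.2.1 by linear_combination e']
        exact sub_mem x'.2.2 x.2.2
    rw [hr] at e'
    exact Prod.ext (Subtype.ext hr) (Subtype.ext (add_left_cancel e'))
  have hstar : Fintype.card {r : F // σ r = r ∧ r ≠ 0} = q - 1 := by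
    have h := card_fixd hs
    rw [Nat.card_eq_fintype_card, show Fintype.card (fixd σ) = (Finset.univ.filter fun r : F => σ r = r).card by
      rw [← Fintype.card_subtype]; rfl] at h
    rw [Fintype.card_subtype, ← h]
    have : (Finset.univ.filter fun r : F => σ r = r ∧ r ≠ 0) = (Finset.univ.filter fun r : F => σ r = r).erase 0 := by
      ext r; simp [and_comm]
    rw [this, Finset.card_erase_of_mem (by simp)]
  have h2 : q - 1 ≤ (oaSet σ A).card * (Nat.card K - 1) := by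
    rw [← hstar, ← Finset.card_univ, mul_comm]
    refine Finset.card_le_mul_card_image_of_maps_to (f := fun r : {r : F // σ r = r ∧ r ≠ 0} => moveA r.1 A)
      (fun r _ => mem_oaSet.2 ⟨r.1, r.2, rfl⟩) _ fun A' hA' => ?_
    by_cases hne' : ∃ r : {r : F // σ r = r ∧ r ≠ 0}, moveA r.1 A = A'
    swap
    · rw [Finset.card_eq_zero.2 (Finset.filter_eq_empty_iff.2 fun r _ h => hne' ⟨r, h⟩)]
      exact Nat.zero_le _
    obtain ⟨r₀, hr₀⟩ := hne'
    haveI : Fintype K := Fintype.ofFinite _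
    rw [Nat.card_eq_fintype_card, ← Finset.card_univ (α := K),
      ← Finset.card_erase_of_mem (Finset.mem_univ (⟨0, map_zero σ, fun c _ => by simp⟩ : K))]
    have hmem : ∀ r : {r : F // σ r = r ∧ r ≠ 0}, moveA r.1 A = A' → ∀ c ∈ A, r₀.1⁻¹ * r.1 * c ∈ A := by
      intro r hr c hc
      obtain ⟨c', hc', e⟩ := mem_moveA.1 (show r.1 * c ∈ moveA r₀.1 A by
        rw [hr₀, ← hr]; exact mem_moveA.2 ⟨c, hc, rfl⟩)
      rwa [mul_assoc, ← e, inv_mul_cancel_left₀ r₀.2.2]
    refine Finset.card_le_card_of_injOn (fun r => if h : moveA r.1 A = A' then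
      (⟨r₀.1⁻¹ * r.1, by rw [map_mul, map_inv₀, r₀.2.1, r.2.1], hmem r h⟩ : K) else ⟨0, map_zero σ, fun c _ => by simp⟩)
      (fun r hr => ?_) (fun r hr r' hr' e => ?_)
    · have hr' := (Finset.mem_filter.1 hr).2
      simp only [dif_pos hr', Finset.mem_coe, Finset.mem_erase, ne_eq, Finset.mem_univ, and_true]
      intro e
      exact mul_ne_zero (inv_ne_zero r₀.2.2) r.2.2 (congrArg Subtype.val e)
    · simp only [dif_pos (Finset.mem_filter.1 hr).2, dif_pos (Finset.mem_filter.1 hr').2] at e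
      exact Subtype.ext (mul_left_cancel₀ (inv_ne_zero r₀.2.2) (congrArg Subtype.val e))
  have hO : 2 ≤ (oaSet σ A).card := by
    by_contra hlt
    have hq := hs.two_le
    obtain ⟨c, hc, hc0⟩ := A.ne_bot_iff_exists_ne_zero.1 hne |> fun ⟨c, hc⟩ => (⟨c.1, c.2, fun e => hc (Subtype.ext e)⟩ : ∃ c, c ∈ A ∧ c ≠ 0)
    have hK : q ≤ Nat.card K := by
      by_contra hK
      have : (oaSet σ A).card * (Nat.card K - 1) ≤ 1 * (Nat.card K - 1) := Nat.mul_le_mul_right _ (by omega)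
      omega
    have h3 : 2 ≤ Nat.card A := by
      haveI : Nontrivial A := ⟨⟨⟨c, hc⟩, 0, fun e => hc0 (congrArg Subtype.val e)⟩⟩
      exact Finite.one_lt_card
    have := Nat.mul_le_mul hK h3
    omega
  obtain ⟨K', hK'⟩ : ∃ K', Nat.card K = K' + 1 := ⟨Nat.card K - 1, by
    have : 0 < Nat.card K := by
      haveI : Nonempty K := ⟨⟨0, map_zero σ, fun c _ => by simp⟩⟩
      exact Nat.card_pos
    omega⟩
  rw [hK'] at h1 h2
  rw [Nat.add_sub_cancel] at h2
  calc (q + 1) * Nat.card A ≤ ((oaSet σ A).card * K' + (oaSet σ A).card) * Nat.card A :=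
        Nat.mul_le_mul_right _ (by omega)
    _ = (oaSet σ A).card * ((K' + 1) * Nat.card A) := by ring
    _ ≤ (oaSet σ A).card * q := Nat.mul_le_mul_left _ h1

namespace Fr

variable (hm : 2 ≤ m) (fr : Fr F q m) {X : Type*} [MulAction (transvGroup σ (Cfsg.hermForm (m + 2) F q)) X] [Finite X]
include hm

theorem inv_move {a : F} (ha : a ≠ 0) {γ : GL (Fin m) F} (hγ : Iso (Cfsg.hermForm m F q) γ)
    (hdet : (γ : Matrix (Fin m) (Fin m) F).det = σ a / a) (ω : X) :
    ∃ ω' : X, fr.inv hs hm ω' = (moveA (a * σ a) (fr.Aof hs hm ω), moveW (σ a) γ (fr.Wof hs hm ω)) := by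
  obtain ⟨g, hg⟩ := fr.exists_mov hs (by omega) (by omega) ha hγ hdet
  have hσa : σ a ≠ 0 := (map_ne_zero_iff _ σ.injective).2 ha
  refine ⟨g • ω, Prod.ext ?_ ?_⟩
  · refine SetLike.ext fun z => ?_
    rw [mem_moveA]
    constructor
    · intro hz
      refine ⟨(a * σ a)⁻¹ * z, (fr.Aof_mov hs hm hg ω _).1 ?_, mul_inv_cancel_left₀ (mul_ne_zero ha hσa) z⟩
      rw [mul_inv_cancel_left₀ (mul_ne_zero ha hσa) z]
      exact hz
    · rintro ⟨c, hc, rfl⟩
      exact (fr.Aof_mov hs hm hg ω c).2 hc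
  · refine SetLike.ext fun z => ?_
    rw [mem_moveW]
    constructor
    · intro hz
      obtain ⟨w, rfl⟩ : ∃ w, σ a • ((γ : Matrix (Fin m) (Fin m) F) *ᵥ w) = z :=
        ⟨((γ⁻¹ : GL (Fin m) F) : Matrix (Fin m) (Fin m) F) *ᵥ ((σ a)⁻¹ • z), by
          rw [mulVec_inv_cancel, smul_smul, mul_inv_cancel₀ hσa, one_smul]⟩
      exact ⟨w, (fr.Wof_mov hs hm hg ω w).1 hz, rfl⟩
    · rintro ⟨w, hw, rfl⟩
      exact (fr.Wof_mov hs hm hg ω w).2 hw

/-- The realised second invariants over a fixed first one, of a fixed order. -/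
noncomputable def PW (X : Type*) [MulAction (transvGroup σ (Cfsg.hermForm (m + 2) F q)) X] (A : AddSubgroup F)
    (w : ℕ) : Finset (AddSubgroup (Fin m → F)) :=
  (Set.toFinite {W : AddSubgroup (Fin m → F) | Nat.card W = w ∧ ∃ ω : X, fr.inv hs hm ω = (A, W)}).toFinset

omit [Finite X] in
theorem mem_PW {A : AddSubgroup F} {w : ℕ} {W : AddSubgroup (Fin m → F)} :
    W ∈ fr.PW hs hm X A w ↔ Nat.card W = w ∧ ∃ ω : X, fr.inv hs hm ω = (A, W) := by
  rw [PW, Set.Finite.mem_toFinset]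
  rfl

theorem moveW_mem_PW {a : F} (ha : a ≠ 0) {γ : GL (Fin m) F} (hγ : Iso (Cfsg.hermForm m F q) γ)
    (hdet : (γ : Matrix (Fin m) (Fin m) F).det = σ a / a) {A : AddSubgroup F} {w : ℕ}
    {W : AddSubgroup (Fin m → F)} (hW : W ∈ fr.PW hs hm X A w) :
    moveW (σ a) γ W ∈ fr.PW hs hm X (moveA (a * σ a) A) w := by
  obtain ⟨hcard, ω, hω⟩ := (fr.mem_PW hs hm).1 hW
  obtain ⟨ω', hω'⟩ := fr.inv_move hs hm ha hγ hdet ω
  refine (fr.mem_PW hs hm).2 ⟨by rw [card_moveW ((map_ne_zero_iff _ σ.injective).2 ha), hcard], ω', ?_⟩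
  rw [hω']
  obtain ⟨e1, e2⟩ := Prod.ext_iff.1 hω
  show (moveA (a * σ a) (fr.inv hs hm ω).1, moveW (σ a) γ (fr.inv hs hm ω).2) = _
  rw [e1, e2]

theorem count_oa (A : AddSubgroup F) (w : ℕ) :
    (oaSet σ A).card * (fr.PW hs hm X A w).card * q ^ (2 * m + 1) ≤ Nat.card A * w * Nat.card X := by
  classical
  have hsel : ∀ A' ∈ oaSet σ A, ∃ a, a ≠ 0 ∧ moveA (a * σ a) A = A' ∧
      ∃ γ : GL (Fin m) F, Iso (Cfsg.hermForm m F q) γ ∧ (γ : Matrix (Fin m) (Fin m) F).det = σ a / a := by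
    intro A' hA'
    obtain ⟨r, ⟨hr, hr0⟩, rfl⟩ := mem_oaSet.1 hA'
    obtain ⟨a, ha⟩ := CfsgLib.Transvec.Unitary.exists_norm_eq hs.ne_refl hs.inv hr
    have ha0 : a ≠ 0 := fun h => hr0 (by rw [← ha, h, zero_mul])
    obtain ⟨u, hu⟩ : ∃ u : Fin m → F, u = Pi.single ⟨0, by omega⟩ 1 := ⟨_, rfl⟩
    have huu : Cfsg.hermForm m F q u u = 1 := by rw [hu, hermForm_basis hs.frob, if_pos rfl]
    have hl : σ a / a * σ (σ a / a) = 1 := by
      rw [map_div₀, hs.inv]
      have := (map_ne_zero_iff _ σ.injective).2 ha0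
      field_simp
    exact ⟨a, ha0, by rw [ha], qR (Cfsg.hermForm m F q) u (σ a / a), iso_qR (hs.form m) huu hl,
      det_qR (hs.form m) huu hl⟩
  choose a ha hA γ hγ hdet using hsel
  let Φ : {A' // A' ∈ oaSet σ A} × {W // W ∈ fr.PW hs hm X A w} → AddSubgroup F × AddSubgroup (Fin m → F) :=
    fun x => (x.1.1, moveW (σ (a x.1.1 x.1.2)) (γ x.1.1 x.1.2) x.2.1)
  have hinj : Function.Injective Φ := by
    rintro ⟨⟨A₁, hA₁⟩, W₁⟩ ⟨⟨A₂, hA₂⟩, W₂⟩ e
    obtain ⟨e1, e2⟩ := Prod.ext_iff.1 e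
    simp only [Φ] at e1 e2
    subst e1
    exact Prod.ext rfl (Subtype.ext (moveW_inj ((map_ne_zero_iff _ σ.injective).2 (ha _ _)) _ e2))
  have h := fr.card_inv_le hs hm (X := X) (Finset.univ.image Φ) (Nat.card A * w)
    (fun p hp => by
      obtain ⟨⟨⟨A', hA'⟩, ⟨W, hW⟩⟩, -, rfl⟩ := Finset.mem_image.1 hp
      have := fr.moveW_mem_PW hs hm (ha A' hA') (hγ A' hA') (hdet A' hA') hW
      rw [hA A' hA'] at this
      exact ((fr.mem_PW hs hm).1 this).2)
    (fun p hp => by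
      obtain ⟨⟨⟨A', hA'⟩, ⟨W, hW⟩⟩, -, rfl⟩ := Finset.mem_image.1 hp
      show Nat.card A' * Nat.card (moveW _ _ W) ≤ _
      obtain ⟨r, ⟨-, hr0⟩, rfl⟩ := mem_oaSet.1 hA'
      rw [card_moveA hr0, card_moveW ((map_ne_zero_iff _ σ.injective).2 (ha _ _)), ((fr.mem_PW hs hm).1 hW).1])
  rwa [Rad.card_eq hs, Finset.card_image_of_injective _ hinj, Finset.card_univ, Fintype.card_prod,
    Fintype.card_coe, Fintype.card_coe] at h

/-- The basic inequality. -/
theorem main_ineq (A : AddSubgroup F) (w c : ℕ) (hc : c * Nat.card A ≤ (oaSet σ A).card * q) :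
    c * (fr.PW hs hm X A w).card * q ^ (2 * m) ≤ w * Nat.card X := by
  have h := fr.count_oa hs hm (X := X) A w
  refine Nat.le_of_mul_le_mul_left (?_ : Nat.card A * _ ≤ Nat.card A * _) Nat.card_pos
  calc Nat.card A * (c * (fr.PW hs hm X A w).card * q ^ (2 * m))
      = c * Nat.card A * ((fr.PW hs hm X A w).card * q ^ (2 * m)) := by ring
    _ ≤ (oaSet σ A).card * q * ((fr.PW hs hm X A w).card * q ^ (2 * m)) := Nat.mul_le_mul_right _ hc
    _ = (oaSet σ A).card * (fr.PW hs hm X A w).card * q ^ (2 * m + 1) := by ring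
    _ ≤ Nat.card A * w * Nat.card X := h
    _ = Nat.card A * (w * Nat.card X) := by ring

end Fr

end CfsgLib.UnMinIndex
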