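/-
A point with a non-trivial second invariant and a proper first one gives too many points.
-/
import Cfsg.Agent.Lib.UnMinIndex.Count

set_option autoImplicit false

namespace CfsgLib.UnMinIndex

open Matrix CfsgLib.Transvec CfsgLib.Transvec.Unitary CfsgLib.Classical.Unitary

variable {F : Type*} [Field F] [Fintype F] {q : ℕ} {σ : F ≃+* F} {m : ℕ}

variable (hs : Setup F q σ)
include hs

theorem enough_nat (hm : 3 ≤ m) {M : ℕ} (hM : q ^ (2 * m + 1) + 2 * q ^ (2 * m - 1) ≤ M)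
    (hlt : M * (q ^ 2 - 1) < sCount F q (m + 2)) : False :=
  enough hs hm (M := M) (by exact_mod_cast hM) hlt

theorem two_mul_card_le {A : AddSubgroup F} (hA : A ≤ skew σ) {t : F} (ht : t ∈ skew σ) (htA : t ∉ A) :
    2 * Nat.card A ≤ q := by
  rw [← card_skew hs, two_mul, ← Nat.card_sum]
  refine Nat.card_le_card_of_injective
    (Sum.elim (fun a : A => (⟨a.1, hA a.2⟩ : skew σ)) fun a : A => ⟨a.1 + t, add_mem (hA a.2) ht⟩) ?_
  rintro (a | a) (b | b) e <;> have e' := congrArg (fun z : skew σ => z.1) e <;> simp only [Sum.elim_inl, Sum.elim_inr] at e'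
  · exact congrArg Sum.inl (Subtype.ext e')
  · exact absurd (show t ∈ A by rw [show t = a.1 - b.1 by linear_combination -e']; exact sub_mem a.2 b.2) htA
  · exact absurd (show t ∈ A by rw [show t = b.1 - a.1 by linear_combination e']; exact sub_mem b.2 a.2) htA
  · exact congrArg Sum.inr (Subtype.ext (add_right_cancel e'))

theorem cast_q_eq_zero' : (q : F) = 0 := by
  have h : ((Fintype.card F : ℕ) : F) = 0 := FiniteField.cast_card_eq_zero F
  rw [hs.card, Nat.cast_pow] at h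
  exact pow_eq_zero_iff (n := 2) (by norm_num) |>.1 h

/-- The number of anisotropic vectors. -/
theorem card_nonsingular [DecidableEq F] (m : ℕ) :
    (Finset.univ.filter fun v : Fin m → F => Cfsg.hermForm m F q v v ≠ 0).card + sCount F q m + 1 = q ^ (2 * m) := by
  classical
  rw [add_assoc, sCount_add_one hs, CfsgLib.Classical.hermCount, Nat.card_eq_fintype_card, Fintype.card_subtype,
    add_comm, Finset.card_filter_add_card_filter_not, Finset.card_univ, Fintype.card_fun, hs.card, Fintype.card_fin,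
    ← pow_mul]

theorem imB_move {a : F} {γ : GL (Fin m) F} (hγ : Iso (Cfsg.hermForm m F q) γ) (u w : Fin m → F) :
    imB m q (σ a • ((γ : Matrix (Fin m) (Fin m) F) *ᵥ u)) (σ a • ((γ : Matrix (Fin m) (Fin m) F) *ᵥ w)) =
      a * σ a * imB m q u w := by
  simp only [imB, (hs.form m).smul_left, smul_right' (hs.form m), hs.inv, hγ u w, hγ w u]
  ring

/-- Transitivity on singular vectors by elements of determinant one. -/
theorem exists_move_singular (hm : 4 ≤ m) {v v' : Fin m → F} (hv0 : v ≠ 0) (hv0' : v' ≠ 0)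
    (hv : Cfsg.hermForm m F q v v = 0) (hv' : Cfsg.hermForm m F q v' v' = 0) :
    ∃ γ : GL (Fin m) F, Iso (Cfsg.hermForm m F q) γ ∧ (γ : Matrix (Fin m) (Fin m) F).det = 1 ∧
      (γ : Matrix (Fin m) (Fin m) F) *ᵥ v = v' := by
  obtain ⟨g, hg⟩ := exists_move_iso (hs.form m) (by rw [Fintype.card_fin]; omega)
    (Or.inl (by rw [Fintype.card_fin]; omega)) (hermForm_basis hs.frob) hv hv' hv0 hv0'
  exact ⟨g.1, transvGroup_iso (hs.form m) g, (transvGroup_le (hs.form m) g.2).2, hg⟩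

namespace Fr

variable (hm : 2 ≤ m) (fr : Fr F q m) {X : Type*} [MulAction (transvGroup σ (Cfsg.hermForm (m + 2) F q)) X] [Finite X]
include hm

theorem moveW_mem_PW_one {γ : GL (Fin m) F} (hγ : Iso (Cfsg.hermForm m F q) γ)
    (hdet : (γ : Matrix (Fin m) (Fin m) F).det = 1) {A : AddSubgroup F} {w : ℕ} {W : AddSubgroup (Fin m → F)}
    (hW : W ∈ fr.PW hs hm X A w) : moveW 1 γ W ∈ fr.PW hs hm X A w := by
  have h := fr.moveW_mem_PW hs hm (a := 1) one_ne_zero hγ (by rw [hdet, map_one, div_one]) hW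
  rwa [map_one, mul_one, moveA_one] at h

/-- Orbits under maps of determinant one stay among the realised invariants. -/
theorem orbit_le {Γ : Type*} [Group Γ] (ρ : Γ →* GL (Fin m) F) (hρ : ∀ g, Iso (Cfsg.hermForm m F q) (ρ g))
    (hdet : ∀ g, (ρ g : Matrix (Fin m) (Fin m) F).det = 1) {A : AddSubgroup F} {w : ℕ}
    {W : AddSubgroup (Fin m → F)} (hW : W ∈ fr.PW hs hm X A w) :
    letI := mapAct ρ
    MulAction.orbit Γ W ⊆ ↑(fr.PW hs hm X A w) := by
  letI := mapAct ρ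
  rintro _ ⟨g, rfl⟩
  have h := fr.moveW_mem_PW_one hs hm (X := X) (hρ g) (hdet g) hW
  rw [moveW, one_smul] at h
  exact h

theorem PW_three (h3 : m = 3) {A : AddSubgroup F} (hA : A ≤ skew σ) {t : F} (ht : t ∈ skew σ) (htA : t ∉ A)
    (hne : A ≠ ⊥) {w : ℕ} {W : AddSubgroup (Fin m → F)} (hW : W ∈ fr.PW hs hm X A w)
    {u : Fin m → F} (hu : Cfsg.hermForm m F q u u = 0) {c : F} (hc : c ∈ skew σ) {z : Fin m → F} (hz : z ∈ W)
    (hmove : z + (c * Cfsg.hermForm m F q z u) • u ∉ W) : q ^ 3 + 1 ≤ (fr.PW hs hm X A w).card := by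
  classical
  subst h3
  have hcard : 2 ≤ Nat.card A := by
    haveI : Nontrivial A := AddSubgroup.nontrivial_iff_ne_bot A |>.2 hne
    exact Finite.one_lt_card
  have h2A := two_mul_card_le hs hA ht htA
  have hdvd : Nat.card A ∣ q := card_skew hs ▸ AddSubgroup.card_dvd_of_le hA
  have h5 : q ≠ 5 := by
    rintro rfl
    rcases (Nat.dvd_prime (by norm_num)).1 hdvd with h | h <;> omega
  let Γ := transvGroup σ (Cfsg.hermForm 3 F q)
  letI := mapAct (m := 3) Γ.subtype
  let g : Γ := ⟨uT (Cfsg.hermForm 3 F q) u c, uT_mem (hs.form 3) hu hc⟩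
  have hne' : MulAction.stabilizer Γ W ≠ ⊤ := fun h => hmove (by
    have e : g • W = W := MulAction.mem_stabilizer_iff.1 (h ▸ Subgroup.mem_top g)
    rw [← e, ← uT_mulVec (hs.form 3) hu]
    exact ⟨z, hz, rfl⟩)
  have h := index_three hs (by omega) h5 _ hne'
  rw [MulAction.index_stabilizer] at h
  refine h.trans ?_
  rw [← Set.ncard_coe_finset]
  exact Set.ncard_le_ncard (fr.orbit_le hs hm Γ.subtype (fun g => transvGroup_iso (hs.form 3) g)
    (fun g => (transvGroup_le (hs.form 3) g.2).2) hW) (Finset.finite_toSet _)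

theorem wzero_three_bot (h3 : m = 3) (hlt : Nat.card X * (q ^ 2 - 1) < sCount F q (m + 2)) {w : ℕ}
    {W : AddSubgroup (Fin m → F)} (hW : W ∈ fr.PW hs hm X ⊥ w) (hW0 : ∃ z ∈ W, z ≠ 0)
    (hiso : ∀ z ∈ W, ∀ z' ∈ W, imB m q z z' = 0) : False := by
  classical
  subst h3
  have hf := hs.form 3
  have hq := hs.two_le
  obtain ⟨t₀, ht₀0, ht₀⟩ := exists_skew hs.ne_refl hs.inv
  obtain ⟨ψ, -, hψ⟩ := exists_char (⊥ : AddSubgroup F) (t := t₀) (fun h => ht₀0 (AddSubgroup.mem_bot.1 h))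
  let P := imPair (m := 3) hs ψ ⟨t₀, ht₀, hψ⟩
  let E0 : AddSubgroup (Fin 3 → F) → AddSubgroup (Fin 3 → F) := fun W =>
    { carrier := {u | ∀ z ∈ W, imB 3 q u z = 0}
      zero_mem' := fun z _ => by simp [imB, zero_left' hf, zero_right' hf]
      add_mem' := fun {a b} ha hb z hz => by
        have h1 := ha z hz
        have h2 := hb z hz
        simp only [imB, hf.add_left, add_right' hf] at h1 h2 ⊢
        linear_combination h1 + h2
      neg_mem' := fun {a} ha z hz => by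
        have h1 := ha z hz
        simp only [imB, neg_left' hf] at h1 ⊢
        rw [← neg_one_smul F a, smul_right' hf, map_neg, map_one]
        linear_combination -h1 }
  have hE0le : ∀ W' : AddSubgroup (Fin 3 → F), Nat.card W' * Nat.card (E0 W') ≤ q ^ 6 := fun W' => by
    have h1 := P.card_mul_perp W'
    rw [hs.card, ← pow_mul] at h1
    refine le_of_le_of_eq (Nat.mul_le_mul_left _ ?_) h1
    refine Nat.card_le_card_of_injective (Set.inclusion (fun u hu z hz => ?_)) (Set.inclusion_injective _)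
    show ψ (imB 3 q u z) = 1
    rw [hu z hz, AddChar.map_zero_eq_one]
  have hWE : W ≤ E0 W := fun z hz z' hz' => hiso z hz z' hz'
  have hsmul : ∀ (W' : AddSubgroup (Fin 3 → F)) {r : F}, σ r = r → ∀ u ∈ E0 W', r • u ∈ E0 W' := by
    intro W' r hr u hu z hz
    have := hu z hz
    simp only [imB, hf.smul_left, smul_right' hf, hr] at this ⊢
    linear_combination r * this
  have hEns : ∃ v ∈ E0 W, Cfsg.hermForm 3 F q v v ≠ 0 := by
    by_contra hall
    push Not at hall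
    have h3' := card_singular_sq_le hs hall
    let L := AddSubgroup.closure {x : Fin 3 → F | ∃ r, σ r = r ∧ ∃ z ∈ W, r • z = x}
    have hL : L ≤ E0 W := (AddSubgroup.closure_le _).2 (by
      rintro _ ⟨r, hr, z, hz, rfl⟩
      exact hsmul W hr z (hWE hz))
    have hperp : P.perp L ≤ E0 W := by
      intro u hu z hz
      by_contra hne
      have hc : imB 3 q u z ∈ skew σ := imB_mem hs u z
      obtain ⟨r, hr⟩ : ∃ r, r = t₀ / imB 3 q u z := ⟨_, rfl⟩
      have hrfix : σ r = r := by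
        rw [hr, map_div₀, show σ t₀ = -t₀ by linear_combination ht₀,
          show σ (imB 3 q u z) = -imB 3 q u z by linear_combination mem_skew.1 hc, neg_div_neg_eq]
      have h := hu (r • z) (AddSubgroup.subset_closure ⟨r, hrfix, z, hz, rfl⟩)
      have e : imB 3 q u (r • z) = t₀ := by
        simp only [imB, hf.smul_left, smul_right' hf, hrfix] at hr hne ⊢
        rw [← mul_sub]
        rw [hr]
        exact div_mul_cancel₀ _ hne
      exact hψ (e ▸ h)
    have h1 := P.card_mul_perp L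
    rw [hs.card, ← pow_mul] at h1
    have hle : Nat.card L ≤ Nat.card (E0 W) ∧ Nat.card (P.perp L) ≤ Nat.card (E0 W) :=
      ⟨Nat.card_le_card_of_injective (Set.inclusion hL) (Set.inclusion_injective hL),
        Nat.card_le_card_of_injective (Set.inclusion hperp) (Set.inclusion_injective hperp)⟩
    have heq : Nat.card (E0 W) = q ^ 3 := by
      refine le_antisymm h3' ?_
      by_contra hlt'
      push Not at hlt'
      have hmul := Nat.mul_le_mul hle.1 hle.2
      have hlt2 := Nat.mul_self_lt_mul_self hlt'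
      have : q ^ (2 * 3) = q ^ 3 * q ^ 3 := by ring
      rw [h1] at hmul
      omega
    exact absurd (even_of_card_singular hs hall heq) (by decide)
  obtain ⟨v, hvE, hvv, u, huu, huv, c, hc, z₀, hz₀, hmove⟩ := exists_moved hs le_rfl ⊥ ht₀
    (fun h => ht₀0 (AddSubgroup.mem_bot.1 h)) W (E0 W) hWE (fun a ha b hb => AddSubgroup.mem_bot.2 (hiso a ha b hb))
    (fun y hy z hz => by simp [imB, hy z hz, (eq_zero_comm hf).mp (hy z hz)]) hW0 hEns
  obtain ⟨τ, hτ⟩ : ∃ τ : GL (Fin 3) F, τ = uT (Cfsg.hermForm 3 F q) u c := ⟨_, rfl⟩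
  have hτiso : Iso (Cfsg.hermForm 3 F q) τ := hτ ▸ iso_uT hf huu hc
  have hτdet : (τ : Matrix (Fin 3) (Fin 3) F).det = 1 :=
    hτ ▸ (transvGroup_le hf (uT_mem hf huu hc)).2
  have hτv : (τ : Matrix (Fin 3) (Fin 3) F) *ᵥ v = v := by
    rw [hτ, uT_mulVec hf huu, (eq_zero_comm hf).mp huv, mul_zero, zero_smul, add_zero]
  have hW' := fr.moveW_mem_PW_one hs hm (X := X) hτiso hτdet hW
  have hWW' : moveW 1 τ W ≠ W := fun e => hmove (by
    rw [← uT_mulVec hf huu, ← hτ, ← one_smul F ((τ : Matrix (Fin 3) (Fin 3) F) *ᵥ z₀), ← e]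
    exact moveW_mem τ hz₀)
  have hvE' : v ∈ E0 (moveW 1 τ W) := by
    rintro _ ⟨z, hz, rfl⟩
    show imB 3 q v ((1 : F) • ((τ : Matrix (Fin 3) (Fin 3) F) *ᵥ z)) = 0
    have := hvE z hz
    rw [one_smul]
    rw [imB] at this ⊢
    rw [← hτv, hτiso, hτiso, this]
  set NS := Finset.univ.filter fun y : Fin 3 → F => Cfsg.hermForm 3 F q y y ≠ 0 with hNSdef
  set PS := fr.PW hs hm X ⊥ w with hPS
  have hcount : ∀ s, (∀ W' ∈ PS, (NS.filter fun y => y ∈ E0 W').card ≤ s) → NS.card * 2 ≤ PS.card * s := by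
    intro s hs2
    refine cover_card PS NS (fun W' y => y ∈ E0 W') 2 s (fun y hy => ?_) hs2
    have hyy := (Finset.mem_filter.1 hy).2
    obtain ⟨a, ha⟩ := CfsgLib.Transvec.Unitary.exists_norm_eq hs.ne_refl hs.inv
      (b := Cfsg.hermForm 3 F q y y / Cfsg.hermForm 3 F q v v) (by rw [map_div₀, self_fixed hf, self_fixed hf])
    have ha0 : a ≠ 0 := fun h => div_ne_zero hyy hvv (by rw [← ha, h, zero_mul])
    obtain ⟨γ, hγ, hγdet, hγv⟩ := exists_move_aniso hs (by omega : 2 ≤ 3) ha0 hvv (v' := y)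
      (by rw [ha, div_mul_cancel₀ _ hvv])
    have hmem : ∀ {W₁}, W₁ ∈ fr.PW hs hm X ⊥ w → v ∈ E0 W₁ →
        moveW (σ a) γ W₁ ∈ PS.filter fun W' => y ∈ E0 W' := by
      intro W₁ hW₁ hv₁
      refine Finset.mem_filter.2 ⟨?_, ?_⟩
      · have h := fr.moveW_mem_PW hs hm (X := X) ha0 hγ hγdet hW₁
        rwa [moveA, AddSubgroup.map_bot] at h
      · rintro _ ⟨z, hz, rfl⟩
        show imB 3 q y (σ a • ((γ : Matrix (Fin 3) (Fin 3) F) *ᵥ z)) = 0
        rw [← hγv, imB_move hs hγ, hv₁ z hz, mul_zero]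
    exact Finset.one_lt_card.2 ⟨_, hmem hW hvE, _, hmem hW' hvE',
      fun e => hWW' (moveW_inj ((map_ne_zero_iff _ σ.injective).2 ha0) γ e).symm⟩
  have hcard : ∀ W' ∈ PS, Nat.card W' = w ∧ ∃ ω : X, fr.inv hs hm ω = (⊥, W') := fun W' h => (fr.mem_PW hs hm).1 h
  have hineq := fr.main_ineq hs hm (X := X) ⊥ w q (by
    rw [AddSubgroup.card_bot, mul_one]
    exact Nat.le_mul_of_pos_left _ (Finset.card_pos.2 ⟨_, oaSet_nonempty ⊥⟩))
  have hNS := card_nonsingular hs 3
  rw [← hNSdef] at hNS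
  rw [show 2 * 3 = 6 by norm_num] at hNS hineq
  have hS : (sCount F q 3 : ℤ) = _ := sCount_three hs
  have hw : w * w ≤ q ^ 6 := by
    refine le_trans (Nat.mul_le_mul_left _ ?_) ((hcard W hW).1 ▸ hE0le W)
    rw [← (hcard W hW).1]
    exact Nat.card_le_card_of_injective (Set.inclusion hWE) (Set.inclusion_injective hWE)
  rcases Nat.lt_or_ge q 3 with hq2 | hq3
  swap
  · obtain ⟨e, he⟩ : ∃ e, e = q ^ 6 / w := ⟨_, rfl⟩
    have hwpos : 0 < w := (hcard W hW).1 ▸ Nat.card_pos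
    have h1 := hcount e fun W' hW' => by
      refine le_trans ?_ (he ▸ (Nat.le_div_iff_mul_le hwpos).2 (by
        rw [mul_comm, ← (hcard W' hW').1]; exact hE0le W'))
      rw [← Fintype.card_coe, ← Nat.card_eq_fintype_card]
      exact Nat.card_le_card_of_injective (fun y => (⟨y.1, (Finset.mem_filter.1 y.2).2⟩ : E0 W'))
        fun y y' e => Subtype.ext (congrArg (fun t : E0 W' => t.1) e)
    have h2 : w * e ≤ q ^ 6 := by rw [he, mul_comm]; exact Nat.div_mul_le_self _ _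
    have h4 : q * 2 * NS.card ≤ Nat.card X := by
      refine Nat.le_of_mul_le_mul_left (?_ : q ^ 6 * _ ≤ q ^ 6 * _) (by positivity)
      calc q ^ 6 * (q * 2 * NS.card) = q * q ^ 6 * (NS.card * 2) := by ring
        _ ≤ q * q ^ 6 * (PS.card * e) := Nat.mul_le_mul_left _ h1
        _ = q * PS.card * q ^ 6 * e := by ring
        _ ≤ w * Nat.card X * e := Nat.mul_le_mul_right _ hineq
        _ = w * e * Nat.card X := by ring
        _ ≤ q ^ 6 * Nat.card X := Nat.mul_le_mul_right _ h2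
    refine enough hs le_rfl (le_trans ?_ (Nat.cast_le.2 h4)) hlt
    have hNS' : (NS.card : ℤ) + sCount F q 3 + 1 = (q : ℤ) ^ 6 := by exact_mod_cast hNS
    push_cast
    have hQ : (3 : ℤ) ≤ q := by exact_mod_cast hq3
    rw [show (NS.card : ℤ) = (q : ℤ) ^ 6 - ((q : ℤ) ^ 3 + 1) * ((q : ℤ) ^ 2 - 1) - 1 by linarith]
    set Q := (q : ℤ)
    norm_num
    nlinarith [mul_nonneg (mul_nonneg (show (0 : ℤ) ≤ Q - 3 by linarith) (show (0 : ℤ) ≤ Q + 1 by linarith))
      (show (0 : ℤ) ≤ Q ^ 5 by positivity), mul_nonneg (show (0 : ℤ) ≤ Q - 3 by linarith) (show (0 : ℤ) ≤ Q ^ 3 by positivity),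
      pow_le_pow_left₀ (by norm_num) hQ 5, pow_le_pow_left₀ (by norm_num) hQ 3]
  · obtain rfl : q = 2 := by omega
    have hNS36 : NS.card = 36 := by
      have : (sCount F 2 3 : ℤ) = 27 := by rw [sCount_three hs]; norm_num
      have : sCount F 2 3 = 27 := by exact_mod_cast this
      norm_num at hNS
      omega
    refine enough_nat hs le_rfl (M := Nat.card X) ?_ hlt
    norm_num at hineq hw hE0le ⊢
    rw [hNS36] at hcount
    have hwne : 2 ≤ w := by
      obtain ⟨z, hz, hz0⟩ := hW0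
      rw [← (hcard W hW).1]
      haveI : Nontrivial W := ⟨⟨⟨z, hz⟩, 0, fun e => hz0 (congrArg Subtype.val e)⟩⟩
      exact Finite.one_lt_card
    obtain ⟨i, hi, hwi⟩ : ∃ i, i ≤ 6 ∧ w = 2 ^ i := by
      have h := AddSubgroup.card_addSubgroup_dvd_card W
      rw [(hcard W hW).1, Nat.card_fun, Nat.card_eq_fintype_card, hs.card, Nat.card_fin] at h
      norm_num at h
      exact (Nat.dvd_prime_pow Nat.prime_two).1 (show w ∣ 2 ^ 6 by norm_num; exact h)
    have hi3 : i ≤ 3 := by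
      by_contra hi4
      have : 2 ^ 4 ≤ w := hwi ▸ Nat.pow_le_pow_right (by norm_num) (by omega)
      nlinarith
    have hns : ∀ W' ∈ PS, (NS.filter fun y => y ∈ E0 W').card + (if 4 ≤ w then 2 else 1) ≤ 64 / w := by
      intro W' hW'
      have hE : Nat.card (E0 W') ≤ 64 / w := (Nat.le_div_iff_mul_le (by omega)).2 (by
        rw [mul_comm, ← (hcard W' hW').1]
        simpa using hE0le W')
      refine le_trans ?_ hE
      obtain ⟨Z, hZ1, hZ2⟩ : ∃ Z : Finset (Fin 3 → F), (if 4 ≤ w then 2 else 1) ≤ Z.card ∧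
          ∀ y ∈ Z, y ∈ E0 W' ∧ Cfsg.hermForm 3 F 2 y y = 0 := by
        split_ifs with h4
        · obtain ⟨-, ω, hω⟩ := hcard W' hW'
          have hW'iso : ∀ z ∈ W', ∀ z' ∈ W', imB 3 2 z z' = 0 := fun z hz z' hz' => by
            obtain ⟨e1, e2⟩ := Prod.ext_iff.1 hω
            have h := fr.imB_mem_Aof hs hm ω (w := z) (w' := z')
              (by rw [show fr.Wof hs hm ω = W' from e2]; exact hz) (by rw [show fr.Wof hs hm ω = W' from e2]; exact hz')
            rw [show fr.Aof hs hm ω = ⊥ from e1] at h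
            exact AddSubgroup.mem_bot.1 h
          have h2F : (2 : F) = 0 := by
            haveI := Fact.mk Nat.prime_two
            have h := FiniteField.cast_card_eq_zero F
            rw [hs.card, Nat.cast_pow, Nat.cast_ofNat] at h
            exact pow_eq_zero_iff (n := 2) (by norm_num) |>.1 h
          let f : W' →+ F :=
            { toFun := fun z => Cfsg.hermForm 3 F 2 z.1 z.1
              map_zero' := zero_left' hf _
              map_add' := fun z z' => by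
                have h := hW'iso z.1 z.2 z'.1 z'.2
                rw [imB] at h
                show Cfsg.hermForm 3 F 2 (z.1 + z'.1) (z.1 + z'.1) = _
                rw [hf.add_left, add_right' hf, add_right' hf]
                linear_combination h + (Cfsg.hermForm 3 F 2 z'.1 z.1) * h2F }
          have hker : ∃ z : W', z ≠ 0 ∧ f z = 0 := by
            by_contra hno
            push Not at hno
            have hinj : Function.Injective f := (injective_iff_map_eq_zero f).2 fun z hz =>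
              by_contra fun h => hno z h hz
            have h := Nat.card_le_card_of_injective (fun z : W' => (⟨f z, mem_fixd.2 (self_fixed hf z.1)⟩ : fixd σ))
              fun a b e => hinj (congrArg Subtype.val e)
            rw [card_fixd hs, (hcard W' hW').1] at h
            omega
          obtain ⟨z, hz0, hfz⟩ := hker
          refine ⟨{(0 : Fin 3 → F), z.1}, (Finset.card_pair fun e : (0 : Fin 3 → F) = z.1 => hz0 (Subtype.ext e.symm)).ge,
            fun y hy => ?_⟩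
          rcases Finset.mem_insert.1 hy with rfl | hy
          · exact ⟨zero_mem _, zero_left' hf _⟩
          · rw [Finset.mem_singleton] at hy
            subst hy
            exact ⟨fun z' hz' => hW'iso _ z.2 _ hz', hfz⟩
        · exact ⟨{0}, by simp, fun y hy => by
            rw [Finset.mem_singleton] at hy; subst hy; exact ⟨zero_mem _, zero_left' hf _⟩⟩
      refine le_trans (Nat.add_le_add_left hZ1 _) ?_
      rw [← Finset.card_union_of_disjoint (Finset.disjoint_left.2 fun y hy hy' => by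
        have h := (Finset.mem_filter.1 hy).1
        rw [hNSdef, Finset.mem_filter] at h
        exact h.2 (hZ2 y hy').2), ← Fintype.card_coe,
        ← Nat.card_eq_fintype_card]
      exact Nat.card_le_card_of_injective (fun y => (⟨y.1, by
        rcases Finset.mem_union.1 y.2 with h | h
        · exact (Finset.mem_filter.1 h).2
        · exact (hZ2 _ h).1⟩ : E0 W')) fun y y' e => Subtype.ext (congrArg (fun t : E0 W' => t.1) e)
    rw [← hPS] at hineq
    have h' := hcount (64 / w - (if 4 ≤ w then 2 else 1)) fun W' hW' => by have := hns W' hW'; omega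
    rcases (show i = 0 ∨ i = 1 ∨ i = 2 ∨ i = 3 by omega) with rfl | rfl | rfl | rfl <;>
      first | omega | (norm_num [hwi] at h' hineq; omega)

/-- The count behind the anisotropic case. -/
theorem norm_count [DecidableEq F] {A : AddSubgroup F} (hA : A ≤ skew σ) {t₀ : F}
    (ht₀ : t₀ ∈ skew σ) (ht₀A : t₀ ∉ A) {ψ : AddChar F ℂ} (hψ : ψ t₀ ≠ 1) {w : ℕ}
    {W : AddSubgroup (Fin m → F)} (hW : W ∈ fr.PW hs hm X A w) {v : Fin m → F}
    (hvE : v ∈ (imPair (m := m) hs ψ ⟨t₀, ht₀, hψ⟩).perp W) (hvv : Cfsg.hermForm m F q v v ≠ 0)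
    {Γ : Type*} [Group Γ] (ρ : Γ →* GL (Fin m) F) (hρmem : ∀ g, ρ g ∈ transvGroup σ (Cfsg.hermForm m F q))
    (hρv : ∀ g, (ρ g : Matrix (Fin m) (Fin m) F) *ᵥ v = v) (k : ℕ)
    (hk : letI := mapAct ρ; k ≤ Nat.card (MulAction.orbit Γ W)) :
    q * k * (Finset.univ.filter fun y : Fin m → F =>
      Cfsg.hermForm m F q y y = Cfsg.hermForm m F q v v).card ≤ Nat.card X := by
  classical
  have hf := hs.form m
  have hq := hs.two_le
  set P := imPair (m := m) hs ψ ⟨t₀, ht₀, hψ⟩ with hPdef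
  letI := mapAct ρ
  have horb := fr.orbit_le hs hm (X := X) ρ (fun g => (transvGroup_le hf (hρmem g)).1)
    (fun g => (transvGroup_le hf (hρmem g)).2) hW
  set PS := fr.PW hs hm X A w with hPS
  set T := Finset.univ.filter fun y : Fin m → F => Cfsg.hermForm m F q y y = Cfsg.hermForm m F q v v with hT
  have hcardW : ∀ W' ∈ PS, Nat.card W' = w := fun W' h => ((fr.mem_PW hs hm).1 h).1
  obtain ⟨e, he⟩ : ∃ e, e = Nat.card (P.perp W) := ⟨_, rfl⟩
  have hwe : ∀ W' ∈ PS, Nat.card (P.perp W') = e := by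
    intro W' hW'
    have h1 := P.card_mul_perp W'
    have h2 := P.card_mul_perp W
    rw [hcardW W' hW'] at h1
    rw [hcardW W hW, ← h1, ← he] at h2
    have hwpos : 0 < w := hcardW W hW ▸ Nat.card_pos
    exact (Nat.eq_of_mul_eq_mul_left hwpos h2).symm
  have hcount : T.card * k ≤ PS.card * e := by
    refine cover_card PS T (fun W' y => y ∈ P.perp W') k e (fun y hy => ?_) fun W' hW' => ?_
    · have hyy : Cfsg.hermForm m F q y y = Cfsg.hermForm m F q v v := (Finset.mem_filter.1 hy).2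
      obtain ⟨γ, hγ, hγdet, hγv⟩ := exists_move_aniso hs (by omega : 2 ≤ m) (one_ne_zero (α := F)) hvv (v' := y)
        (by rw [map_one, mul_one, one_mul, hyy])
      rw [map_one, div_one] at hγdet
      rw [map_one, one_smul] at hγv
      refine hk.trans ?_
      rw [← Fintype.card_coe, ← Nat.card_eq_fintype_card]
      refine Nat.card_le_card_of_injective (fun W₁ => ⟨moveW 1 γ W₁.1, Finset.mem_filter.2
        ⟨fr.moveW_mem_PW_one hs hm hγ hγdet (horb W₁.2), ?_⟩⟩) fun W₁ W₂ e => Subtype.ext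
          (moveW_inj one_ne_zero γ (congrArg Subtype.val e))
      obtain ⟨h, hh⟩ := W₁.2
      rintro _ ⟨z, hz, rfl⟩
      rw [← hh] at hz
      obtain ⟨z', hz', rfl⟩ := hz
      have hiρ := (transvGroup_le hf (hρmem h)).1
      show ψ (imB m q y ((1 : F) • ((γ : Matrix (Fin m) (Fin m) F) *ᵥ ((ρ h : Matrix (Fin m) (Fin m) F) *ᵥ z')))) = 1
      rw [← hγv, ← hρv h, one_smul, imB, hγ, hγ, hiρ, hiρ]
      exact hvE z' hz'
    · rw [← hwe W' hW', ← Fintype.card_coe, ← Nat.card_eq_fintype_card]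
      exact Nat.card_le_card_of_injective (fun y => (⟨y.1, (Finset.mem_filter.1 y.2).2⟩ : P.perp W'))
        fun y y' e => Subtype.ext (congrArg (fun t : P.perp W' => t.1) e)
  have hineq := fr.main_ineq hs hm (X := X) A w q (by
    by_cases hne : A = ⊥
    · subst hne
      rw [AddSubgroup.card_bot, mul_one]
      exact Nat.le_mul_of_pos_left _ (Finset.card_pos.2 ⟨_, oaSet_nonempty ⊥⟩)
    · exact le_trans (Nat.mul_le_mul_right _ (Nat.le_succ q)) (oa_bound hs hA ht₀ ht₀A hne))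
  have hwe' : w * e = q ^ (2 * m) := by
    rw [← hcardW W hW, he, P.card_mul_perp W, hs.card, ← pow_mul]
  have h4 : q * k * T.card ≤ Nat.card X := by
    refine Nat.le_of_mul_le_mul_left (?_ : q ^ (2 * m) * _ ≤ q ^ (2 * m) * _) (pow_pos (by omega) _)
    calc q ^ (2 * m) * (q * k * T.card) = q * q ^ (2 * m) * (T.card * k) := by ring
      _ ≤ q * q ^ (2 * m) * (PS.card * e) := Nat.mul_le_mul_left _ hcount
      _ = q * PS.card * q ^ (2 * m) * e := by ring
      _ ≤ w * Nat.card X * e := Nat.mul_le_mul_right _ hineq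
      _ = w * e * Nat.card X := by ring
      _ = q ^ (2 * m) * Nat.card X := by rw [hwe']
  exact h4

theorem wzero_norm_class (hm4 : 4 ≤ m) (hmq : q = 2 → Odd m ∨ 5 ≤ m)
    (hlt : Nat.card X * (q ^ 2 - 1) < sCount F q (m + 2)) {A : AddSubgroup F} (hA : A ≤ skew σ) {t₀ : F}
    (ht₀ : t₀ ∈ skew σ) (ht₀A : t₀ ∉ A) {ψ : AddChar F ℂ} (hψA : ∀ c ∈ A, ψ c = 1) (hψ : ψ t₀ ≠ 1) {w : ℕ}
    {W : AddSubgroup (Fin m → F)} (hW : W ∈ fr.PW hs hm X A w) (hW0 : ∃ z ∈ W, z ≠ 0)
    (hiso : ∀ z ∈ W, ∀ z' ∈ W, imB m q z z' ∈ A)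
    (hns : ∃ v ∈ (imPair (m := m) hs ψ ⟨t₀, ht₀, hψ⟩).perp W, Cfsg.hermForm m F q v v ≠ 0) : False := by
  classical
  have hf := hs.form m
  have hq := hs.two_le
  set P := imPair (m := m) hs ψ ⟨t₀, ht₀, hψ⟩ with hPdef
  have hWE : W ≤ P.perp W := fun z hz z' hz' => hψA _ (hiso z hz z' hz')
  obtain ⟨v, hvE, hvv, u, huu, huv, c, hc, z₀, hz₀, hmove⟩ := exists_moved hs (by omega) A ht₀ ht₀A W (P.perp W)
    hWE hiso (fun y hy z hz => by
      show ψ (imB m q y z) = 1
      rw [imB, hy z hz, (eq_zero_comm hf).mp (hy z hz), sub_zero, AddChar.map_zero_eq_one]) hW0 hns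
  obtain ⟨φv, hφv, hφv'⟩ := exists_perp_emb hs hvv
  let Γ := transvGroup σ (Cfsg.hermForm (m - 1) F q)
  let ρ : Γ →* GL (Fin m) F := (φv.extGL hs).comp Γ.subtype
  have hρmem : ∀ g : Γ, ρ g ∈ transvGroup σ (Cfsg.hermForm m F q) := fun g => φv.extGL_mem hs g.2
  have hρv : ∀ g : Γ, (ρ g : Matrix (Fin m) (Fin m) F) *ᵥ v = v := fun g =>
    φv.extGL_perp hs g.1 (funext fun i => (eq_zero_comm hf).mp (hφv _))
  letI := mapAct ρ
  obtain ⟨g, hgW⟩ : ∃ g : Γ, g • W ≠ W := by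
    have hu' : Cfsg.hermForm (m - 1) F q (φv.proj u) (φv.proj u) = 0 := by
      rw [← φv.form_toLin hs u (φv.proj u), hφv' u huv, huu]
    refine ⟨⟨uT (Cfsg.hermForm (m - 1) F q) (φv.proj u) c, uT_mem (hs.form (m - 1)) hu' hc⟩, fun e => hmove ?_⟩
    rw [← e, ← uT_mulVec hf huu]
    refine ⟨z₀, hz₀, ?_⟩
    show ((φv.extGL hs (uT (Cfsg.hermForm (m - 1) F q) (φv.proj u) c) : GL (Fin m) F) : Matrix (Fin m) (Fin m) F) *ᵥ z₀ = _
    rw [φv.extGL_uT hs hu', hφv' u huv]
  have hhjq : ¬(m - 1 = 3 ∧ q = 2) := by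
    rintro ⟨h1, h2⟩
    rcases hmq h2 with ⟨i, hi⟩ | h5 <;> omega
  have hk : q + 2 ≤ Nat.card (MulAction.orbit Γ W) :=
    orbit_lower hs (by omega) hhjq g (y := (⟨W, MulAction.mem_orbit_self W⟩ : MulAction.orbit Γ W))
      fun e => hgW (congrArg Subtype.val e)
  have h4 := fr.norm_count hs hm hA ht₀ ht₀A (hψ := hψ) hW hvE hvv ρ hρmem hρv (q + 2) hk
  set T := Finset.univ.filter fun y : Fin m → F => Cfsg.hermForm m F q y y = Cfsg.hermForm m F q v v with hT
  refine enough hs (by omega) (le_trans ?_ (Nat.cast_le.2 h4)) hlt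
  have hTc : T.card = CfsgLib.Classical.hermCount m F q (1 : F) := by
    rw [← hermCount_eq_one_of hs (self_fixed hf v) hvv, CfsgLib.Classical.hermCount, Nat.card_eq_fintype_card,
      Fintype.card_subtype]
  obtain ⟨i, rfl⟩ : ∃ i, m = i + 4 := ⟨m - 4, by omega⟩
  have hlow : (q : ℤ) ^ (i + 3) * ((q : ℤ) ^ (i + 4) - 1) ≤ (T.card : ℤ) := by
    rw [hTc]
    exact norm_count_lower hs (i + 3)
  push_cast
  refine le_trans ?_ (mul_le_mul_of_nonneg_left hlow (by positivity))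
  have hQ : (2 : ℤ) ≤ q := by exact_mod_cast hq
  rw [show 2 * (i + 4) + 1 = 2 * i + 9 by ring, show 2 * (i + 4) - 1 = 2 * i + 7 by omega]
  have hI : (1 : ℤ) ≤ (q : ℤ) ^ i := one_le_pow₀ (by omega)
  have e9 : (q : ℤ) ^ (2 * i + 9) = (q : ℤ) ^ 9 * ((q : ℤ) ^ i * (q : ℤ) ^ i) := by ring
  have e7 : (q : ℤ) ^ (2 * i + 7) = (q : ℤ) ^ 7 * ((q : ℤ) ^ i * (q : ℤ) ^ i) := by ring
  have e4 : (q : ℤ) ^ (i + 4) = (q : ℤ) ^ 4 * (q : ℤ) ^ i := by ring
  have e3 : (q : ℤ) ^ (i + 3) = (q : ℤ) ^ 3 * (q : ℤ) ^ i := by ring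
  rw [e9, e7, e4, e3]
  set Q := (q : ℤ)
  set I := Q ^ i
  have hQ4 : 0 ≤ Q ^ 4 := by positivity
  have key : Q + 2 ≤ 2 * (Q ^ 4 * I) - 2 * (Q ^ 3 * I) := by
    have h1 : Q * 4 * 1 ≤ Q ^ 3 * I := by
      refine mul_le_mul ?_ hI zero_le_one (by positivity)
      calc Q * 4 ≤ Q * Q ^ 2 := mul_le_mul_of_nonneg_left (by nlinarith) (by linarith)
        _ = Q ^ 3 := by ring
    have h2 : 2 * (Q ^ 3 * I) ≤ Q * (Q ^ 3 * I) := mul_le_mul_of_nonneg_right hQ (by positivity)
    linarith [show Q * (Q ^ 3 * I) = Q ^ 4 * I by ring]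
  nlinarith [mul_le_mul_of_nonneg_left key (show (0 : ℤ) ≤ Q ^ 4 * I by positivity)]

theorem wzero_singular_pairs (hm4 : 4 ≤ m) (hme : Even m) (hq3 : 3 ≤ q)
    (hlt : Nat.card X * (q ^ 2 - 1) < sCount F q (m + 2)) {A : AddSubgroup F} (hA : A ≤ skew σ) {t₀ : F}
    (ht₀ : t₀ ∈ skew σ) (ht₀A : t₀ ∉ A)
    {W : AddSubgroup (Fin m → F)} {ω : X} (hω : fr.inv hs hm ω = (A, W)) (hWc : Nat.card W = q ^ m)
    (hsing : ∀ z ∈ W, Cfsg.hermForm m F q z z = 0) {v z : Fin m → F} (hv : v ∈ W) (hz : z ∈ W)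
    (hvz : Cfsg.hermForm m F q v z ≠ 0) : False := by
  classical
  haveI : Fintype (AddSubgroup F × AddSubgroup (Fin m → F)) := Fintype.ofFinite _
  have hf := hs.form m
  have hdskew : Cfsg.hermForm m F q v z ∈ skew σ := by
    have h := reB_eq_zero_of_singular hs hsing hv hz
    rw [reB, hf.herm z v] at h
    exact mem_skew.2 h
  set PP := Finset.univ.filter fun p : AddSubgroup F × AddSubgroup (Fin m → F) =>
    (∃ ω' : X, fr.inv hs hm ω' = p) ∧ Nat.card p.1 = Nat.card A ∧ Nat.card p.2 = q ^ m with hPP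
  have hcount := fr.card_inv_le hs hm (X := X) PP (Nat.card A * q ^ m) (fun p hp => (Finset.mem_filter.1 hp).2.1)
    (fun p hp => by rw [(Finset.mem_filter.1 hp).2.2.1, (Finset.mem_filter.1 hp).2.2.2])
  rw [Rad.card_eq hs] at hcount
  set T := Finset.univ.filter fun p : (Fin m → F) × (Fin m → F) =>
    Cfsg.hermForm m F q p.1 p.1 = 0 ∧ Cfsg.hermForm m F q p.2 p.2 = 0 ∧ Cfsg.hermForm m F q p.1 p.2 ∈ skew σ ∧
      Cfsg.hermForm m F q p.1 p.2 ≠ 0 with hT
  have hcover : T.card * 1 ≤ PP.card * (q ^ m * q ^ m) := by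
    refine cover_card PP T (fun p x => x.1 ∈ p.2 ∧ x.2 ∈ p.2) 1 _ (fun x hx => ?_) fun p hp => ?_
    · obtain ⟨hx1, hx2, hxd, hxd0⟩ := (Finset.mem_filter.1 hx).2
      obtain ⟨a, γ, ha, hγ, hdet, e1, e2⟩ := exists_move_pair hs hm4 hdskew hvz hxd hxd0 (hsing v hv) (hsing z hz)
        rfl hx1 hx2 rfl
      obtain ⟨ω', hω'⟩ := fr.inv_move hs hm ha hγ hdet ω
      obtain ⟨f1, f2⟩ := Prod.ext_iff.1 hω
      have hω2 : fr.inv hs hm ω' = (moveA (a * σ a) A, moveW (σ a) γ W) := by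
        rw [hω']
        show (moveA (a * σ a) (fr.inv hs hm ω).1, moveW (σ a) γ (fr.inv hs hm ω).2) = _
        rw [f1, f2]
      refine Finset.card_pos.2 ⟨(moveA (a * σ a) A, moveW (σ a) γ W), Finset.mem_filter.2
        ⟨Finset.mem_filter.2 ⟨Finset.mem_univ _, ⟨ω', hω2⟩, ?_, ?_⟩, ?_, ?_⟩⟩
      · exact card_moveA (mul_ne_zero ha ((map_ne_zero_iff _ σ.injective).2 ha)) A
      · exact (card_moveW ((map_ne_zero_iff _ σ.injective).2 ha) γ W).trans hWc
      · rw [← e1]; exact moveW_mem γ hv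
      · rw [← e2]; exact moveW_mem γ hz
    · rw [← (Finset.mem_filter.1 hp).2.2.2, ← Nat.card_prod, ← Fintype.card_coe, ← Nat.card_eq_fintype_card]
      exact Nat.card_le_card_of_injective (fun x => ((⟨x.1.1, (Finset.mem_filter.1 x.2).2.1⟩ : p.2),
        (⟨x.1.2, (Finset.mem_filter.1 x.2).2.2⟩ : p.2))) fun x y e => Subtype.ext
          (Prod.ext (congrArg (fun t => (t.1 : Fin m → F)) e) (congrArg (fun t => (t.2 : Fin m → F)) e))
  obtain ⟨i, rfl⟩ : ∃ i, m = i + 3 + 1 := ⟨m - 4, by omega⟩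
  have hTlow : sCount F q (i + 3 + 1) * ((q - 1) * q ^ (2 * (i + 2) + 1)) ≤ T.card := by
    set Sv := Finset.univ.filter fun y : Fin (i + 3 + 1) → F => y ≠ 0 ∧ Cfsg.hermForm (i + 3 + 1) F q y y = 0 with hSv
    set D := Finset.univ.filter fun d : F => d ∈ skew σ ∧ d ≠ 0 with hD
    let part : (Fin (i + 3 + 1) → F) → F → Finset (Fin (i + 3 + 1) → F) := fun y d =>
      Finset.univ.filter fun y' => Cfsg.hermForm (i + 3 + 1) F q y' y' = 0 ∧ Cfsg.hermForm (i + 3 + 1) F q y y' = d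
    have hle : (Sv.sigma fun y => D.sigma fun d => part y d).card ≤ T.card := by
      refine Finset.card_le_card_of_injOn (fun x => (x.1, x.2.2)) (fun x hx => ?_) (fun x hx x' hx' e => ?_)
      · simp only [Finset.coe_sigma, Set.mem_sigma_iff, Finset.mem_coe, hSv, hD, part, Finset.mem_filter,
          Finset.mem_univ, true_and] at hx
        simp only [hT, Finset.mem_coe, Finset.mem_filter, Finset.mem_univ, true_and]
        exact ⟨hx.1.2, hx.2.2.1, hx.2.2.2 ▸ hx.2.1.1, hx.2.2.2 ▸ hx.2.1.2⟩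
      · simp only [Finset.coe_sigma, Set.mem_sigma_iff, Finset.mem_coe, hSv, hD, part, Finset.mem_filter,
          Finset.mem_univ, true_and] at hx hx'
        obtain ⟨y, d, y'⟩ := x
        obtain ⟨y₂, d₂, y₂'⟩ := x'
        obtain ⟨rfl, rfl⟩ := Prod.ext_iff.1 e
        obtain rfl : d = d₂ := hx.2.2.2.symm.trans hx'.2.2.2
        rfl
    refine le_trans ?_ hle
    rw [Finset.card_sigma]
    have hSc : Sv.card = sCount F q (i + 3 + 1) := by
      rw [sCount, Nat.card_eq_fintype_card, Fintype.card_subtype]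
    have hDc : D.card = q - 1 := by
      have : D = (Finset.univ.filter fun d : F => d ∈ skew σ).erase 0 := by ext d; simp [hD, and_comm]
      rw [this, Finset.card_erase_of_mem (by simp), ← Fintype.card_subtype, ← Nat.card_eq_fintype_card]
      exact congrArg (· - 1) (card_skew hs)
    rw [← hSc, ← smul_eq_mul]
    refine Finset.card_nsmul_le_sum _ _ _ fun y hy => ?_
    rw [Finset.card_sigma, ← hDc, ← smul_eq_mul]
    refine Finset.card_nsmul_le_sum _ _ _ fun d hd => ?_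
    simp only [hSv, hD, Finset.mem_filter, Finset.mem_univ, true_and] at hy hd
    have h := card_partners hs (k := i + 2) hy.1 hy.2 hd.2
    rw [Nat.card_eq_fintype_card, Fintype.card_subtype] at h
    exact h
  have h2A := two_mul_card_le hs hA ht₀ ht₀A
  have hS : q ^ (2 * i + 7) ≤ sCount F q (i + 3 + 1) := by
    have h := sCount_even hs (j := i + 3) hme
    have hQ : (3 : ℤ) ≤ q := by exact_mod_cast hq3
    have hI : (1 : ℤ) ≤ (q : ℤ) ^ i := one_le_pow₀ (by omega)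
    have h' : (q : ℤ) ^ (2 * i + 7) ≤ (sCount F q (i + 3 + 1) : ℤ) := by
      rw [h, show (q : ℤ) ^ (i + 3 + 1) = (q : ℤ) ^ 4 * (q : ℤ) ^ i by ring,
        show (q : ℤ) ^ (i + 3) = (q : ℤ) ^ 3 * (q : ℤ) ^ i by ring,
        show (q : ℤ) ^ (2 * i + 7) = (q : ℤ) ^ 4 * (q : ℤ) ^ i * ((q : ℤ) ^ 3 * (q : ℤ) ^ i) by ring]
      set Q := (q : ℤ)
      have : 1 * 1 ≤ (Q - 1) * (Q ^ 3 * Q ^ i) := by
        refine mul_le_mul (by linarith) (one_le_mul_of_one_le_of_one_le (one_le_pow₀ (by linarith)) hI) zero_le_one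
          (by linarith)
      nlinarith
    exact_mod_cast h'
  refine enough_nat hs (by omega) (M := Nat.card X) ?_ hlt
  have hkey : 2 * (q - 1) * q ^ (3 * i + 8) ≤ Nat.card X := by
    refine Nat.le_of_mul_le_mul_left (?_ : q ^ (3 * (i + 4) + 1) * _ ≤ q ^ (3 * (i + 4) + 1) * _) (pow_pos (by omega) _)
    calc q ^ (3 * (i + 4) + 1) * (2 * (q - 1) * q ^ (3 * i + 8))
        = 2 * (q ^ (2 * i + 7) * ((q - 1) * q ^ (2 * (i + 2) + 1))) * q ^ (2 * (i + 3 + 1) + 1) := by ring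
      _ ≤ 2 * (sCount F q (i + 3 + 1) * ((q - 1) * q ^ (2 * (i + 2) + 1))) * q ^ (2 * (i + 3 + 1) + 1) :=
          Nat.mul_le_mul_right _ (Nat.mul_le_mul_left _ (Nat.mul_le_mul_right _ hS))
      _ ≤ 2 * (PP.card * (q ^ (i + 3 + 1) * q ^ (i + 3 + 1))) * q ^ (2 * (i + 3 + 1) + 1) :=
          Nat.mul_le_mul_right _ (Nat.mul_le_mul_left _ (by rw [mul_one] at hcover; exact hTlow.trans hcover))
      _ = 2 * (PP.card * q ^ (2 * (i + 3 + 1) + 1)) * (q ^ (i + 3 + 1) * q ^ (i + 3 + 1)) := by ring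
      _ ≤ 2 * (Nat.card A * q ^ (i + 3 + 1) * Nat.card X) * (q ^ (i + 3 + 1) * q ^ (i + 3 + 1)) :=
          Nat.mul_le_mul_right _ (Nat.mul_le_mul_left _ hcount)
      _ = 2 * Nat.card A * (q ^ (3 * (i + 4)) * Nat.card X) := by ring
      _ ≤ q * (q ^ (3 * (i + 4)) * Nat.card X) := Nat.mul_le_mul_right _ h2A
      _ = q ^ (3 * (i + 4) + 1) * Nat.card X := by ring
  refine le_trans ?_ hkey
  rw [show 2 * (i + 3 + 1) - 1 = 2 * i + 7 by omega, show 2 * (i + 3 + 1) + 1 = 2 * i + 7 + 2 by ring]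
  have h1 : q ^ (2 * i + 8) ≤ q ^ (3 * i + 8) := Nat.pow_le_pow_right (by omega) (by omega)
  have h2 : q ^ (2 * i + 8) = q * q ^ (2 * i + 7) := by ring
  have h3 : q ^ (2 * i + 7 + 2) = q * q * q ^ (2 * i + 7) := by ring
  obtain ⟨r, rfl⟩ : ∃ r, q = r + 3 := ⟨q - 3, by omega⟩
  rw [h2] at h1
  refine le_trans ?_ (Nat.mul_le_mul_left _ h1)
  rw [h3, show r + 3 - 1 = r + 2 by omega, ← mul_assoc, ← add_mul]
  exact Nat.mul_le_mul_right _ (by nlinarith)

theorem wzero_singular_pairs_two (hm4 : 4 ≤ m) (hme : Even m) (hq2 : q = 2)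
    (hlt : Nat.card X * (q ^ 2 - 1) < sCount F q (m + 2)) {A : AddSubgroup F} (hA : A ≤ skew σ) {t₀ : F}
    (ht₀ : t₀ ∈ skew σ) (ht₀A : t₀ ∉ A)
    {W : AddSubgroup (Fin m → F)} {ω : X} (hω : fr.inv hs hm ω = (A, W)) (hWc : Nat.card W = q ^ m)
    (hsing : ∀ z ∈ W, Cfsg.hermForm m F q z z = 0) {v z : Fin m → F} (hv : v ∈ W) (hz : z ∈ W)
    (hvz : Cfsg.hermForm m F q v z ≠ 0) : False := by
  classical
  haveI : Fintype (AddSubgroup F × AddSubgroup (Fin m → F)) := Fintype.ofFinite _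
  have hf := hs.form m
  have hdskew : Cfsg.hermForm m F q v z ∈ skew σ := by
    have h := reB_eq_zero_of_singular hs hsing hv hz
    rw [reB, hf.herm z v] at h
    exact mem_skew.2 h
  set PP := Finset.univ.filter fun p : AddSubgroup F × AddSubgroup (Fin m → F) =>
    (∃ ω' : X, fr.inv hs hm ω' = p) ∧ Nat.card p.1 = Nat.card A ∧ Nat.card p.2 = q ^ m with hPP
  have hcount := fr.card_inv_le hs hm (X := X) PP (Nat.card A * q ^ m) (fun p hp => (Finset.mem_filter.1 hp).2.1)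
    (fun p hp => by rw [(Finset.mem_filter.1 hp).2.2.1, (Finset.mem_filter.1 hp).2.2.2])
  rw [Rad.card_eq hs] at hcount
  set T := Finset.univ.filter fun p : (Fin m → F) × (Fin m → F) =>
    Cfsg.hermForm m F q p.1 p.1 = 0 ∧ Cfsg.hermForm m F q p.2 p.2 = 0 ∧ Cfsg.hermForm m F q p.1 p.2 ∈ skew σ ∧
      Cfsg.hermForm m F q p.1 p.2 ≠ 0 with hT
  have hcover : T.card * 1 ≤ PP.card * (q ^ m * q ^ (m - 1)) := by
    refine cover_card PP T (fun p x => x.1 ∈ p.2 ∧ x.2 ∈ p.2) 1 _ (fun x hx => ?_) fun p hp => ?_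
    · obtain ⟨hx1, hx2, hxd, hxd0⟩ := (Finset.mem_filter.1 hx).2
      obtain ⟨a, γ, ha, hγ, hdet, e1, e2⟩ := exists_move_pair hs hm4 hdskew hvz hxd hxd0 (hsing v hv) (hsing z hz)
        rfl hx1 hx2 rfl
      obtain ⟨ω', hω'⟩ := fr.inv_move hs hm ha hγ hdet ω
      obtain ⟨f1, f2⟩ := Prod.ext_iff.1 hω
      have hω2 : fr.inv hs hm ω' = (moveA (a * σ a) A, moveW (σ a) γ W) := by
        rw [hω']
        show (moveA (a * σ a) (fr.inv hs hm ω).1, moveW (σ a) γ (fr.inv hs hm ω).2) = _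
        rw [f1, f2]
      refine Finset.card_pos.2 ⟨(moveA (a * σ a) A, moveW (σ a) γ W), Finset.mem_filter.2
        ⟨Finset.mem_filter.2 ⟨Finset.mem_univ _, ⟨ω', hω2⟩, ?_, ?_⟩, ?_, ?_⟩⟩
      · exact card_moveA (mul_ne_zero ha ((map_ne_zero_iff _ σ.injective).2 ha)) A
      · exact (card_moveW ((map_ne_zero_iff _ σ.injective).2 ha) γ W).trans hWc
      · rw [← e1]; exact moveW_mem γ hv
      · rw [← e2]; exact moveW_mem γ hz
    · haveI : Fintype p.2 := Fintype.ofFinite _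
      have hpc : Fintype.card p.2 = q ^ m := by
        rw [← Nat.card_eq_fintype_card]; exact (Finset.mem_filter.1 hp).2.2.2
      obtain ⟨Z, hZ⟩ : ∃ Z : p.2 → Finset p.2, Z = fun a => Finset.univ.filter fun b : p.2 =>
          Cfsg.hermForm m F q a.1 b.1 ∈ skew σ ∧ Cfsg.hermForm m F q a.1 b.1 ≠ 0 := ⟨_, rfl⟩
      have hsk : ∀ c : F, c ∈ skew σ → c ≠ 0 → c = 1 := by
        subst hq2
        intro c hc hc0
        have h : c + c ^ 2 = 0 := by rw [← hs.frob]; exact mem_skew.1 hc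
        have h2 : (2 : F) = 0 := by exact_mod_cast cast_q_eq_zero' hs
        exact sub_eq_zero.1 ((mul_eq_zero.1 (show c * (c - 1) = 0 by linear_combination h - c * h2)).resolve_left hc0)
      have hZc : ∀ a, (Z a).card ≤ q ^ (m - 1) := by
        intro a
        rcases (Z a).eq_empty_or_nonempty with he | ⟨b₀, hb₀⟩
        · rw [he]; simp
        · have hdis : Disjoint (Z a) ((Z a).image fun b => b + b₀) := by
            rw [Finset.disjoint_left]
            intro b hb hb'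
            obtain ⟨b₁, hb₁, rfl⟩ := Finset.mem_image.1 hb'
            simp only [hZ, Finset.mem_filter, Finset.mem_univ, true_and, AddSubgroup.coe_add, add_right' hf] at hb hb₀ hb₁
            apply hb.2
            rw [hsk _ hb₀.1 hb₀.2, hsk _ hb₁.1 hb₁.2]
            subst hq2
            exact_mod_cast cast_q_eq_zero' hs
          have h := (Finset.card_le_univ ((Z a) ∪ (Z a).image fun b => b + b₀))
          rw [Finset.card_union_of_disjoint hdis, Finset.card_image_of_injective _ (add_left_injective b₀), hpc] at h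
          obtain ⟨j, rfl⟩ : ∃ j, m = j + 1 := ⟨m - 1, by omega⟩
          rw [pow_succ, hq2] at h
          rw [Nat.add_sub_cancel, hq2]
          omega
      refine (Finset.card_le_card_of_injOn (fun x : (Fin m → F) × (Fin m → F) =>
        if h : x.1 ∈ p.2 ∧ x.2 ∈ p.2 then (⟨⟨x.1, h.1⟩, ⟨x.2, h.2⟩⟩ : Σ _ : p.2, p.2) else ⟨0, 0⟩)
        (t := Finset.univ.sigma Z) (fun x hx => ?_) (fun x hx x' hx' e => ?_)).trans ?_
      · obtain ⟨hxT, hxp⟩ := Finset.mem_filter.1 hx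
        simp only [dif_pos hxp, Finset.coe_sigma, Finset.coe_univ, Set.mem_sigma_iff, Set.mem_univ, true_and, hZ, Finset.coe_filter,
          Set.mem_setOf_eq, Finset.mem_univ]
        exact (Finset.mem_filter.1 hxT).2.2.2
      · simp only [dif_pos (Finset.mem_filter.1 hx).2, dif_pos (Finset.mem_filter.1 hx').2, Sigma.mk.injEq,
          heq_eq_eq, Subtype.mk.injEq] at e
        exact Prod.ext e.1 e.2
      · rw [Finset.card_sigma]
        refine (Finset.sum_le_card_nsmul _ _ _ fun a _ => hZc a).trans (le_of_eq ?_)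
        rw [Finset.card_univ, smul_eq_mul, hpc]
  obtain ⟨i, rfl⟩ : ∃ i, m = i + 3 + 1 := ⟨m - 4, by omega⟩
  have hTlow : sCount F q (i + 3 + 1) * ((q - 1) * q ^ (2 * (i + 2) + 1)) ≤ T.card := by
    set Sv := Finset.univ.filter fun y : Fin (i + 3 + 1) → F => y ≠ 0 ∧ Cfsg.hermForm (i + 3 + 1) F q y y = 0 with hSv
    set D := Finset.univ.filter fun d : F => d ∈ skew σ ∧ d ≠ 0 with hD
    let part : (Fin (i + 3 + 1) → F) → F → Finset (Fin (i + 3 + 1) → F) := fun y d =>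
      Finset.univ.filter fun y' => Cfsg.hermForm (i + 3 + 1) F q y' y' = 0 ∧ Cfsg.hermForm (i + 3 + 1) F q y y' = d
    have hle : (Sv.sigma fun y => D.sigma fun d => part y d).card ≤ T.card := by
      refine Finset.card_le_card_of_injOn (fun x => (x.1, x.2.2)) (fun x hx => ?_) (fun x hx x' hx' e => ?_)
      · simp only [Finset.coe_sigma, Set.mem_sigma_iff, Finset.mem_coe, hSv, hD, part, Finset.mem_filter,
          Finset.mem_univ, true_and] at hx
        simp only [hT, Finset.mem_coe, Finset.mem_filter, Finset.mem_univ, true_and]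
        exact ⟨hx.1.2, hx.2.2.1, hx.2.2.2 ▸ hx.2.1.1, hx.2.2.2 ▸ hx.2.1.2⟩
      · simp only [Finset.coe_sigma, Set.mem_sigma_iff, Finset.mem_coe, hSv, hD, part, Finset.mem_filter,
          Finset.mem_univ, true_and] at hx hx'
        obtain ⟨y, d, y'⟩ := x
        obtain ⟨y₂, d₂, y₂'⟩ := x'
        obtain ⟨rfl, rfl⟩ := Prod.ext_iff.1 e
        obtain rfl : d = d₂ := hx.2.2.2.symm.trans hx'.2.2.2
        rfl
    refine le_trans ?_ hle
    rw [Finset.card_sigma]
    have hSc : Sv.card = sCount F q (i + 3 + 1) := by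
      rw [sCount, Nat.card_eq_fintype_card, Fintype.card_subtype]
    have hDc : D.card = q - 1 := by
      have : D = (Finset.univ.filter fun d : F => d ∈ skew σ).erase 0 := by ext d; simp [hD, and_comm]
      rw [this, Finset.card_erase_of_mem (by simp), ← Fintype.card_subtype, ← Nat.card_eq_fintype_card]
      exact congrArg (· - 1) (card_skew hs)
    rw [← hSc, ← smul_eq_mul]
    refine Finset.card_nsmul_le_sum _ _ _ fun y hy => ?_
    rw [Finset.card_sigma, ← hDc, ← smul_eq_mul]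
    refine Finset.card_nsmul_le_sum _ _ _ fun d hd => ?_
    simp only [hSv, hD, Finset.mem_filter, Finset.mem_univ, true_and] at hy hd
    have h := card_partners hs (k := i + 2) hy.1 hy.2 hd.2
    rw [Nat.card_eq_fintype_card, Fintype.card_subtype] at h
    exact h
  have h2A := two_mul_card_le hs hA ht₀ ht₀A
  subst hq2
  have hA1 : Nat.card A ≤ 1 := by omega
  have hS : 2 ^ (2 * i + 7) ≤ sCount F 2 (i + 3 + 1) := by
    have h := sCount_even hs (j := i + 3) hme
    have hI : (1 : ℤ) ≤ (2 : ℤ) ^ i := one_le_pow₀ (by norm_num)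
    have h' : (2 : ℤ) ^ (2 * i + 7) ≤ (sCount F 2 (i + 3 + 1) : ℤ) := by
      rw [h]
      push_cast
      rw [show (2 : ℤ) ^ (i + 3 + 1) = 16 * (2 : ℤ) ^ i by ring, show (2 : ℤ) ^ (i + 3) = 8 * (2 : ℤ) ^ i by ring,
        show (2 : ℤ) ^ (2 * i + 7) = 128 * ((2 : ℤ) ^ i * (2 : ℤ) ^ i) by ring]
      nlinarith
    exact_mod_cast h'
  refine enough_nat hs (by omega) (M := Nat.card X) ?_ hlt
  rw [mul_one, show i + 3 + 1 - 1 = i + 3 by omega] at hcover
  have hkey : 2 ^ (3 * i + 10) ≤ Nat.card X := by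
    refine Nat.le_of_mul_le_mul_left (?_ : 2 ^ (3 * i + 11) * _ ≤ 2 ^ (3 * i + 11) * _) (pow_pos (by norm_num) _)
    calc 2 ^ (3 * i + 11) * 2 ^ (3 * i + 10)
        = 2 ^ (2 * i + 7) * ((2 - 1) * 2 ^ (2 * (i + 2) + 1)) * 2 ^ (2 * (i + 3 + 1) + 1) := by ring
      _ ≤ sCount F 2 (i + 3 + 1) * ((2 - 1) * 2 ^ (2 * (i + 2) + 1)) * 2 ^ (2 * (i + 3 + 1) + 1) :=
          Nat.mul_le_mul_right _ (Nat.mul_le_mul_right _ hS)
      _ ≤ PP.card * (2 ^ (i + 3 + 1) * 2 ^ (i + 3)) * 2 ^ (2 * (i + 3 + 1) + 1) :=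
          Nat.mul_le_mul_right _ (hTlow.trans hcover)
      _ = PP.card * 2 ^ (2 * (i + 3 + 1) + 1) * (2 ^ (i + 3 + 1) * 2 ^ (i + 3)) := by ring
      _ ≤ Nat.card A * 2 ^ (i + 3 + 1) * Nat.card X * (2 ^ (i + 3 + 1) * 2 ^ (i + 3)) := Nat.mul_le_mul_right _ hcount
      _ ≤ 1 * 2 ^ (i + 3 + 1) * Nat.card X * (2 ^ (i + 3 + 1) * 2 ^ (i + 3)) :=
          Nat.mul_le_mul_right _ (Nat.mul_le_mul_right _ (Nat.mul_le_mul_right _ hA1))
      _ = 2 ^ (3 * i + 11) * Nat.card X := by ring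
  refine le_trans ?_ hkey
  rw [show 2 * (i + 3 + 1) - 1 = 2 * i + 7 by omega, show 2 * (i + 3 + 1) + 1 = 2 * i + 9 by ring]
  have h1 : 2 ^ (2 * i + 10) ≤ 2 ^ (3 * i + 10) := Nat.pow_le_pow_right (by norm_num) (by omega)
  have h3 : 2 ^ (2 * i + 10) = 8 * 2 ^ (2 * i + 7) := by ring
  have h4 : 2 ^ (2 * i + 9) = 4 * 2 ^ (2 * i + 7) := by ring
  omega

theorem wzero_isotropic (hm4 : 4 ≤ m) (hme : Even m)
    (hlt : Nat.card X * (q ^ 2 - 1) < sCount F q (m + 2)) {A : AddSubgroup F} (hA : A ≤ skew σ) {t₀ : F}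
    (ht₀ : t₀ ∈ skew σ) (ht₀A : t₀ ∉ A)
    {W : AddSubgroup (Fin m → F)} (hW : W ∈ fr.PW hs hm X A (q ^ m))
    (hzero : ∀ z ∈ W, ∀ z' ∈ W, Cfsg.hermForm m F q z z' = 0) : False := by
  classical
  have hf := hs.form m
  have hq := hs.two_le
  let sp : AddSubgroup (Fin m → F) → Submodule F (Fin m → F) := fun W' => Submodule.span F (W' : Set (Fin m → F))
  have hWc : Nat.card W = q ^ m := ((fr.mem_PW hs hm).1 hW).1
  have hspan : ∀ y ∈ sp W, ∀ y' ∈ sp W, Cfsg.hermForm m F q y y' = 0 := by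
    intro y hy y' hy'
    induction hy, hy' using Submodule.span_induction₂ with
    | mem_mem a b ha hb => exact hzero a ha b hb
    | zero_left b _ => exact zero_left' hf b
    | zero_right a _ => exact zero_right' hf a
    | add_left a b c _ _ _ h1 h2 => rw [hf.add_left, h1, h2, add_zero]
    | add_right a b c _ _ _ h1 h2 => rw [add_right' hf, h1, h2, add_zero]
    | smul_left r a b _ _ h => rw [hf.smul_left, h, mul_zero]
    | smul_right r a b _ _ h => rw [smul_right' hf, h, mul_zero]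
  obtain ⟨v, hv, hv0⟩ : ∃ v ∈ W, v ≠ 0 := by
    by_contra hall
    push Not at hall
    have : W = ⊥ := (AddSubgroup.eq_bot_iff_forall W).2 hall
    rw [this, AddSubgroup.card_bot] at hWc
    exact absurd hWc.symm (Nat.one_lt_pow (by omega) (by omega)).ne'
  have hvv := hzero v hv v hv
  obtain ⟨e₀, he₀, he₀v⟩ : ∃ e₀ ∈ W, e₀ ∉ Submodule.span F ({v} : Set (Fin m → F)) := by
    by_contra hall
    push Not at hall
    have h := Nat.card_le_card_of_injective
      (fun y : W => (⟨y.1, hall y.1 y.2⟩ : Submodule.span F ({v} : Set (Fin m → F)))) fun a b e =>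
        Subtype.ext (congrArg (fun t : Submodule.span F ({v} : Set (Fin m → F)) => t.1) e)
    rw [hWc, Module.natCard_eq_pow_finrank (K := F), finrank_span_singleton hv0, Nat.card_eq_fintype_card, hs.card,
      pow_one] at h
    exact absurd h (Nat.pow_lt_pow_right (by omega) (by omega)).not_ge
  obtain ⟨u, huu, huv, he₀u⟩ : ∃ u, Cfsg.hermForm m F q u u = 0 ∧ Cfsg.hermForm m F q u v = 0 ∧
      Cfsg.hermForm m F q e₀ u = 1 := by
    obtain ⟨z, hz, hzv⟩ := exists_iso_partner hf hvv hv0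
    obtain ⟨k, rfl⟩ : ∃ k, m = k + 2 := ⟨m - 2, by omega⟩
    obtain ⟨f, hfx, hfy⟩ := exists_fr hs hvv hz (by rw [hf.herm, hzv, map_one])
    have hr : f.φ.proj e₀ ≠ 0 := fun h => he₀v (by
      refine Submodule.mem_span_singleton.2 ⟨Cfsg.hermForm (k + 2) F q e₀ f.y, ?_⟩
      have e := f.decomp e₀
      rw [hfx, hzero e₀ he₀ v hv, h, map_zero, zero_smul, add_zero, add_zero] at e
      exact e)
    obtain ⟨u', hu', hru'⟩ := exists_singular_test hs (by omega : 2 ≤ k) hr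
    have hne : Cfsg.hermForm (k + 2) F q e₀ (f.φ.toLin u') ≠ 0 := by rwa [f.φ.form_toLin hs]
    refine ⟨(σ (Cfsg.hermForm (k + 2) F q e₀ (f.φ.toLin u')))⁻¹ • f.φ.toLin u', ?_, ?_, ?_⟩
    · rw [hf.smul_left, smul_right' hf, f.φ.iso', hu', mul_zero, mul_zero]
    · rw [hf.smul_left, ← hfx, f.φx, mul_zero]
    · rw [smul_right' hf, map_inv₀, hs.inv, inv_mul_cancel₀ hne]
  have hue₀ : Cfsg.hermForm m F q u e₀ = 1 := by rw [hf.herm, he₀u, map_one]
  have he₀e₀ := hzero e₀ he₀ e₀ he₀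
  have hve₀ := hzero v hv e₀ he₀
  have hvu := (eq_zero_comm hf).mp huv
  -- the translates through `v`
  let J : GL (Fin m) F → Prop := fun γ => Iso (Cfsg.hermForm m F q) γ ∧ (γ : Matrix (Fin m) (Fin m) F).det = 1 ∧
    (γ : Matrix (Fin m) (Fin m) F) *ᵥ v = v
  let G' := {W₁ : AddSubgroup (Fin m → F) | ∃ γ, J γ ∧ moveW 1 γ W = W₁}
  have hJu : ∀ c ∈ skew σ, J (uT (Cfsg.hermForm m F q) u c) := fun c hc =>
    ⟨iso_uT hf huu hc, (transvGroup_le hf (uT_mem hf huu hc)).2, by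
      rw [uT_mulVec hf huu, hvu, mul_zero, zero_smul, add_zero]⟩
  obtain ⟨c₁, hc₁0, hc₁⟩ := exists_skew hs.ne_refl hs.inv
  obtain ⟨d, hd⟩ : ∃ d, d = -c₁⁻¹ := ⟨_, rfl⟩
  have hdskew : d ∈ skew σ := by
    rw [mem_skew, hd, map_neg, map_inv₀, show σ c₁ = -c₁ by linear_combination hc₁, inv_neg]; ring
  obtain ⟨τ, hτ⟩ : ∃ τ, τ = uT (Cfsg.hermForm m F q) e₀ d * uT (Cfsg.hermForm m F q) u c₁ := ⟨_, rfl⟩
  have hτJ : J τ := by
    refine ⟨hτ ▸ (iso_uT hf he₀e₀ hdskew).mul (iso_uT hf huu hc₁), ?_, ?_⟩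
    · rw [hτ, Units.val_mul, det_mul, (transvGroup_le hf (uT_mem hf he₀e₀ hdskew)).2,
        (transvGroup_le hf (uT_mem hf huu hc₁)).2, one_mul]
    · rw [hτ, mul_mulVec, (hJu c₁ hc₁).2.2, uT_mulVec hf he₀e₀, hve₀, mul_zero, zero_smul, add_zero]
  have himg : ∀ γ, J γ → ∀ y ∈ sp W, (γ : Matrix (Fin m) (Fin m) F) *ᵥ y ∈ sp (moveW 1 γ W) := by
    intro γ _ y hy
    have h : sp W ≤ (sp (moveW 1 γ W)).comap (Matrix.mulVecLin (γ : Matrix (Fin m) (Fin m) F)) :=
      Submodule.span_le.2 fun z hz => Submodule.subset_span (by simpa using moveW_mem (s := 1) γ hz)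
    exact h hy
  have hti : ∀ γ, J γ → ∀ y ∈ sp (moveW 1 γ W), ∀ y' ∈ sp (moveW 1 γ W), Cfsg.hermForm m F q y y' = 0 := by
    intro γ hγ y hy y' hy'
    have hle : sp (moveW 1 γ W) ≤ (sp W).map (Matrix.mulVecLin (γ : Matrix (Fin m) (Fin m) F)) :=
      Submodule.span_le.2 (by
        rintro _ ⟨z, hz, rfl⟩
        exact ⟨z, Submodule.subset_span hz, by simp⟩)
    obtain ⟨a, ha, rfl⟩ := hle hy
    obtain ⟨b, hb, rfl⟩ := hle hy'
    exact (hγ.1 a b).trans (hspan a ha b hb)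
  have hmemc : ∀ c ∈ skew σ, e₀ + c • u ∈ sp (moveW 1 (uT (Cfsg.hermForm m F q) u c) W) := fun c hc => by
    have h := himg _ (hJu c hc) e₀ (Submodule.subset_span he₀)
    rwa [uT_mulVec hf huu, he₀u, mul_one] at h
  have hnotu : ∀ c ∈ skew σ, u ∉ sp (moveW 1 (uT (Cfsg.hermForm m F q) u c) W) := fun c hc hu => by
    have h := hti _ (hJu c hc) _ (hmemc c hc) u hu
    rw [hf.add_left, hf.smul_left, he₀u, huu, mul_zero, add_zero] at h
    exact one_ne_zero h
  have hu' : u ∈ sp (moveW 1 τ W) := by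
    have h := himg τ hτJ e₀ (Submodule.subset_span he₀)
    have e1 : (τ : Matrix (Fin m) (Fin m) F) *ᵥ e₀ = c₁ • u := by
      rw [hτ, mul_mulVec, uT_mulVec hf huu, he₀u, mul_one, uT_mulVec hf he₀e₀, hf.add_left, hf.smul_left, he₀e₀,
        hue₀, zero_add, mul_one, hd, neg_mul, inv_mul_cancel₀ hc₁0, neg_one_smul, ← sub_eq_add_neg,
        add_sub_cancel_left]
    rw [e1] at h
    exact (Submodule.smul_mem_iff _ hc₁0).1 h
  let SS : Finset (Submodule F (Fin m → F)) := (fr.PW hs hm X A (q ^ m)).image sp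
  have hineq := fr.main_ineq hs hm (X := X) A (q ^ m) q (by
    by_cases hne : A = ⊥
    · subst hne
      rw [AddSubgroup.card_bot, mul_one]
      exact Nat.le_mul_of_pos_left _ (Finset.card_pos.2 ⟨_, oaSet_nonempty ⊥⟩)
    · exact le_trans (Nat.mul_le_mul_right _ (Nat.le_succ q)) (oa_bound hs hA ht₀ ht₀A hne))
  set T := Finset.univ.filter fun y : Fin m → F => y ≠ 0 ∧ Cfsg.hermForm m F q y y = 0 with hT
  let SS' := SS.filter fun L : Submodule F (Fin m → F) => ∀ y ∈ L, ∀ y' ∈ L, Cfsg.hermForm m F q y y' = 0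
  have hcover : T.card * (q + 1) ≤ SS'.card * q ^ m := by
    refine cover_card SS' T (fun L y => y ∈ L) (q + 1) _ (fun y hy => ?_) fun L hL => ?_
    · obtain ⟨hy0, hyy⟩ := (Finset.mem_filter.1 hy).2
      obtain ⟨g, hg, hgdet, hgv⟩ := exists_move_singular hs hm4 hv0 hy0 hvv hyy
      let L : Option (skew σ) → Submodule F (Fin m → F) := fun o =>
        (sp (moveW 1 (o.elim τ fun c => uT (Cfsg.hermForm m F q) u c.1) W)).map
          (Matrix.mulVecLin (g : Matrix (Fin m) (Fin m) F))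
      have hγJ : ∀ o : Option (skew σ), J (o.elim τ fun c => uT (Cfsg.hermForm m F q) u c.1) := by
        rintro (_ | c)
        · exact hτJ
        · exact hJu c.1 c.2
      have hLinj : Function.Injective L := by
        have hg' : Function.Injective (Submodule.map (Matrix.mulVecLin (g : Matrix (Fin m) (Fin m) F))) :=
          Submodule.map_injective_of_injective (Matrix.mulVec_injective_iff_isUnit.2 g.isUnit)
        rintro (_ | c) (_ | c') e
        · rfl
        · exact absurd ((hg' e) ▸ hu') (hnotu c'.1 c'.2)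
        · exact absurd ((hg' e).symm ▸ hu') (hnotu c.1 c.2)
        · by_contra hne
          have e' := hg' e
          simp only [Option.elim_some] at e'
          have h := sub_mem (hmemc c.1 c.2) (e'.symm ▸ hmemc c'.1 c'.2)
          rw [add_sub_add_left_eq_sub, ← sub_smul] at h
          exact hnotu c.1 c.2 ((Submodule.smul_mem_iff _ (sub_ne_zero.2 fun h0 =>
            hne (congrArg some (Subtype.ext h0)))).1 h)
      have hcard : Nat.card (Option (skew σ)) = q + 1 := by rw [Finite.card_option, card_skew hs]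
      rw [← hcard, ← Fintype.card_coe, ← Nat.card_eq_fintype_card]
      refine Nat.card_le_card_of_injective (fun o => ⟨L o, Finset.mem_filter.2
        ⟨Finset.mem_filter.2 ⟨Finset.mem_image.2 ⟨moveW 1 g (moveW 1 (o.elim τ fun c => uT (Cfsg.hermForm m F q) u c.1) W),
          fr.moveW_mem_PW_one hs hm hg hgdet (fr.moveW_mem_PW_one hs hm (hγJ o).1 (hγJ o).2.1 hW), ?_⟩, ?_⟩, ?_⟩⟩)
        fun o o' e => hLinj (congrArg Subtype.val e)
      · show Submodule.span F _ = (Submodule.span F _).map _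
        rw [Submodule.map_span]
        congr 1
        ext z
        simp [mem_moveW]
      · rintro _ ⟨a, ha, rfl⟩ _ ⟨b, hb, rfl⟩
        exact (hg a b).trans (hti _ (hγJ o) a ha b hb)
      · exact ⟨v, by
          have h := himg _ (hγJ o) v (Submodule.subset_span hv)
          rwa [(hγJ o).2.2] at h, hgv⟩
    · have hL' := (Finset.mem_filter.1 hL).2
      refine le_trans ?_ (card_singular_sq_le hs (S := L.toAddSubgroup) fun y hy => hL' y hy y hy)
      rw [← Fintype.card_coe, ← Nat.card_eq_fintype_card]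
      exact Nat.card_le_card_of_injective (fun y => (⟨y.1, (Finset.mem_filter.1 y.2).2⟩ : L.toAddSubgroup))
        fun y y' e => Subtype.ext (congrArg (fun t => (t.1 : Fin m → F)) e)
  have hPS : SS'.card ≤ (fr.PW hs hm X A (q ^ m)).card :=
    (Finset.card_filter_le _ _).trans Finset.card_image_le
  have hTc : T.card = sCount F q m := by rw [sCount, Nat.card_eq_fintype_card, Fintype.card_subtype]
  have hkey : q * (q + 1) * T.card ≤ Nat.card X := by
    refine Nat.le_of_mul_le_mul_left (?_ : q ^ (2 * m) * _ ≤ q ^ (2 * m) * _) (pow_pos (by omega) _)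
    calc q ^ (2 * m) * (q * (q + 1) * T.card) = q * q ^ (2 * m) * (T.card * (q + 1)) := by ring
      _ ≤ q * q ^ (2 * m) * ((fr.PW hs hm X A (q ^ m)).card * q ^ m) :=
          Nat.mul_le_mul_left _ (hcover.trans (Nat.mul_le_mul_right _ hPS))
      _ = q * (fr.PW hs hm X A (q ^ m)).card * q ^ (2 * m) * q ^ m := by ring
      _ ≤ q ^ m * Nat.card X * q ^ m := Nat.mul_le_mul_right _ hineq
      _ = q ^ (2 * m) * Nat.card X := by ring
  refine enough hs (by omega) (le_trans ?_ (Nat.cast_le.2 hkey)) hlt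
  rw [hTc]
  obtain ⟨i, rfl⟩ : ∃ i, m = i + 3 + 1 := ⟨m - 4, by omega⟩
  push_cast
  rw [sCount_even hs (j := i + 3) hme]
  have hQ : (2 : ℤ) ≤ q := by exact_mod_cast hq
  rw [show 2 * (i + 3 + 1) + 1 = 2 * i + 9 by ring, show 2 * (i + 3 + 1) - 1 = 2 * i + 7 by omega]
  have hI : (1 : ℤ) ≤ (q : ℤ) ^ i := one_le_pow₀ (by omega)
  have e9 : (q : ℤ) ^ (2 * i + 9) = (q : ℤ) ^ 9 * ((q : ℤ) ^ i * (q : ℤ) ^ i) := by ring
  have e7 : (q : ℤ) ^ (2 * i + 7) = (q : ℤ) ^ 7 * ((q : ℤ) ^ i * (q : ℤ) ^ i) := by ring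
  have e4 : (q : ℤ) ^ (i + 3 + 1) = (q : ℤ) ^ 4 * (q : ℤ) ^ i := by ring
  have e3 : (q : ℤ) ^ (i + 3) = (q : ℤ) ^ 3 * (q : ℤ) ^ i := by ring
  rw [e9, e7, e4, e3]
  set Q := (q : ℤ)
  set I := Q ^ i
  have k1 : Q ^ 2 + Q ≤ Q ^ 4 * I * (Q ^ 2 - 1) := by
    calc Q ^ 2 + Q ≤ Q ^ 4 * 1 * 1 := by nlinarith [mul_le_mul_of_nonneg_right hQ (sq_nonneg Q)]
      _ ≤ Q ^ 4 * I * (Q ^ 2 - 1) := mul_le_mul (mul_le_mul_of_nonneg_left hI (by positivity)) (by nlinarith)
          zero_le_one (by positivity)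
  have k2 : 0 ≤ (Q - 2) * Q ^ 7 * (I * I) :=
    mul_nonneg (mul_nonneg (by linarith) (by positivity)) (by positivity)
  linarith [show Q * (Q + 1) * ((Q ^ 4 * I - 1) * (Q ^ 3 * I + 1)) =
    Q ^ 9 * (I * I) + 2 * (Q ^ 7 * (I * I)) + (Q - 2) * Q ^ 7 * (I * I) + Q ^ 4 * I * (Q ^ 2 - 1) - (Q ^ 2 + Q) by
      ring]

/-- A proper first invariant forces the second one to be trivial. -/
theorem wof_eq_bot (hm3 : 3 ≤ m) (hmq : q = 2 → Odd m ∨ 5 ≤ m) (hlt : Nat.card X * (q ^ 2 - 1) < sCount F q (m + 2))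
    (ω : X) {t₀ : F} (ht₀ : t₀ ∈ skew σ) (ht₀A : t₀ ∉ fr.Aof hs hm ω) : fr.Wof hs hm ω = ⊥ := by
  classical
  by_contra hne
  set A := fr.Aof hs hm ω with hAdef
  set W := fr.Wof hs hm ω with hWdef
  have hA : A ≤ skew σ := fr.Aof_le hs hm ω
  have hW0 : ∃ z ∈ W, z ≠ 0 := by
    obtain ⟨z, hz⟩ := AddSubgroup.ne_bot_iff_exists_ne_zero.1 hne
    exact ⟨z.1, z.2, fun e => hz (Subtype.ext e)⟩
  have hiso : ∀ z ∈ W, ∀ z' ∈ W, imB m q z z' ∈ A := fun z hz z' hz' => fr.imB_mem_Aof hs hm ω hz hz'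
  have hW : W ∈ fr.PW hs hm X A (Nat.card W) := (fr.mem_PW hs hm).2 ⟨rfl, ω, rfl⟩
  obtain ⟨ψ, hψA, hψ⟩ := exists_char A ht₀A
  have hWP : W ≤ (imPair (m := m) hs ψ ⟨t₀, ht₀, hψ⟩).perp W := fun z hz z' hz' => hψA _ (hiso z hz z' hz')
  have hprod := (imPair (m := m) hs ψ ⟨t₀, ht₀, hψ⟩).card_mul_perp W
  rw [hs.card, ← pow_mul] at hprod
  have hWle : Nat.card W ≤ Nat.card ((imPair (m := m) hs ψ ⟨t₀, ht₀, hψ⟩).perp W) :=
    Nat.card_le_card_of_injective (Set.inclusion hWP) (Set.inclusion_injective hWP)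
  have hwsq : Nat.card W * Nat.card W ≤ q ^ m * q ^ m := by
    rw [← pow_add, ← two_mul, ← hprod]
    exact Nat.mul_le_mul_left _ hWle
  by_cases hns : ∃ v ∈ (imPair (m := m) hs ψ ⟨t₀, ht₀, hψ⟩).perp W, Cfsg.hermForm m F q v v ≠ 0
  · by_cases hm4 : 4 ≤ m
    · exact fr.wzero_norm_class hs hm hm4 hmq hlt hA ht₀ ht₀A hψA hψ hW hW0 hiso hns
    have h3 : m = 3 := by omega
    by_cases hA0 : A = ⊥
    · refine fr.wzero_three_bot hs hm h3 hlt (hA0 ▸ hW) hW0 fun z hz z' hz' => ?_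
      exact AddSubgroup.mem_bot.1 (hA0 ▸ hiso z hz z' hz')
    subst h3
    obtain ⟨v, -, -, u, huu, -, c, hc, z, hz, hmove⟩ := exists_moved hs le_rfl A ht₀ ht₀A W _ hWP hiso
      (fun y hy z hz => by
        show ψ (imB 3 q y z) = 1
        rw [imB, hy z hz, (eq_zero_comm (hs.form 3)).mp (hy z hz), sub_zero, AddChar.map_zero_eq_one]) hW0 hns
    have hP := fr.PW_three hs hm (X := X) rfl hA ht₀ ht₀A hA0 hW huu hc hz hmove
    have hineq := fr.main_ineq hs hm (X := X) A (Nat.card W) (q + 1) (oa_bound hs hA ht₀ ht₀A hA0)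
    have hw3 : Nat.card W ≤ q ^ 3 := Nat.mul_self_le_mul_self_iff.1 hwsq
    refine enough_nat hs le_rfl (M := Nat.card X) ?_ hlt
    have hq := hs.two_le
    have h1 : q ^ 3 * ((q + 1) * (q ^ 3 + 1) * q ^ 3) ≤ q ^ 3 * Nat.card X := by
      calc q ^ 3 * ((q + 1) * (q ^ 3 + 1) * q ^ 3) = (q + 1) * (q ^ 3 + 1) * q ^ (2 * 3) := by ring
        _ ≤ (q + 1) * (fr.PW hs hm X A (Nat.card W)).card * q ^ (2 * 3) :=
            Nat.mul_le_mul_right _ (Nat.mul_le_mul_left _ hP)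
        _ ≤ Nat.card W * Nat.card X := hineq
        _ ≤ q ^ 3 * Nat.card X := Nat.mul_le_mul_right _ hw3
    refine le_trans ?_ (Nat.le_of_mul_le_mul_left h1 (pow_pos (by omega) _))
    norm_num
    nlinarith [Nat.mul_le_mul_right (q ^ 5) hq, Nat.zero_le (q ^ 3), Nat.zero_le (q ^ 4)]
  · push Not at hns
    have hle := card_singular_sq_le hs hns
    have hWc : Nat.card W = q ^ m := by
      have hw' : Nat.card W ≤ q ^ m := hWle.trans hle
      refine le_antisymm hw' ?_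
      by_contra hlt'
      push Not at hlt'
      have h := Nat.mul_lt_mul_of_lt_of_le hlt' hle (pow_pos (by have := hs.two_le; omega) _)
      rw [hprod, ← pow_add, ← two_mul] at h
      exact lt_irrefl _ h
    have hsing : ∀ z ∈ W, Cfsg.hermForm m F q z z = 0 := fun z hz => hns z (hWP hz)
    have hme : Even m := even_of_card_singular hs hsing hWc
    have hm4 : 4 ≤ m := by
      rcases hme with ⟨i, rfl⟩
      omega
    by_cases hz : ∀ z ∈ W, ∀ z' ∈ W, Cfsg.hermForm m F q z z' = 0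
    · exact fr.wzero_isotropic hs hm hm4 hme hlt hA ht₀ ht₀A (hWc ▸ hW) hz
    · push Not at hz
      obtain ⟨v, hv, z, hz', hvz⟩ := hz
      rcases (show q = 2 ∨ 3 ≤ q by have := hs.two_le; omega) with h2 | hq3
      · exact fr.wzero_singular_pairs_two hs hm hm4 hme h2 hlt hA ht₀ ht₀A (ω := ω) rfl hWc hsing hv hz' hvz
      · exact fr.wzero_singular_pairs hs hm hm4 hme hq3 hlt hA ht₀ ht₀A (ω := ω) rfl hWc hsing hv hz' hvz

end Fr

end CfsgLib.UnMinIndex
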