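/-
A point on which the radical acts regularly and which is fixed by the transvections of the middle space.
-/
import Cfsg.Agent.Lib.UnMinIndex.WNonzero

set_option autoImplicit false

namespace CfsgLib.UnMinIndex

open Matrix CfsgLib.Transvec CfsgLib.Transvec.Unitary CfsgLib.Classical.Unitary
open scoped commutatorElement

variable {F : Type*} [Field F] [Fintype F] {q : ℕ} {σ : F ≃+* F} {m : ℕ}

variable (hs : Setup F q σ)
include hs

theorem cast_q_eq_zero : (q : F) = 0 := by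
  have h : ((Fintype.card F : ℕ) : F) = 0 := FiniteField.cast_card_eq_zero F
  rw [hs.card, Nat.cast_pow] at h
  exact pow_eq_zero_iff (n := 2) (by norm_num) |>.1 h

namespace Fr

variable (hm : 2 ≤ m) (fr : Fr F q m)

omit [Fintype F] hs in
theorem mov_ext' {g g' : GL (Fin (m + 2)) F} (hx : (g : Matrix (Fin (m + 2)) (Fin (m + 2)) F) *ᵥ fr.x = (g' : Matrix (Fin (m + 2)) (Fin (m + 2)) F) *ᵥ fr.x)
    (hy : (g : Matrix (Fin (m + 2)) (Fin (m + 2)) F) *ᵥ fr.y = (g' : Matrix (Fin (m + 2)) (Fin (m + 2)) F) *ᵥ fr.y)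
    (hφ : ∀ u, (g : Matrix (Fin (m + 2)) (Fin (m + 2)) F) *ᵥ fr.φ.toLin u =
      (g' : Matrix (Fin (m + 2)) (Fin (m + 2)) F) *ᵥ fr.φ.toLin u) : g = g' := gl_ext fun z => by
  rw [← fr.decomp z]
  simp only [mulVec_add, mulVec_smul, hx, hy, hφ]

theorem mov_unique {g g' : transvGroup σ (Cfsg.hermForm (m + 2) F q)} {a : F} {γ : GL (Fin m) F}
    (hg : fr.Mov (σ := σ) g.1 a γ) (hg' : fr.Mov (σ := σ) g'.1 a γ) : g = g' :=
  Subtype.ext (fr.mov_ext' (hg.hx.trans hg'.hx.symm) (hg.hy.trans hg'.hy.symm) fun u =>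
    (hg.hφ u).trans (hg'.hφ u).symm)

theorem mov_mul {g g' : transvGroup σ (Cfsg.hermForm (m + 2) F q)} {a a' : F} {γ γ' : GL (Fin m) F}
    (hg : fr.Mov (σ := σ) g.1 a γ) (hg' : fr.Mov (σ := σ) g'.1 a' γ') :
    fr.Mov (σ := σ) (g * g').1 (a * a') (γ * γ') where
  ne := mul_ne_zero hg.ne hg'.ne
  iso := hg.iso.mul hg'.iso
  hx := by rw [Subgroup.coe_mul, mul_mulVec, hg'.hx, mulVec_smul, hg.hx, smul_smul, mul_comm]
  hy := by rw [Subgroup.coe_mul, mul_mulVec, hg'.hy, mulVec_smul, hg.hy, smul_smul, map_mul, mul_inv, mul_comm]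
  hφ u := by rw [Subgroup.coe_mul, mul_mulVec, hg'.hφ, hg.hφ, ← mul_mulVec]

theorem mov_one : fr.Mov (σ := σ) (1 : transvGroup σ (Cfsg.hermForm (m + 2) F q)).1 1 1 where
  ne := one_ne_zero
  iso := iso_one _
  hx := by simp
  hy := by simp
  hφ u := by simp

theorem mov_pow {g : transvGroup σ (Cfsg.hermForm (m + 2) F q)} {a : F} {γ : GL (Fin m) F}
    (hg : fr.Mov (σ := σ) g.1 a γ) : ∀ k : ℕ, fr.Mov (σ := σ) (g ^ k).1 (a ^ k) (γ ^ k)
  | 0 => by
    have h := fr.mov_one hs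
    rwa [← pow_zero g, ← pow_zero a, ← pow_zero γ] at h
  | k + 1 => by
    have h := fr.mov_mul hs (mov_pow hg k) hg
    rwa [← pow_succ, ← pow_succ, ← pow_succ] at h

/-- Commuting data give commuting elements. -/
theorem mov_comm {g g' : transvGroup σ (Cfsg.hermForm (m + 2) F q)} {a a' : F} {γ γ' : GL (Fin m) F}
    (hg : fr.Mov (σ := σ) g.1 a γ) (hg' : fr.Mov (σ := σ) g'.1 a' γ') (hc : γ * γ' = γ' * γ) : g * g' = g' * g := by
  refine fr.mov_unique hs (fr.mov_mul hs hg hg') ?_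
  have h := fr.mov_mul hs hg' hg
  rwa [mul_comm a' a, ← hc] at h

theorem mov_hom (j : transvGroup σ (Cfsg.hermForm m F q)) : fr.Mov (σ := σ) (fr.φ.hom hs j).1 1 j.1 where
  ne := one_ne_zero
  iso := transvGroup_iso (hs.form m) j
  hx := by rw [fr.φ.hom_perp hs j (fr.proj_x hs), one_smul]
  hy := by rw [fr.φ.hom_perp hs j (fr.proj_y hs), map_one, inv_one, one_smul]
  hφ u := fr.φ.hom_toLin hs j u

include hm

variable {X : Type*} [MulAction (transvGroup σ (Cfsg.hermForm (m + 2) F q)) X]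

theorem stab_trivial {ω : X} (hA : fr.Aof hs hm ω = ⊥) (hW : fr.Wof hs hm ω = ⊥) {p : Rad σ q m}
    (h : fr.rad hs hm p • ω = ω) : p.1.1 = 0 ∧ p.1.2 = 0 := by
  have h1 : p.1.1 ∈ fr.Wof hs hm ω := ⟨p, rfl, h⟩
  rw [hW, AddSubgroup.mem_bot] at h1
  have hc : p.1.2 ∈ skew σ := by
    have := p.2
    rw [h1, zero_left' (hs.form m), add_zero] at this
    exact this
  have h2 : p.1.2 ∈ fr.Aof hs hm ω := ⟨hc, by
    rwa [show Rad.zr hs hc = p from Subtype.ext (Prod.ext h1.symm rfl)]⟩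
  rw [hA, AddSubgroup.mem_bot] at h2
  exact ⟨h1, h2⟩

theorem rad_smul_inj {ω : X} (hA : fr.Aof hs hm ω = ⊥) (hW : fr.Wof hs hm ω = ⊥) {p p' : Rad σ q m}
    (h : fr.rad hs hm p • ω = fr.rad hs hm p' • ω) : p = p' := by
  obtain ⟨e1, e2⟩ := fr.stab_trivial hs hm hA hW (p := Rad.mul hs (Rad.inv hs p') p) (by
    rw [← fr.rad_mul hs hm, ← fr.rad_inv hs hm, mul_smul, h, inv_smul_smul])
  have hw : p.1.1 = p'.1.1 := (add_left_cancel (a := -p'.1.1) (e1.trans (neg_add_cancel p'.1.1).symm))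
  refine Subtype.ext (Prod.ext hw ?_)
  have e2' : σ p'.1.2 + p.1.2 - Cfsg.hermForm m F q p.1.1 (-p'.1.1) = 0 := e2
  rw [hw, ← neg_one_smul F p'.1.1, smul_right' (hs.form m), map_neg, map_one] at e2'
  linear_combination e2' - p'.2

variable [Finite X]

/-- The central invariant vanishes too. -/
theorem aof_eq_bot (hm3 : 3 ≤ m) (hmq : q = 2 → Odd m ∨ 5 ≤ m) (hlt : Nat.card X * (q ^ 2 - 1) < sCount F q (m + 2))
    (ω : X) {t₀ : F} (ht₀ : t₀ ∈ skew σ) (ht₀A : t₀ ∉ fr.Aof hs hm ω) :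
    fr.Aof hs hm ω = ⊥ ∧ fr.Wof hs hm ω = ⊥ := by
  have hW := fr.wof_eq_bot hs hm hm3 hmq hlt ω ht₀ ht₀A
  refine ⟨by_contra fun hne => ?_, hW⟩
  have hmem : fr.Wof hs hm ω ∈ fr.PW hs hm X (fr.Aof hs hm ω) 1 :=
    (fr.mem_PW hs hm).2 ⟨by rw [hW, AddSubgroup.card_bot], ω, rfl⟩
  have h := fr.main_ineq hs hm (X := X) (fr.Aof hs hm ω) 1 (q + 1)
    (oa_bound hs (fr.Aof_le hs hm ω) ht₀ ht₀A hne)
  rw [one_mul] at h
  have h1 : (q + 1) * 1 * q ^ (2 * m) ≤ Nat.card X :=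
    le_trans (Nat.mul_le_mul_right _ (Nat.mul_le_mul_left _ (Finset.card_pos.2 ⟨_, hmem⟩))) h
  refine enough_nat hs hm3 (le_trans ?_ h1) hlt
  obtain ⟨i, rfl⟩ : ∃ i, m = i + 1 := ⟨m - 1, by omega⟩
  rw [show 2 * (i + 1) - 1 = 2 * i + 1 by omega, show 2 * (i + 1) + 1 = 2 * i + 1 + 2 by ring,
    show 2 * (i + 1) = 2 * i + 1 + 1 by ring, pow_succ _ (2 * i + 1), pow_add _ (2 * i + 1) 2]
  have := hs.two_le
  nlinarith [Nat.mul_le_mul_left (q ^ (2 * i + 1)) this]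

/-- There is only one regular orbit. -/
theorem regular_unique (hm3 : 3 ≤ m) (hlt : Nat.card X * (q ^ 2 - 1) < sCount F q (m + 2)) {ω ω' : X}
    (hA : fr.Aof hs hm ω = ⊥) (hW : fr.Wof hs hm ω = ⊥) (hA' : fr.Aof hs hm ω' = ⊥)
    (hW' : fr.Wof hs hm ω' = ⊥) : ∃ r, fr.rad hs hm r • ω = ω' := by
  by_contra hne
  push Not at hne
  have h : Nat.card (Rad σ q m ⊕ Rad σ q m) ≤ Nat.card X := by
    refine Nat.card_le_card_of_injective
      (Sum.elim (fun p => fr.rad hs hm p • ω) fun p => fr.rad hs hm p • ω') ?_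
    rintro (p | p) (p' | p') e <;> simp only [Sum.elim_inl, Sum.elim_inr] at e
    · exact congrArg Sum.inl (fr.rad_smul_inj hs hm hA hW e)
    · refine absurd ?_ (hne (Rad.mul hs (Rad.inv hs p') p))
      rw [← fr.rad_mul hs hm, ← fr.rad_inv hs hm, mul_smul, e, inv_smul_smul]
    · refine absurd ?_ (hne (Rad.mul hs (Rad.inv hs p) p'))
      rw [← fr.rad_mul hs hm, ← fr.rad_inv hs hm, mul_smul, ← e, inv_smul_smul]
    · exact congrArg Sum.inr (fr.rad_smul_inj hs hm hA' hW' e)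
  rw [Nat.card_sum, Rad.card_eq hs] at h
  refine enough_nat hs hm3 (le_trans ?_ h) hlt
  obtain ⟨i, rfl⟩ : ∃ i, m = i + 1 := ⟨m - 1, by omega⟩
  rw [show 2 * (i + 1) - 1 = 2 * i + 1 by omega, show 2 * (i + 1) + 1 = 2 * i + 1 + 2 by ring,
    pow_add _ (2 * i + 1) 2]
  have := hs.two_le
  nlinarith [Nat.mul_le_mul this this, Nat.zero_le (q ^ (2 * i + 1))]

/-- An element of the normaliser with no fixed parameter but central ones fixes a point of the regular orbit,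
and its fixed points there differ by central elements. -/
theorem fixed_point (hm3 : 3 ≤ m) (hlt : Nat.card X * (q ^ 2 - 1) < sCount F q (m + 2)) {ω : X}
    (hA : fr.Aof hs hm ω = ⊥) (hW : fr.Wof hs hm ω = ⊥) {g : transvGroup σ (Cfsg.hermForm (m + 2) F q)} {a : F}
    {γ : GL (Fin m) F} (hg : fr.Mov (σ := σ) g.1 a γ)
    (hδ : ∀ w, σ a • ((γ : Matrix (Fin m) (Fin m) F) *ᵥ w) = w → w = 0)
    (hN : a * σ a ≠ 1 ∨ ∃ k : ℕ, g ^ k = 1 ∧ (k : F) ≠ 0) :
    ∃ ω' : X, g • ω' = ω' ∧ fr.Aof hs hm ω' = ⊥ ∧ fr.Wof hs hm ω' = ⊥ ∧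
      ∀ ω'' : X, g • ω'' = ω'' → fr.Aof hs hm ω'' = ⊥ → fr.Wof hs hm ω'' = ⊥ →
        ∃ (c : F) (hc : c ∈ skew σ), fr.rad hs hm (Rad.zr hs hc) • ω' = ω'' := by
  have hf := hs.form m
  have hgA : fr.Aof hs hm (g • ω) = ⊥ := by
    rw [eq_bot_iff]
    intro c hc
    have hr : a * σ a ≠ 0 := mul_ne_zero hg.ne ((map_ne_zero_iff _ σ.injective).2 hg.ne)
    rw [← mul_inv_cancel_left₀ hr c] at hc
    have h := (fr.Aof_mov hs hm hg ω _).1 hc
    rw [hA, AddSubgroup.mem_bot, mul_eq_zero, or_iff_right (inv_ne_zero hr)] at h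
    exact AddSubgroup.mem_bot.2 h
  have hσa : σ a ≠ 0 := (map_ne_zero_iff _ σ.injective).2 hg.ne
  have hgW : fr.Wof hs hm (g • ω) = ⊥ := by
    rw [eq_bot_iff]
    intro z hz
    obtain ⟨w, rfl⟩ : ∃ w, σ a • ((γ : Matrix (Fin m) (Fin m) F) *ᵥ w) = z :=
      ⟨((γ⁻¹ : GL (Fin m) F) : Matrix (Fin m) (Fin m) F) *ᵥ ((σ a)⁻¹ • z), by
        rw [mulVec_inv_cancel, smul_smul, mul_inv_cancel₀ hσa, one_smul]⟩
    have h := (fr.Wof_mov hs hm hg ω w).1 hz
    rw [hW, AddSubgroup.mem_bot] at h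
    rw [h, mulVec_zero, smul_zero]
    exact zero_mem _
  obtain ⟨r₀, hr₀⟩ := fr.regular_unique hs hm hm3 hlt hA hW hgA hgW
  have hsurj : Function.Surjective fun w : Fin m → F => w - σ a • ((γ : Matrix (Fin m) (Fin m) F) *ᵥ w) := by
    refine Finite.injective_iff_surjective.1 fun w w' e => sub_eq_zero.1 (hδ _ ?_)
    rw [mulVec_sub, smul_sub]
    linear_combination (norm := module) -e
  obtain ⟨w, hw⟩ := hsurj r₀.1.1
  simp only at hw
  obtain ⟨b, hb⟩ := exists_trace_eq hs.ne_refl hs.inv (b := -Cfsg.hermForm m F q w w)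
    (by rw [map_neg, self_fixed hf])
  let p : Rad σ q m := ⟨(w, b), by linear_combination hb⟩
  let d := Rad.mul hs (Rad.inv hs p) (Rad.mul hs (fr.tr hs hg p) r₀)
  have hd1 : d.1.1 = 0 := by
    show -w + (σ a • ((γ : Matrix (Fin m) (Fin m) F) *ᵥ w) + r₀.1.1) = 0
    rw [← hw]; abel
  have hc₀ : d.1.2 ∈ skew σ := by
    have := d.2
    rw [hd1, zero_left' hf, add_zero] at this
    exact this
  obtain ⟨c₀, hc₀def⟩ : ∃ c, c = d.1.2 := ⟨_, rfl⟩
  have hdz : d = Rad.zr hs hc₀ := Subtype.ext (Prod.ext hd1 rfl)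
  have hgp : g • (fr.rad hs hm p • ω) = fr.rad hs hm p • (fr.rad hs hm (Rad.zr hs hc₀) • ω) := by
    have h1 : g * fr.rad hs hm p = fr.rad hs hm (fr.tr hs hg p) * g := by
      rw [← fr.rad_conj hs hm hg, inv_mul_cancel_right]
    have h2 : fr.rad hs hm d = (fr.rad hs hm p)⁻¹ * (fr.rad hs hm (fr.tr hs hg p) * fr.rad hs hm r₀) := by
      rw [fr.rad_inv hs hm, fr.rad_mul hs hm, fr.rad_mul hs hm]
    rw [← mul_smul, h1, mul_smul, ← hr₀, ← hdz, h2, ← mul_smul, ← mul_smul, mul_inv_cancel_left]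
  have hcomm : ∀ {c : F} (hc : c ∈ skew σ) (r : Rad σ q m),
      fr.rad hs hm (Rad.zr hs hc) * fr.rad hs hm r = fr.rad hs hm r * fr.rad hs hm (Rad.zr hs hc) := by
    intro c hc r
    rw [fr.rad_mul hs hm, fr.rad_mul hs hm]
    congr 1
    refine Subtype.ext (Prod.ext (add_comm _ _) ?_)
    show c + r.1.2 - Cfsg.hermForm m F q r.1.1 0 = r.1.2 + c - Cfsg.hermForm m F q 0 r.1.1
    rw [zero_left' hf, zero_right' hf]
    ring
  have hfixN : ∀ {c : F}, c ∈ skew σ → a * σ a * c ∈ skew σ := fun {c} hc => by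
    rw [mem_skew, map_mul, map_mul, hs.inv]
    linear_combination (a * σ a) * mem_skew.1 hc
  have hgz : ∀ {c : F} (hc : c ∈ skew σ),
      g * fr.rad hs hm (Rad.zr hs hc) = fr.rad hs hm (Rad.zr hs (hfixN hc)) * g := by
    intro c hc
    have e : fr.tr hs hg (Rad.zr hs hc) = Rad.zr hs (hfixN hc) := by
      refine Subtype.ext (Prod.ext ?_ rfl)
      show σ a • ((γ : Matrix (Fin m) (Fin m) F) *ᵥ (0 : Fin m → F)) = 0
      rw [mulVec_zero, smul_zero]
    rw [← e, ← fr.rad_conj hs hm hg, inv_mul_cancel_right]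
  have hzadd : ∀ {c c' : F} (hc : c ∈ skew σ) (hc' : c' ∈ skew σ),
      fr.rad hs hm (Rad.zr hs hc) * fr.rad hs hm (Rad.zr hs hc') = fr.rad hs hm (Rad.zr hs (add_mem hc hc')) := by
    intro c c' hc hc'
    rw [fr.rad_mul hs hm]
    congr 1
    refine Subtype.ext (Prod.ext (add_zero _) ?_)
    show c + c' - Cfsg.hermForm m F q 0 0 = c + c'
    rw [zero_left' hf, sub_zero]
  -- move the defect to zero
  obtain ⟨e, he, hee⟩ : ∃ e, ∃ he : e ∈ skew σ, a * σ a * e + c₀ = e := by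
    rcases hN with hN | ⟨k, hk, hk0⟩
    · refine ⟨(1 - a * σ a)⁻¹ * c₀, ?_, ?_⟩
      · rw [mem_skew, map_mul, map_inv₀, map_sub, map_one, map_mul, hs.inv, mul_comm (σ a), ← mul_add]
        rw [hc₀def, mem_skew.1 hc₀, mul_zero]
      · have : (1 - a * σ a) ≠ 0 := sub_ne_zero.2 (Ne.symm hN)
        field_simp
        ring
    · by_cases hN1 : a * σ a = 1
      · refine ⟨0, zero_mem _, ?_⟩
        rw [mul_zero, zero_add, hc₀def]
        have hpow : ∀ i : ℕ, ∃ hi : (i : F) * d.1.2 ∈ skew σ,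
            g ^ i • (fr.rad hs hm p • ω) = fr.rad hs hm p • (fr.rad hs hm (Rad.zr hs hi) • ω) := by
          intro i
          induction i with
          | zero =>
            refine ⟨by simp, ?_⟩
            rw [pow_zero, one_smul]
            have : Rad.zr hs (show ((0 : ℕ) : F) * d.1.2 ∈ skew σ by simp) = Rad.zr hs (zero_mem (skew σ)) (q := q) (m := m) :=
              Subtype.ext (Prod.ext rfl (by simp [Rad.zr]))
            rw [this, fr.rad_one hs hm, one_smul]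
          | succ i ih =>
            obtain ⟨hi, ih⟩ := ih
            refine ⟨by push_cast; rw [add_mul, one_mul]; exact add_mem hi hc₀, ?_⟩
            rw [pow_succ', mul_smul, ih, ← mul_smul (fr.rad hs hm p), ← hcomm hi, mul_smul, ← mul_smul g, hgz hi,
              mul_smul, hgp, ← mul_smul, hcomm _ p, mul_smul, ← mul_smul (fr.rad hs hm (Rad.zr hs _)), hzadd]
            congr 3
            refine Subtype.ext (Prod.ext rfl ?_)
            show a * σ a * ((i : F) * d.1.2) + d.1.2 = ((i + 1 : ℕ) : F) * d.1.2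
            rw [hN1]; push_cast; ring
        obtain ⟨hk', hk''⟩ := hpow k
        rw [hk, one_smul] at hk''
        have h0 := (fr.stab_trivial hs hm hA hW (smul_left_cancel _ hk''.symm)).2
        exact (mul_eq_zero.1 (show (k : F) * d.1.2 = 0 from h0)).resolve_left hk0
      · refine ⟨(1 - a * σ a)⁻¹ * c₀, ?_, ?_⟩
        · rw [mem_skew, map_mul, map_inv₀, map_sub, map_one, map_mul, hs.inv, mul_comm (σ a), ← mul_add]
          rw [hc₀def, mem_skew.1 hc₀, mul_zero]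
        · have : (1 - a * σ a) ≠ 0 := sub_ne_zero.2 (Ne.symm hN1)
          field_simp
          ring
  have hω'A : fr.Aof hs hm (fr.rad hs hm (Rad.zr hs he) • fr.rad hs hm p • ω) = ⊥ ∧
      fr.Wof hs hm (fr.rad hs hm (Rad.zr hs he) • fr.rad hs hm p • ω) = ⊥ := by
    have h := Prod.ext_iff.1 ((fr.inv_rad hs hm (Rad.zr hs he) _).trans (fr.inv_rad hs hm p ω))
    exact ⟨h.1.trans hA, h.2.trans hW⟩
  have hfix : g • fr.rad hs hm (Rad.zr hs he) • fr.rad hs hm p • ω =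
      fr.rad hs hm (Rad.zr hs he) • fr.rad hs hm p • ω := by
    rw [← mul_smul g, hgz he, mul_smul, hgp, ← mul_smul (fr.rad hs hm p), ← hcomm hc₀, mul_smul,
      ← mul_smul (fr.rad hs hm (Rad.zr hs _)), hzadd]
    congr 2
    exact Subtype.ext (Prod.ext rfl (by show a * σ a * e + d.1.2 = e; rw [← hc₀def]; exact hee))
  refine ⟨_, hfix, hω'A.1, hω'A.2, fun ω'' hg'' hA'' hW'' => ?_⟩
  obtain ⟨r, hr⟩ := fr.regular_unique hs hm hm3 hlt hω'A.1 hω'A.2 hA'' hW''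
  have h1 : fr.rad hs hm (fr.tr hs hg r) • fr.rad hs hm (Rad.zr hs he) • fr.rad hs hm p • ω = ω'' := by
    conv_lhs => rw [← hfix]
    rw [← mul_smul, ← fr.rad_conj hs hm hg, inv_mul_cancel_right, mul_smul, hr, hg'']
  have h2 := fr.rad_smul_inj hs hm hω'A.1 hω'A.2 (h1.trans hr.symm)
  have hr0 : r.1.1 = 0 := hδ _ (congrArg (fun s : Rad σ q m => s.1.1) h2)
  have hrc : r.1.2 ∈ skew σ := by
    have := r.2
    rw [hr0, zero_left' hf, add_zero] at this
    exact this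
  exact ⟨r.1.2, hrc, by rw [show Rad.zr hs hrc = r from Subtype.ext (Prod.ext hr0.symm rfl)]; exact hr⟩

omit [Finite X] in
/-- The inverse of an element carrying a point into its central orbit. -/
theorem inv_smul_central {ω : X} {g : transvGroup σ (Cfsg.hermForm (m + 2) F q)} {c : F} (hc : c ∈ skew σ)
    (h : g * fr.rad hs hm (Rad.zr hs hc) = fr.rad hs hm (Rad.zr hs hc) * g)
    (hg : g • ω = fr.rad hs hm (Rad.zr hs hc) • ω) : g⁻¹ • ω = (fr.rad hs hm (Rad.zr hs hc))⁻¹ • ω := by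
  have h2 : g * (fr.rad hs hm (Rad.zr hs hc))⁻¹ = (fr.rad hs hm (Rad.zr hs hc))⁻¹ * g :=
    (Commute.inv_right (h : Commute g _)).eq
  rw [inv_smul_eq_iff, ← mul_smul, h2, mul_smul, hg, inv_smul_smul]

/-- The elements carrying a point into its central orbit. -/
def central (ω : X) : Subgroup (transvGroup σ (Cfsg.hermForm (m + 2) F q)) where
  carrier := {g | (∀ (c : F) (hc : c ∈ skew σ), g * fr.rad hs hm (Rad.zr hs hc) = fr.rad hs hm (Rad.zr hs hc) * g) ∧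
    ∃ (c : F) (hc : c ∈ skew σ), g • ω = fr.rad hs hm (Rad.zr hs hc) • ω}
  one_mem' := ⟨fun c hc => by rw [one_mul, mul_one], 0, zero_mem _, by rw [fr.rad_one hs hm]⟩
  mul_mem' := by
    rintro g g' ⟨h, c, hc, hg⟩ ⟨h', c', hc', hg'⟩
    refine ⟨fun d hd => by rw [mul_assoc, h', ← mul_assoc, h, mul_assoc], c' + c, add_mem hc' hc, ?_⟩
    rw [mul_smul, hg', ← mul_smul, h, mul_smul, hg, ← mul_smul, fr.rad_mul hs hm]
    congr 2
    refine Subtype.ext (Prod.ext (add_zero _) ?_)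
    show c' + c - Cfsg.hermForm m F q 0 0 = c' + c
    rw [zero_left' (hs.form m), sub_zero]
  inv_mem' := by
    rintro g ⟨h, c, hc, hg⟩
    have h' : ∀ (c : F) (hc : c ∈ skew σ),
        g⁻¹ * fr.rad hs hm (Rad.zr hs hc) = fr.rad hs hm (Rad.zr hs hc) * g⁻¹ := fun d hd =>
      (Commute.inv_left (h d hd : Commute g _)).eq
    refine ⟨h', -c, neg_mem hc, ?_⟩
    rw [fr.inv_smul_central hs hm hc (h c hc) hg, fr.rad_inv hs hm]
    congr 2
    refine Subtype.ext (Prod.ext (neg_zero (G := Fin m → F)) ?_)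
    show σ c = -c
    linear_combination mem_skew.1 hc

/-- The elements with trivial scalar centralising the frame element lie in the central subgroup. -/
theorem mem_central {ω' : X} {g : transvGroup σ (Cfsg.hermForm (m + 2) F q)} {a : F} {γ : GL (Fin m) F}
    (hg : fr.Mov (σ := σ) g.1 a γ) (hA : fr.Aof hs hm ω' = ⊥) (hW : fr.Wof hs hm ω' = ⊥)
    (hgω : g • ω' = ω')
    (huniq : ∀ ω'' : X, g • ω'' = ω'' → fr.Aof hs hm ω'' = ⊥ → fr.Wof hs hm ω'' = ⊥ →
      ∃ (c : F) (hc : c ∈ skew σ), fr.rad hs hm (Rad.zr hs hc) • ω' = ω'')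
    {j : transvGroup σ (Cfsg.hermForm (m + 2) F q)} {a' : F} {γ' : GL (Fin m) F} (hj : fr.Mov (σ := σ) j.1 a' γ')
    (hN' : a' * σ a' = 1) (hc : γ * γ' = γ' * γ) : j ∈ fr.central hs hm ω' := by
  refine ⟨fun c hcs => ?_, ?_⟩
  · have e : fr.tr hs hj (Rad.zr hs hcs) = Rad.zr hs hcs := by
      refine Subtype.ext (Prod.ext ?_ ?_)
      · show σ a' • ((γ' : Matrix (Fin m) (Fin m) F) *ᵥ (0 : Fin m → F)) = 0
        rw [mulVec_zero, smul_zero]
      · show a' * σ a' * c = c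
        rw [hN', one_mul]
    calc j * fr.rad hs hm (Rad.zr hs hcs) = j * fr.rad hs hm (Rad.zr hs hcs) * j⁻¹ * j := by group
      _ = fr.rad hs hm (Rad.zr hs hcs) * j := by rw [fr.rad_conj hs hm hj, e]
  · have hj' : g • (j • ω') = j • ω' := by rw [← mul_smul, fr.mov_comm hs hg hj hc, mul_smul, hgω]
    have hA' : fr.Aof hs hm (j • ω') = ⊥ := by
      rw [eq_bot_iff]
      intro c hc'
      have := (fr.Aof_mov hs hm hj ω' c).1 (by rwa [hN', one_mul])
      rwa [hA] at this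
    have hW' : fr.Wof hs hm (j • ω') = ⊥ := by
      rw [eq_bot_iff]
      intro z hz
      have hσ' : σ a' ≠ 0 := right_ne_zero_of_mul_eq_one hN'
      obtain ⟨w, rfl⟩ : ∃ w, σ a' • ((γ' : Matrix (Fin m) (Fin m) F) *ᵥ w) = z :=
        ⟨((γ'⁻¹ : GL (Fin m) F) : Matrix (Fin m) (Fin m) F) *ᵥ ((σ a')⁻¹ • z), by
          rw [mulVec_inv_cancel, smul_smul, mul_inv_cancel₀ hσ', one_smul]⟩
      have := (fr.Wof_mov hs hm hj ω' w).1 hz
      rw [hW, AddSubgroup.mem_bot] at this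
      rw [this, mulVec_zero, smul_zero]
      exact zero_mem _
    obtain ⟨c, hcs, hcω⟩ := huniq _ hj' hA' hW'
    exact ⟨c, hcs, hcω.symm⟩

omit [Finite X] in
/-- Commutators of the central subgroup fix the point. -/
theorem commutator_smul {ω' : X} {j j' : transvGroup σ (Cfsg.hermForm (m + 2) F q)}
    (hj : j ∈ fr.central hs hm ω') (hj' : j' ∈ fr.central hs hm ω') : ⁅j, j'⁆ • ω' = ω' := by
  obtain ⟨h, c, hc, e⟩ := hj
  obtain ⟨h', c', hc', e'⟩ := hj'
  obtain ⟨z, hz⟩ : ∃ z, z = fr.rad hs hm (Rad.zr hs hc) := ⟨_, rfl⟩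
  obtain ⟨z', hz'⟩ : ∃ z', z' = fr.rad hs hm (Rad.zr hs hc') := ⟨_, rfl⟩
  have hzz : Commute z z' := by
    show z * z' = z' * z
    rw [hz, hz', fr.rad_mul hs hm, fr.rad_mul hs hm]
    congr 1
    refine Subtype.ext (Prod.ext (add_comm _ _) ?_)
    show c + c' - Cfsg.hermForm m F q 0 0 = c' + c - Cfsg.hermForm m F q 0 0
    ring
  have c1 : Commute j z := hz ▸ h c hc
  have c2 : Commute j z' := hz' ▸ h c' hc'
  have c3 : Commute j' z := hz ▸ h' c hc
  have c4 : Commute j' z' := hz' ▸ h' c' hc'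
  have i1 : j⁻¹ • ω' = z⁻¹ • ω' := hz ▸ fr.inv_smul_central hs hm hc (h c hc) e
  have i2 : j'⁻¹ • ω' = z'⁻¹ • ω' := hz' ▸ fr.inv_smul_central hs hm hc' (h' c' hc') e'
  rw [← hz] at e
  rw [← hz'] at e'
  calc ⁅j, j'⁆ • ω' = (j * j' * j⁻¹) • z'⁻¹ • ω' := by rw [commutatorElement_def, mul_smul, i2]
    _ = z'⁻¹ • (j * j' * j⁻¹) • ω' := by
        rw [← mul_smul, ((c2.mul_left c4).mul_left c2.inv_left).inv_right.eq, mul_smul]
    _ = z'⁻¹ • (j * j') • z⁻¹ • ω' := by rw [mul_smul (j * j'), i1]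
    _ = z'⁻¹ • z⁻¹ • (j * j') • ω' := by rw [← mul_smul (j * j'), (c1.mul_left c3).inv_right.eq, mul_smul]
    _ = z'⁻¹ • z⁻¹ • j • z' • ω' := by rw [mul_smul j, e']
    _ = z'⁻¹ • z⁻¹ • z' • z • ω' := by rw [← mul_smul j, c2.eq, mul_smul, e]
    _ = ω' := by rw [← mul_smul z', ← hzz.eq, mul_smul, inv_smul_smul, inv_smul_smul]

end Fr

end CfsgLib.UnMinIndex
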