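/-
A regular point fixed by all transvections of the middle space.
-/
import Cfsg.Agent.Lib.UnMinIndex.Regular

set_option autoImplicit false

namespace CfsgLib.UnMinIndex

open Matrix CfsgLib.Transvec CfsgLib.Transvec.Unitary CfsgLib.Classical.Unitary
open scoped commutatorElement

variable {F : Type*} [Field F] [Fintype F] {q : ℕ} {σ : F ≃+* F} {m : ℕ}

/-- An invertible diagonal matrix. -/
def diagU (d : Fin m → F) (hd : ∀ i, d i ≠ 0) : GL (Fin m) F where
  val := diagonal d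
  inv := diagonal fun i => (d i)⁻¹
  val_inv := by
    rw [diagonal_mul_diagonal]
    exact (congrArg diagonal (funext fun i => mul_inv_cancel₀ (hd i))).trans diagonal_one
  inv_val := by
    rw [diagonal_mul_diagonal]
    exact (congrArg diagonal (funext fun i => inv_mul_cancel₀ (hd i))).trans diagonal_one

omit [Fintype F] in
theorem diagU_mulVec (d : Fin m → F) (hd : ∀ i, d i ≠ 0) (v : Fin m → F) (i : Fin m) :
    ((diagU d hd : Matrix (Fin m) (Fin m) F) *ᵥ v) i = d i * v i := mulVec_diagonal d v i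

variable (hs : Setup F q σ)
include hs

theorem iso_diagU {d : Fin m → F} (hd : ∀ i, d i ≠ 0) (hn : ∀ i, d i * σ (d i) = 1) :
    Iso (Cfsg.hermForm m F q) (diagU d hd) := fun u v => by
  rw [hermForm_eq hs.frob, hermForm_eq hs.frob]
  refine Finset.sum_congr rfl fun i _ => ?_
  rw [diagU_mulVec, diagU_mulVec, map_mul]
  linear_combination (u i * σ (v i)) * hn i

/-- Eigenvectors of an isometry give commuting transvections. -/
theorem commute_uT {γ : GL (Fin m) F} (hγ : Iso (Cfsg.hermForm m F q) γ) {u : Fin m → F}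
    (hu : Cfsg.hermForm m F q u u = 0) {l : F} (hl : l * σ l = 1)
    (he : (γ : Matrix (Fin m) (Fin m) F) *ᵥ u = l • u) (c : F) :
    γ * uT (Cfsg.hermForm m F q) u c = uT (Cfsg.hermForm m F q) u c * γ := by
  have hf := hs.form m
  have h := conj_uT hf hγ hu c
  have e : uT (Cfsg.hermForm m F q) (l • u) c = uT (Cfsg.hermForm m F q) u c := gl_ext fun x => by
    rw [uT_mulVec hf (by rw [hf.smul_left, smul_right' hf, hu, mul_zero, mul_zero]), uT_mulVec hf hu,
      smul_right' hf, smul_smul]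
    congr 2
    linear_combination (c * Cfsg.hermForm m F q x u) * hl
  rw [he, e] at h
  conv_rhs => rw [← h]
  rw [inv_mul_cancel_right]

/-- Transvections avoiding one of the first two coordinate pairs generate. -/
theorem two_pairs_generate (hm7 : 7 ≤ m) (S : Subgroup (transvGroup σ (Cfsg.hermForm m F q)))
    (hmemS : ∀ (p : ℕ), p = 0 ∨ p = 1 → ∀ (u : Fin m → F) (c : F) (hu : Cfsg.hermForm m F q u u = 0)
      (hc : c + σ c = 0), (∀ k : Fin m, k.1 / 2 = p → u k = 0) →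
      (⟨uT (Cfsg.hermForm m F q) u c, uT_mem (hs.form m) hu hc⟩ : transvGroup σ (Cfsg.hermForm m F q)) ∈ S)
    (x : transvGroup σ (Cfsg.hermForm m F q)) : x ∈ S := by
  classical
  obtain ⟨i, rfl⟩ : ∃ i, m = i + 7 := ⟨m - 7, by omega⟩
  have hf := hs.form (i + 7)
  let ι : Fin (i + 5) → Fin (i + 7) := fun k => if h : k.1 < 2 then ⟨k.1, by omega⟩ else ⟨k.1 + 2, by omega⟩
  have hι : ∀ k, (ι k).1 / 2 ≠ 1 ∧ (ι k = ι k) ∧ ((ι k).1 = k.1 ∧ k.1 < 2 ∨ (ι k).1 = k.1 + 2 ∧ 2 ≤ k.1) := by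
    intro k
    simp only [ι]
    split_ifs with h
    · exact ⟨by show k.1 / 2 ≠ 1; omega, trivial, Or.inl ⟨rfl, h⟩⟩
    · exact ⟨by show (k.1 + 2) / 2 ≠ 1; omega, trivial, Or.inr ⟨rfl, by omega⟩⟩
  have hιinj : Function.Injective ι := by
    intro a b e
    have ha := (hι a).2.2
    have hb := (hι b).2.2
    have e' : (ι a).1 = (ι b).1 := congrArg Fin.val e
    have ha' : a.1 < 2 → (ι a).1 = a.1 := fun h => by simp only [ι, dif_pos h]
    have hb' : b.1 < 2 → (ι b).1 = b.1 := fun h => by simp only [ι, dif_pos h]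
    exact Fin.ext (by omega)
  let ψ := embOfFamily hs (fun k => (Pi.single (ι k) 1 : Fin (i + 7) → F)) fun a b => by
    rw [hermForm_basis hs.frob]
    by_cases h : a = b
    · rw [if_pos h, if_pos (congrArg ι h)]
    · rw [if_neg h, if_neg (hιinj.ne h)]
  have hψv : ∀ s (k : Fin (i + 7)), (∀ k', ι k' ≠ k) → ψ.toLin s k = 0 := by
    intro s k hk
    show Fintype.linearCombination F (fun k => (Pi.single (ι k) 1 : Fin (i + 7) → F)) s k = 0
    rw [Fintype.linearCombination_apply, Finset.sum_apply]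
    refine Finset.sum_eq_zero fun k' _ => ?_
    rw [Pi.smul_apply, Pi.single_eq_of_ne (hk k').symm, smul_zero]
  have hψι : ∀ s k', ψ.toLin s (ι k') = s k' := by
    intro s k'
    show Fintype.linearCombination F (fun k => (Pi.single (ι k) 1 : Fin (i + 7) → F)) s (ι k') = _
    rw [Fintype.linearCombination_apply, Finset.sum_apply, Finset.sum_eq_single k']
    · rw [Pi.smul_apply, Pi.single_eq_same, smul_eq_mul, mul_one]
    · intro b _ hb
      rw [Pi.smul_apply, Pi.single_eq_of_ne (hιinj.ne hb).symm, smul_zero]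
    · simp
  have hproj : ∀ u k', ψ.proj u k' = u (ι k') := by
    intro u k'
    show Cfsg.hermForm (i + 7) F q u (ψ.toLin (Pi.single k' 1)) = _
    rw [show ψ.toLin (Pi.single k' 1) = Pi.single (ι k') 1 from
      (Fintype.linearCombination_apply_single F _ _ _).trans (one_smul _ _), hf.herm, hermForm_single hs.frob, hs.inv]
  have hψS : ∀ g₂ : transvGroup σ (Cfsg.hermForm (i + 5) F q), ψ.hom hs g₂ ∈ S := by
    have hle : transvGroup σ (Cfsg.hermForm (i + 5) F q) ≤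
        ((S.map (transvGroup σ (Cfsg.hermForm (i + 7) F q)).subtype)).comap (ψ.extGL hs) := by
      refine (Subgroup.closure_le _).2 ?_
      rintro _ ⟨v, c, hv, hc, rfl⟩
      refine ⟨⟨uT (Cfsg.hermForm (i + 7) F q) (ψ.toLin v) c, uT_mem hf (by rw [ψ.iso', hv]) hc⟩,
        hmemS 1 (Or.inr rfl) (ψ.toLin v) c (by rw [ψ.iso', hv]) hc fun k hk => hψv v k fun k' e => ?_, (ψ.extGL_uT hs hv c).symm⟩
      exact (hι k').1 (e ▸ hk)
    intro g₂
    obtain ⟨y, hy, he⟩ := hle g₂.2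
    rwa [show ψ.hom hs g₂ = y from Subtype.ext he.symm]
  obtain ⟨x, hx⟩ := x
  induction hx using Subgroup.closure_induction with
  | one => exact one_mem S
  | mul a b _ _ iha ihb => exact mul_mem iha ihb
  | inv a _ iha => exact inv_mem iha
  | mem y hy =>
    obtain ⟨u, c, hu, hc, rfl⟩ := hy
    obtain ⟨r, hr⟩ : ∃ r, r = ψ.proj u := ⟨_, rfl⟩
    by_cases hr0 : r = 0
    · refine hmemS 0 (Or.inl rfl) u c hu hc fun k hk => ?_
      have hk2 : k.1 < 2 := by omega
      have e : ι ⟨k.1, by omega⟩ = k := (dif_pos hk2).trans (Fin.ext rfl)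
      rw [← e, ← hproj u, ← hr, hr0]
      rfl
    obtain ⟨s₀, g₂, hg₂, hsupp⟩ : ∃ (s₀ : Fin (i + 5) → F) (g₂ : transvGroup σ (Cfsg.hermForm (i + 5) F q)),
        (g₂.1 : Matrix (Fin (i + 5)) (Fin (i + 5)) F) *ᵥ s₀ = r ∧ ∀ k : Fin (i + 5), k.1 < 2 → s₀ k = 0 := by
      have hf5 := hs.form (i + 5)
      have mem : ∀ {γ' : GL (Fin (i + 5)) F}, Iso (Cfsg.hermForm (i + 5) F q) γ' →
          (γ' : Matrix (Fin (i + 5)) (Fin (i + 5)) F).det = 1 → γ' ∈ transvGroup σ (Cfsg.hermForm (i + 5) F q) :=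
        fun h1 h2 => mem_transvGroup_short hf5 (by rw [Fintype.card_fin]; omega)
          (Or.inl (by rw [Fintype.card_fin]; omega)) (hermForm_basis hs.frob) h1 h2
      by_cases hrr : Cfsg.hermForm (i + 5) F q r r = 0
      · obtain ⟨α, hα⟩ := CfsgLib.Transvec.Unitary.exists_norm_eq hs.ne_refl hs.inv (b := (-1 : F))
          (by rw [map_neg, map_one])
        obtain ⟨s₀, hs₀⟩ : ∃ s₀, s₀ = (Pi.single (⟨2, by omega⟩ : Fin (i + 5)) 1 + α • Pi.single (⟨3, by omega⟩ : Fin (i + 5)) 1 : Fin (i + 5) → F) :=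
          ⟨_, rfl⟩
        have hss : Cfsg.hermForm (i + 5) F q s₀ s₀ = 0 := by
          simp only [hs₀, hf5.add_left, add_right' hf5, hf5.smul_left, smul_right' hf5, hermForm_basis hs.frob,
            Fin.ext_iff, if_true, OfNat.ofNat_ne_one]
          norm_num
          linear_combination hα
        have hs0 : s₀ ≠ 0 := fun h => by
          have := congrFun h ⟨2, by omega⟩
          simp [hs₀, Fin.ext_iff] at this
        obtain ⟨γ', h1, h2', h3⟩ := exists_move_singular hs (by omega) hs0 hr0 hss hrr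
        refine ⟨s₀, ⟨γ', mem h1 h2'⟩, h3, fun k hk => ?_⟩
        have e2 : k ≠ ⟨2, by omega⟩ := fun e => by rw [e] at hk; simp at hk
        have e3 : k ≠ ⟨3, by omega⟩ := fun e => by rw [e] at hk; simp at hk
        simp [hs₀, e2, e3]
      · obtain ⟨α, hα⟩ := CfsgLib.Transvec.Unitary.exists_norm_eq hs.ne_refl hs.inv (self_fixed hf5 r)
        obtain ⟨s₀, hs₀⟩ : ∃ s₀, s₀ = (α • Pi.single (⟨2, by omega⟩ : Fin (i + 5)) 1 : Fin (i + 5) → F) := ⟨_, rfl⟩
        have hss : Cfsg.hermForm (i + 5) F q s₀ s₀ = Cfsg.hermForm (i + 5) F q r r := by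
          rw [hs₀, hf5.smul_left, smul_right' hf5, hermForm_basis hs.frob, if_pos rfl, mul_one, hα]
        obtain ⟨γ', h1, h2', h3⟩ := exists_move_aniso hs (by omega : 2 ≤ i + 5) (one_ne_zero (α := F))
          (v := s₀) (v' := r) (by rw [hss]; exact hrr) (by rw [map_one, mul_one, one_mul, hss])
        rw [map_one, div_one] at h2'
        rw [map_one, one_smul] at h3
        refine ⟨s₀, ⟨γ', mem h1 h2'⟩, h3, fun k hk => ?_⟩
        have e2 : k ≠ ⟨2, by omega⟩ := fun e => by rw [e] at hk; simp at hk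
        simp [hs₀, e2]
    obtain ⟨u₀, hu₀⟩ : ∃ u₀, u₀ = u - ψ.toLin r + ψ.toLin s₀ := ⟨_, rfl⟩
    have hgu : ((ψ.hom hs g₂).1 : Matrix (Fin (i + 7)) (Fin (i + 7)) F) *ᵥ u₀ = u := by
      rw [hu₀, mulVec_add, hr, ψ.hom_perp hs g₂ (ψ.proj_sub hs u), ψ.hom_toLin hs g₂, hg₂, hr, sub_add_cancel]
    have hu₀s : Cfsg.hermForm (i + 7) F q u₀ u₀ = 0 := by
      rw [← transvGroup_iso hf (ψ.hom hs g₂) u₀ u₀, hgu, hu]
    have h0 := hmemS 0 (Or.inl rfl) u₀ c hu₀s hc fun k hk => by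
      have hk2 : k.1 < 2 := by omega
      have e : ι ⟨k.1, by omega⟩ = k := (dif_pos hk2).trans (Fin.ext rfl)
      rw [hu₀, ← e, Pi.add_apply, Pi.sub_apply, hψι, hψι, hr, hproj, hsupp _ hk2, sub_self, add_zero]
    have h1 := mul_mem (mul_mem (hψS g₂) h0) (inv_mem (hψS g₂))
    convert h1 using 1
    refine Subtype.ext ?_
    show _ = (ψ.hom hs g₂).1 * uT (Cfsg.hermForm (i + 7) F q) u₀ c * ((ψ.hom hs g₂).1)⁻¹
    rw [conj_uT hf (transvGroup_iso hf _) hu₀s, hgu]

namespace Fr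

variable (hm : 2 ≤ m) (fr : Fr F q m) {X : Type*} [MulAction (transvGroup σ (Cfsg.hermForm (m + 2) F q)) X]
include hm

/-- If short root elements of the middle space lie in the central subgroup, transvections fix the point. -/
theorem fixed_of_central (hm3 : 3 ≤ m) {ω' : X}
    (hcent : ∀ v w b, Cfsg.hermForm m F q v v = 0 → Cfsg.hermForm m F q w v = 0 →
      b + σ b + Cfsg.hermForm m F q w w = 0 →
      ∃ j ∈ fr.central hs hm ω', fr.Mov (σ := σ) j.1 1 (eu (Cfsg.hermForm m F q) v w b))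
    {u : Fin m → F} (hu : Cfsg.hermForm m F q u u = 0) {c : F} (hc : c ∈ skew σ)
    (g : transvGroup σ (Cfsg.hermForm (m + 2) F q))
    (hg : g.1 = uT (Cfsg.hermForm (m + 2) F q) (fr.φ.toLin u) c) : g • ω' = ω' := by
  by_cases hu0 : u = 0
  · have : g = 1 := Subtype.ext (hg.trans (gl_ext fun z => by
      rw [uT_mulVec (hs.form (m + 2)) (by rw [fr.φ.iso', hu]), hu0, map_zero]
      simp))
    rw [this, one_smul]
  obtain ⟨w, w', b, b', hw, hw', hb, hb', he⟩ :=
    uT_eq_commutator (hs.form m) (by rw [Fintype.card_fin]; omega) hu hu0 (mem_skew.1 hc)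
  obtain ⟨j, hj, hjm⟩ := hcent u w b hu hw hb
  obtain ⟨j', hj', hjm'⟩ := hcent u w' b' hu hw' hb'
  have hgm : fr.Mov (σ := σ) g.1 1 (uT (Cfsg.hermForm m F q) u c) := by
    have h := fr.mov_hom hs ⟨uT (Cfsg.hermForm m F q) u c, uT_mem (hs.form m) hu hc⟩
    have e : fr.φ.hom hs ⟨uT (Cfsg.hermForm m F q) u c, uT_mem (hs.form m) hu hc⟩ = g :=
      Subtype.ext ((fr.φ.extGL_uT hs hu c).trans hg.symm)
    rwa [e] at h
  have h1 := fr.mov_mul hs hgm (fr.mov_mul hs hjm' hjm)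
  rw [one_mul, one_mul, ← he, commutatorElement_def, show ∀ x y : GL (Fin m) F, x * y * x⁻¹ * y⁻¹ * (y * x) = x * y from
    fun x y => by group] at h1
  have h2 := fr.mov_mul hs hjm hjm'
  rw [one_mul] at h2
  have h3 := fr.mov_unique hs h1 h2
  have hgc : g = ⁅j, j'⁆ := by
    rw [commutatorElement_def, ← h3]
    group
  rw [hgc]
  exact fr.commutator_smul hs hm hj hj'

/-- Transvections fixing a point give transitivity on each norm class, unless `(m, q) = (3, 2)`. -/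
theorem transitive_of_uT (hm3 : 3 ≤ m) (h32 : ¬(m = 3 ∧ q = 2)) {ω' : X}
    (hfix : ∀ (u : Fin m → F) (c : F), Cfsg.hermForm m F q u u = 0 → c ∈ skew σ →
      ∀ g : transvGroup σ (Cfsg.hermForm (m + 2) F q),
        g.1 = uT (Cfsg.hermForm (m + 2) F q) (fr.φ.toLin u) c → g • ω' = ω')
    {u u' : Fin m → F} (hu : Cfsg.hermForm m F q u u ≠ 0)
    (hu' : Cfsg.hermForm m F q u' u' = Cfsg.hermForm m F q u u) :
    ∃ (j : transvGroup σ (Cfsg.hermForm (m + 2) F q)) (γ : GL (Fin m) F),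
      fr.Mov (σ := σ) j.1 1 γ ∧ (γ : Matrix (Fin m) (Fin m) F) *ᵥ u = u' ∧ j • ω' = ω' := by
  have hf := hs.form m
  obtain ⟨γ, hγ, hdet, hγu⟩ := exists_move_aniso hs hm (one_ne_zero (α := F)) hu (v' := u')
    (by rw [map_one, one_mul, one_mul, hu'])
  rw [map_one, div_one] at hdet
  rw [map_one, one_smul] at hγu
  have hmem : γ ∈ transvGroup σ (Cfsg.hermForm m F q) := by
    refine mem_transvGroup_short hf (by rw [Fintype.card_fin]; omega) ?_ (hermForm_basis hs.frob) hγ hdet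
    rw [Fintype.card_fin]
    by_cases h4 : 4 ≤ m
    · exact Or.inl h4
    · have := hs.two_le
      exact Or.inr (exists_skew_ne_neg_one hs.card (by omega) hs.frob hs.inv hs.ne_refl)
  let S : Subgroup (transvGroup σ (Cfsg.hermForm m F q)) :=
    (MulAction.stabilizer (transvGroup σ (Cfsg.hermForm (m + 2) F q)) ω').comap (fr.φ.hom hs)
  have hle : transvGroup σ (Cfsg.hermForm m F q) ≤ S.map (transvGroup σ (Cfsg.hermForm m F q)).subtype := by
    refine (Subgroup.closure_le _).2 ?_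
    rintro _ ⟨v, c, hv, hc, rfl⟩
    refine ⟨⟨uT (Cfsg.hermForm m F q) v c, uT_mem hf hv hc⟩, ?_, rfl⟩
    exact MulAction.mem_stabilizer_iff.2 (hfix v c hv hc _ (fr.φ.extGL_uT hs hv c))
  obtain ⟨y, hy, he⟩ := hle hmem
  refine ⟨fr.φ.hom hs y, γ, ?_, hγu, MulAction.mem_stabilizer_iff.1 hy⟩
  have h := fr.mov_hom hs y
  rwa [show y.1 = γ from he] at h

variable [Finite X]

/-- An element carrying a fixed point into its central orbit, with third power one, fixes it in characteristic two. -/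
theorem fix_of_cube (h2 : (2 : F) = 0) {ω' : X} {g : transvGroup σ (Cfsg.hermForm (m + 2) F q)}
    (hg : g ∈ fr.central hs hm ω') (h3 : g ^ 3 = 1) : g • ω' = ω' := by
  obtain ⟨hc1, c, hc, e⟩ := hg
  obtain ⟨z, hz⟩ : ∃ z, z = fr.rad hs hm (Rad.zr hs hc) := ⟨_, rfl⟩
  have hzz : z * z = 1 := by
    rw [hz, fr.rad_mul hs hm, ← fr.rad_one hs hm (zero_mem _)]
    congr 1
    refine Subtype.ext (Prod.ext (add_zero _) ?_)
    show c + c - Cfsg.hermForm m F q 0 0 = 0
    rw [zero_left' (hs.form m), sub_zero]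
    linear_combination c * h2
  have hcz : g * z = z * g := hz ▸ hc1 c hc
  rw [← hz] at e
  have h : g ^ 3 • ω' = z • ω' := by
    rw [show g ^ 3 = g * g * g by rw [pow_succ, pow_two], mul_smul, e, ← mul_smul, mul_assoc g, hcz,
      ← mul_assoc g, hcz, mul_assoc, mul_smul, mul_smul, e, ← mul_smul g, hcz, mul_smul, e, ← mul_smul,
      ← mul_smul, hzz, one_mul]
  rw [h3, one_smul] at h
  rw [e, ← h]

/-- Transitivity on norm classes over the field of four elements, from a scalar element. -/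
theorem transitive_two (hq2 : q = 2) {ω' : X} {g : transvGroup σ (Cfsg.hermForm (m + 2) F q)} {a l : F}
    {γ : GL (Fin m) F} (hg : fr.Mov (σ := σ) g.1 a γ) (hA : fr.Aof hs hm ω' = ⊥) (hW : fr.Wof hs hm ω' = ⊥)
    (hgω : g • ω' = ω')
    (huniq : ∀ ω'' : X, g • ω'' = ω'' → fr.Aof hs hm ω'' = ⊥ → fr.Wof hs hm ω'' = ⊥ →
      ∃ (c : F) (hc : c ∈ skew σ), fr.rad hs hm (Rad.zr hs hc) • ω' = ω'')
    (hγv : ∀ v, (γ : Matrix (Fin m) (Fin m) F) *ᵥ v = l • v)
    (hT : ∀ (u : Fin m → F) (c : F), Cfsg.hermForm m F q u u = 0 → c ∈ skew σ →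
      ∀ g : transvGroup σ (Cfsg.hermForm (m + 2) F q),
        g.1 = uT (Cfsg.hermForm (m + 2) F q) (fr.φ.toLin u) c → g • ω' = ω')
    {u u' : Fin m → F} (hu : Cfsg.hermForm m F q u u ≠ 0)
    (hu' : Cfsg.hermForm m F q u' u' = Cfsg.hermForm m F q u u) :
    ∃ (j : transvGroup σ (Cfsg.hermForm (m + 2) F q)) (γ : GL (Fin m) F),
      fr.Mov (σ := σ) j.1 1 γ ∧ (γ : Matrix (Fin m) (Fin m) F) *ᵥ u = u' ∧ j • ω' = ω' := by
  subst hq2
  have hf := hs.form m
  have h2 : (2 : F) = 0 := by exact_mod_cast cast_q_eq_zero hs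
  have h3 : ∀ x : F, x ≠ 0 → x ^ 3 = 1 := fun x hx => by
    have h := FiniteField.pow_card_sub_one_eq_one x hx
    rwa [hs.card] at h
  let R : (Fin m → F) → (Fin m → F) → Prop := fun v v' => ∃ (j : transvGroup σ (Cfsg.hermForm (m + 2) F 2)) (b : F)
    (δ : GL (Fin m) F), fr.Mov (σ := σ) j.1 b δ ∧ (δ : Matrix (Fin m) (Fin m) F).det = b ∧
      (δ : Matrix (Fin m) (Fin m) F) *ᵥ v = v' ∧ j • ω' = ω'
  have htrans : ∀ {v₁ v₂ v₃}, R v₁ v₂ → R v₂ v₃ → R v₁ v₃ := by
    rintro v₁ v₂ v₃ ⟨j, b, δ, hj, hd, hv, hf1⟩ ⟨j', b', δ', hj', hd', hv', hf2⟩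
    exact ⟨j' * j, b' * b, δ' * δ, fr.mov_mul hs hj' hj, by rw [Units.val_mul, det_mul, hd', hd],
      by rw [mul_mulVec, hv, hv'], by rw [mul_smul, hf1, hf2]⟩
  -- reflections fix the point
  have hrefl : ∀ (x : Fin m → F) (l₁ : F), Cfsg.hermForm m F 2 x x = 1 → l₁ * σ l₁ = 1 →
      ∃ j : transvGroup σ (Cfsg.hermForm (m + 2) F 2),
        fr.Mov (σ := σ) j.1 l₁ (qR (Cfsg.hermForm m F 2) x l₁) ∧ j • ω' = ω' := by
    intro x l₁ hx hl₁
    have hl0 : l₁ ≠ 0 := left_ne_zero_of_mul_eq_one hl₁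
    obtain ⟨j, hj⟩ := fr.exists_mov hs (by omega) (by omega) hl0 (iso_qR hf hx hl₁)
      (by rw [det_qR hf hx hl₁, hs.frob, pow_two, mul_div_assoc, div_self hl0, mul_one])
    have hjc := fr.mem_central hs hm hg hA hW hgω huniq hj hl₁ (gl_ext fun z => by
      rw [mul_mulVec, mul_mulVec, hγv, hγv, mulVec_smul])
    have hj3 : j ^ 3 = 1 := by
      have h := fr.mov_pow hs hj 3
      have e : qR (Cfsg.hermForm m F 2) x l₁ ^ 3 = 1 := by
        have hl2 : l₁ * l₁ * σ (l₁ * l₁) = 1 := by rw [map_mul]; linear_combination (l₁ * σ l₁ + 1) * hl₁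
        rw [pow_succ, pow_two, qR_mul hf hx hl₁ hl₁, qR_mul hf hx hl2 hl₁,
          show l₁ * l₁ * l₁ = l₁ ^ 3 by ring, h3 l₁ hl0, qR_one hf hx]
      rw [h3 l₁ hl0, e] at h
      exact fr.mov_unique hs h (fr.mov_one hs)
    exact ⟨j, hj, fr.fix_of_cube hs hm h2 hjc hj3⟩
  have hjump : ∀ {v v' : Fin m → F}, Cfsg.hermForm m F 2 v' v' = Cfsg.hermForm m F 2 v v →
      Cfsg.hermForm m F 2 (v' - v) (v' - v) ≠ 0 → R v v' := by
    intro v v' hvv hd
    obtain ⟨d, hd'⟩ : ∃ d, d = v' - v := ⟨_, rfl⟩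
    rw [← hd'] at hd
    obtain ⟨s, hs'⟩ := CfsgLib.Transvec.Unitary.exists_norm_eq hs.ne_refl hs.inv
      (b := (Cfsg.hermForm m F 2 d d)⁻¹) (by rw [map_inv₀, self_fixed hf])
    have hx : Cfsg.hermForm m F 2 (s • d) (s • d) = 1 := by
      rw [hf.smul_left, smul_right' hf, ← mul_assoc, hs', inv_mul_cancel₀ hd]
    obtain ⟨e, he⟩ : ∃ e, e = Cfsg.hermForm m F 2 v d := ⟨_, rfl⟩
    have hdd : Cfsg.hermForm m F 2 d d = -(e + σ e) := by
      rw [he, ← hf.herm, hd']
      simp only [sub_left' hf, sub_right' hf, hvv]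
      ring
    have he0 : e ≠ 0 := fun h => hd (by rw [hdd, h, map_zero, add_zero, neg_zero])
    have hl₁ : -σ e / e * σ (-σ e / e) = 1 := by
      rw [map_div₀, map_neg, hs.inv]
      have := (map_ne_zero_iff _ σ.injective).2 he0
      field_simp
    obtain ⟨j, hj, hjf⟩ := hrefl (s • d) _ hx hl₁
    have h : R v _ := ⟨j, _, _, hj, det_qR hf hx hl₁, qR_mulVec hf hx hl₁ v, hjf⟩
    have key : v + ((-σ e / e - 1) * Cfsg.hermForm m F 2 v (s • d)) • s • d = v' := by
      rw [smul_right' hf, smul_smul, ← he,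
        show (-σ e / e - 1) * (σ s * e) * s = (s * σ s) * (-σ e - e) by field_simp, hs', hdd,
        show -σ e - e = -(e + σ e) by ring, inv_mul_cancel₀ (hdd ▸ hd), one_smul, hd', add_sub_cancel]
    rwa [key] at h
  have hmain : R u u' := by
    obtain ⟨d, hd⟩ : ∃ d, d = u' - u := ⟨_, rfl⟩
    by_cases hdd : Cfsg.hermForm m F 2 d d = 0
    swap
    · exact hjump hu' (hd ▸ hdd)
    by_cases hud : Cfsg.hermForm m F 2 u d = 0
    swap
    · have hsk : (Cfsg.hermForm m F 2 u d)⁻¹ ∈ skew σ := by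
        have e : Cfsg.hermForm m F 2 u d + σ (Cfsg.hermForm m F 2 u d) = 0 := by
          rw [← hf.herm]
          have h := hdd
          rw [hd, sub_left' hf, sub_right' hf, sub_right' hf, hu'] at h
          rw [hd, sub_right' hf, sub_left' hf]
          linear_combination -h
        rw [mem_skew, map_inv₀, show σ (Cfsg.hermForm m F 2 u d) = -Cfsg.hermForm m F 2 u d by linear_combination e,
          inv_neg, add_neg_cancel]
      obtain ⟨c, hc⟩ : ∃ c, c = (Cfsg.hermForm m F 2 u d)⁻¹ := ⟨_, rfl⟩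
      have hj := fr.mov_hom hs ⟨uT (Cfsg.hermForm m F 2) d c, uT_mem hf hdd (mem_skew.1 (hc ▸ hsk))⟩
      refine ⟨_, 1, _, hj, (transvGroup_le hf (uT_mem hf hdd (mem_skew.1 (hc ▸ hsk)))).2, ?_,
        hT d c hdd (hc ▸ hsk) _ (fr.φ.extGL_uT hs hdd c)⟩
      rw [uT_mulVec hf hdd, hc, inv_mul_cancel₀ hud, one_smul, hd, add_sub_cancel]
    obtain ⟨ξ, -, hξ, -, hξ1, -, -⟩ := exists_two_norm_one hs
    have hξu : Cfsg.hermForm m F 2 (ξ • u) (ξ • u) = Cfsg.hermForm m F 2 u u := by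
      rw [hf.smul_left, smul_right' hf, ← mul_assoc, hξ, one_mul]
    refine htrans (hjump hξu ?_) (hjump (hu'.trans hξu.symm) ?_)
    · rw [← one_smul F u, smul_smul, mul_one, ← sub_smul, hf.smul_left, smul_right' hf, ← mul_assoc]
      exact mul_ne_zero (mul_ne_zero (sub_ne_zero.2 hξ1) ((map_ne_zero_iff _ σ.injective).2 (sub_ne_zero.2 hξ1))) hu
    · have e : u' - ξ • u = (1 - ξ) • u + d := by rw [hd]; module
      rw [e, hf.add_left, add_right' hf, add_right' hf, hf.smul_left, smul_right' hf, hdd, hf.smul_left, hud,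
        smul_right' hf, (eq_zero_comm hf).mp hud]
      simp only [mul_zero, add_zero, ← mul_assoc]
      exact mul_ne_zero (mul_ne_zero (sub_ne_zero.2 hξ1.symm)
        ((map_ne_zero_iff _ σ.injective).2 (sub_ne_zero.2 hξ1.symm))) hu
  obtain ⟨j, b, δ, hj, hdet, hv, hfix⟩ := hmain
  -- correct the scalar by a reflection fixing the target
  obtain ⟨k, rfl⟩ : ∃ k, m = k + 1 + 1 := ⟨m - 2, by omega⟩
  obtain ⟨ψ, hψ, -⟩ := exists_perp_emb hs (v := u') (hu' ▸ hu)
  obtain ⟨x, hx⟩ : ∃ x, x = ψ.toLin (Pi.single (0 : Fin (k + 1)) 1) := ⟨_, rfl⟩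
  have hxx : Cfsg.hermForm (k + 1 + 1) F 2 x x = 1 := by
    rw [hx, ψ.iso']
    exact (hermForm_basis hs.frob _ _).trans (if_pos rfl)
  have hbn : b⁻¹ * σ b⁻¹ = 1 := by
    rw [map_inv₀, ← mul_inv, inv_eq_one, hs.frob, ← pow_succ']
    exact h3 b hj.ne
  obtain ⟨j₂, hj₂, hfix₂⟩ := hrefl x b⁻¹ hxx hbn
  have hv₂ := qR_mulVec hf hxx hbn u'
  rw [show Cfsg.hermForm (k + 1 + 1) F 2 u' x = 0 from (eq_zero_comm hf).mp (hx ▸ hψ _), mul_zero, zero_smul,
    add_zero] at hv₂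
  have h := fr.mov_mul hs hj₂ hj
  rw [inv_mul_cancel₀ hj.ne] at h
  exact ⟨j₂ * j, _, h, by rw [mul_mulVec, hv, hv₂], by rw [mul_smul, hfix, hfix₂]⟩


/-- A regular point fixed by the transvections of the middle space. -/
theorem exists_fixed (hm3 : 3 ≤ m) (hmq : q = 2 → Odd m ∨ 7 ≤ m) (hlt : Nat.card X * (q ^ 2 - 1) < sCount F q (m + 2))
    {ω : X} (hA : fr.Aof hs hm ω = ⊥) (hW : fr.Wof hs hm ω = ⊥) :
    ∃ ω' : X, fr.Aof hs hm ω' = ⊥ ∧ fr.Wof hs hm ω' = ⊥ ∧
      (∀ (u : Fin m → F) (c : F), Cfsg.hermForm m F q u u = 0 → c ∈ skew σ →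
        ∀ g : transvGroup σ (Cfsg.hermForm (m + 2) F q),
          g.1 = uT (Cfsg.hermForm (m + 2) F q) (fr.φ.toLin u) c → g • ω' = ω') ∧
      ∀ (u u' : Fin m → F), Cfsg.hermForm m F q u u ≠ 0 → Cfsg.hermForm m F q u' u' = Cfsg.hermForm m F q u u →
        ∃ (j : transvGroup σ (Cfsg.hermForm (m + 2) F q)) (γ : GL (Fin m) F),
          fr.Mov (σ := σ) j.1 1 γ ∧ (γ : Matrix (Fin m) (Fin m) F) *ᵥ u = u' ∧ j • ω' = ω' := by
  classical
  have hf := hs.form m
  have hq := hs.two_le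
  -- the case of a scalar element
  have scalar : ∀ {a l : F}, a ≠ 0 → l * σ l = 1 → l ^ m = σ a / a → σ a * l ≠ 1 →
      (a * σ a ≠ 1 ∨ ∃ k : ℕ, a ^ k = 1 ∧ l ^ k = 1 ∧ (k : F) ≠ 0) →
      ∃ ω' : X, fr.Aof hs hm ω' = ⊥ ∧ fr.Wof hs hm ω' = ⊥ ∧
        (∀ (u : Fin m → F) (c : F), Cfsg.hermForm m F q u u = 0 → c ∈ skew σ →
          ∀ g : transvGroup σ (Cfsg.hermForm (m + 2) F q),
            g.1 = uT (Cfsg.hermForm (m + 2) F q) (fr.φ.toLin u) c → g • ω' = ω') ∧
        ∀ (u u' : Fin m → F), Cfsg.hermForm m F q u u ≠ 0 → Cfsg.hermForm m F q u' u' = Cfsg.hermForm m F q u u →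
          ∃ (j : transvGroup σ (Cfsg.hermForm (m + 2) F q)) (γ : GL (Fin m) F),
            fr.Mov (σ := σ) j.1 1 γ ∧ (γ : Matrix (Fin m) (Fin m) F) *ᵥ u = u' ∧ j • ω' = ω' := by
    intro a l ha hl hdet hne hN
    have hl0 : l ≠ 0 := left_ne_zero_of_mul_eq_one hl
    obtain ⟨γ, hγdef⟩ : ∃ γ, γ = diagU (fun _ : Fin m => l) (fun _ => hl0) := ⟨_, rfl⟩
    have hγv : ∀ v, (γ : Matrix (Fin m) (Fin m) F) *ᵥ v = l • v := fun v => funext fun i => by
      rw [hγdef, diagU_mulVec]; rfl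
    have hγdet : (γ : Matrix (Fin m) (Fin m) F).det = σ a / a := by
      rw [hγdef, ← hdet]
      show (diagonal fun _ : Fin m => l).det = _
      rw [det_diagonal, Finset.prod_const, Finset.card_univ, Fintype.card_fin]
    obtain ⟨g, hg⟩ := fr.exists_mov hs (by omega) (by omega) ha (hγdef ▸ iso_diagU hs _ fun _ => hl) hγdet
    obtain ⟨ω', hfix, hA', hW', huniq⟩ := fr.fixed_point hs hm hm3 hlt hA hW hg
      (fun w hw => by
        rw [hγv, smul_smul] at hw
        by_contra hw0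
        have h : (σ a * l - 1) • w = 0 := by rw [sub_smul, hw, one_smul, sub_self]
        exact hne (sub_eq_zero.1 ((smul_eq_zero.1 h).resolve_right hw0)))
      (hN.imp_right fun ⟨k, hak, hlk, hk0⟩ => ⟨k, by
        have hmov := fr.mov_pow hs hg k
        have hγk : γ ^ k = 1 := Units.ext (by
          rw [Units.val_pow_eq_pow_val, hγdef]
          show (diagonal fun _ : Fin m => l) ^ k = 1
          rw [diagonal_pow]
          exact (congrArg diagonal (funext fun _ => hlk)).trans diagonal_one)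
        rw [hak, hγk] at hmov
        exact fr.mov_unique hs hmov (fr.mov_one hs), hk0⟩)
    have hT : ∀ (u : Fin m → F) (c : F), Cfsg.hermForm m F q u u = 0 → c ∈ skew σ →
        ∀ g : transvGroup σ (Cfsg.hermForm (m + 2) F q),
          g.1 = uT (Cfsg.hermForm (m + 2) F q) (fr.φ.toLin u) c → g • ω' = ω' := by
      refine fun u c hu hc g' hg' => fr.fixed_of_central hs hm hm3 (fun v w b hv hwv hb => ?_) hu hc g' hg'
      obtain ⟨j, hj⟩ := fr.exists_mov hs (by omega) (by omega) one_ne_zero (iso_eu hf hv hwv hb)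
        (by rw [eu_det, map_one, div_one])
      exact ⟨j, fr.mem_central hs hm hg hA' hW' hfix huniq hj (by simp) (gl_ext fun z => by
        rw [mul_mulVec, mul_mulVec, hγv, hγv, mulVec_smul]), hj⟩
    refine ⟨ω', hA', hW', hT, fun u u' hu hu' => ?_⟩
    by_cases h32 : m = 3 ∧ q = 2
    swap
    · exact fr.transitive_of_uT hs hm hm3 h32 hT hu hu'
    obtain ⟨rfl, rfl⟩ := h32
    exact fr.transitive_two hs hm rfl hg hA' hW' hfix huniq hγv hT hu hu'
  by_cases hq3 : 3 ≤ q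
  · obtain ⟨a, ha, ha0, ha1⟩ : ∃ a : F, σ a = a ∧ a ≠ 0 ∧ a ≠ 1 := by
      by_contra hcon
      push Not at hcon
      have h : Nat.card (fixd σ) ≤ 2 := by
        refine le_trans (Nat.card_le_card_of_injective (fun r : fixd σ => decide (r.1 = 0)) fun r r' e => ?_) (by simp)
        simp only [decide_eq_decide] at e
        by_cases h0 : r.1 = 0
        · exact Subtype.ext (h0.trans (e.1 h0).symm)
        · exact Subtype.ext ((hcon _ r.2 h0).trans (hcon _ r'.2 fun h => h0 (e.2 h)).symm)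
      rw [card_fixd hs] at h
      omega
    refine scalar (a := a) (l := 1) ha0 (by simp) (by rw [one_pow, ha, div_self ha0]) (by rw [mul_one, ha]; exact ha1) ?_
    by_cases h : a * σ a = 1
    · refine Or.inr ⟨2, by rw [pow_two]; rwa [ha] at h, one_pow _, fun h2 => ha1 ?_⟩
      rw [ha] at h
      have h2' : (2 : F) = 0 := by exact_mod_cast h2
      have e : (a - 1) * (a - 1) = 0 := by linear_combination h + (1 - a) * h2'
      exact sub_eq_zero.1 (mul_self_eq_zero.1 e)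
    · exact Or.inl h
  obtain rfl : q = 2 := by omega
  have h2 : (2 : F) = 0 := by exact_mod_cast cast_q_eq_zero hs
  obtain ⟨ζ, hζ0, hζ1⟩ : ∃ ζ : F, ζ ≠ 0 ∧ ζ ≠ 1 := by
    obtain ⟨a, ha⟩ : ∃ a, σ a ≠ a := by
      by_contra h
      simp only [not_exists, not_not] at h
      exact hs.ne_refl (RingEquiv.ext h)
    exact ⟨a, fun h => ha (by rw [h, map_zero]), fun h => ha (by rw [h, map_one])⟩
  have hζ3 : ζ ^ 3 = 1 := by
    have h := FiniteField.pow_card_sub_one_eq_one ζ hζ0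
    rwa [hs.card] at h
  have hσ : ∀ x : F, σ x = x ^ 2 := hs.frob
  have hn : ∀ k : ℕ, ζ ^ k * σ (ζ ^ k) = 1 := fun k => by
    rw [hσ, ← pow_succ', ← pow_mul, mul_comm, pow_mul, hζ3, one_pow]
  have hk3 : ((3 : ℕ) : F) ≠ 0 := by
    push_cast
    intro h
    exact one_ne_zero (show (1 : F) = 0 by linear_combination h - h2)
  have hmod : ∀ k, ζ ^ k = ζ ^ (k % 3) := fun k => by
    conv_lhs => rw [← Nat.div_add_mod k 3, pow_add, pow_mul, hζ3, one_pow, one_mul]
  by_cases hm1 : m % 3 = 1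
  swap
  · refine scalar (a := ζ ^ m) (l := ζ) (pow_ne_zero _ hζ0) (by simpa using hn 1) ?_ ?_
      (Or.inr ⟨3, by rw [← pow_mul, mul_comm, pow_mul, hζ3, one_pow], hζ3, hk3⟩)
    · rw [hσ, pow_two, mul_div_assoc, div_self (pow_ne_zero _ hζ0), mul_one]
    · rw [hσ, ← pow_mul, ← pow_succ, hmod]
      rcases (show (m * 2 + 1) % 3 = 1 ∨ (m * 2 + 1) % 3 = 2 by omega) with e | e <;> rw [e]
      · rwa [pow_one]
      · intro h
        refine hζ1 ?_
        calc ζ = ζ * ζ ^ 2 := by rw [h, mul_one]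
          _ = 1 := by rw [← pow_succ', hζ3]
  have hm7 : 7 ≤ m := by
    rcases hmq rfl with ⟨i, hi⟩ | h <;> omega
  -- the two diagonal elements
  let ex : ℕ → Fin m → ℕ := fun p k => if k.1 / 2 = p then 1 else 2
  let γ : ℕ → GL (Fin m) F := fun p => diagU (fun k => ζ ^ ex p k) fun _ => pow_ne_zero _ hζ0
  have hγv : ∀ p (v : Fin m → F) (k : Fin m), ((γ p : Matrix (Fin m) (Fin m) F) *ᵥ v) k = ζ ^ ex p k * v k :=
    fun p v k => diagU_mulVec _ _ v k
  have hγiso : ∀ p, Iso (Cfsg.hermForm m F 2) (γ p) := fun p => iso_diagU hs _ fun _ => hn _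
  have hγdet : ∀ p, 2 * p + 1 < m → (γ p : Matrix (Fin m) (Fin m) F).det = σ 1 / 1 := by
    intro p hp
    show (diagonal fun k => ζ ^ ex p k).det = _
    rw [det_diagonal, Finset.prod_pow_eq_pow_sum, map_one, div_one, hmod]
    have hsum : (∑ k, ex p k) + 2 = 2 * m := by
      have hfilt : (Finset.univ.filter fun k : Fin m => k.1 / 2 = p) = {⟨2 * p, by omega⟩, ⟨2 * p + 1, hp⟩} := by
        ext k
        simp only [Finset.mem_filter, Finset.mem_univ, true_and, Finset.mem_insert, Finset.mem_singleton, Fin.ext_iff]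
        omega
      have : (∑ k, ex p k) + ∑ k : Fin m, (if k.1 / 2 = p then 1 else 0) = ∑ _k : Fin m, 2 := by
        rw [← Finset.sum_add_distrib]
        refine Finset.sum_congr rfl fun k _ => ?_
        show (if k.1 / 2 = p then 1 else 2) + (if k.1 / 2 = p then 1 else 0) = 2
        split_ifs <;> rfl
      rwa [← Finset.card_filter, hfilt, Finset.card_pair (by simp [Fin.ext_iff]), Finset.sum_const, Finset.card_univ,
        Fintype.card_fin, smul_eq_mul, mul_comm m] at this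
    rw [show (∑ k, ex p k) % 3 = 0 by omega, pow_zero]
  have hγ3 : ∀ p, γ p ^ 3 = 1 := fun p => Units.ext (by
    rw [Units.val_pow_eq_pow_val]
    show (diagonal fun k => ζ ^ ex p k) ^ 3 = 1
    rw [diagonal_pow]
    exact (congrArg diagonal (funext fun k => by
      show (ζ ^ ex p k) ^ 3 = 1
      rw [← pow_mul, mul_comm, pow_mul, hζ3, one_pow])).trans diagonal_one)
  obtain ⟨g₀, hg₀⟩ := fr.exists_mov hs (by omega) (by omega) one_ne_zero (hγiso 0) (hγdet 0 (by omega))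
  obtain ⟨g₁, hg₁⟩ := fr.exists_mov hs (by omega) (by omega) one_ne_zero (hγiso 1) (hγdet 1 (by omega))
  have hord : ∀ {g : transvGroup σ (Cfsg.hermForm (m + 2) F 2)} {p : ℕ}, fr.Mov (σ := σ) g.1 1 (γ p) → g ^ 3 = 1 := by
    intro g p hg
    have h := fr.mov_pow hs hg 3
    rw [one_pow, hγ3] at h
    exact fr.mov_unique hs h (fr.mov_one hs)
  have hδ : ∀ p w, σ 1 • ((γ p : Matrix (Fin m) (Fin m) F) *ᵥ w) = w → w = 0 := by
    intro p w hw
    funext k
    have h := congrFun hw k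
    rw [Pi.smul_apply, map_one, one_smul, hγv] at h
    refine (mul_eq_zero.1 (show (ζ ^ ex p k - 1) * w k = 0 by linear_combination h)).resolve_left fun e => hζ1 ?_
    rcases (show ex p k = 1 ∨ ex p k = 2 by simp only [ex]; split_ifs <;> simp) with e' | e' <;> rw [e'] at e
    · rw [pow_one] at e; exact sub_eq_zero.1 e
    · calc ζ = ζ * ζ ^ 2 := by rw [sub_eq_zero.1 e, mul_one]
        _ = 1 := by rw [← pow_succ', hζ3]
  obtain ⟨ω', hfix, hA', hW', huniq⟩ := fr.fixed_point hs hm hm3 hlt hA hW hg₀ (hδ 0)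
    (Or.inr ⟨3, hord hg₀, hk3⟩)
  have hcomm : γ 0 * γ 1 = γ 1 * γ 0 := gl_ext fun v => funext fun k => by
    rw [mul_mulVec, mul_mulVec, hγv, hγv, hγv, hγv]; ring
  -- the second element fixes the same point
  have hfix₁ : g₁ • ω' = ω' := by
    obtain ⟨hc1, c, hc, e⟩ := fr.mem_central hs hm hg₀ hA' hW' hfix huniq hg₁ (by simp) hcomm
    have hzz : fr.rad hs hm (Rad.zr hs hc) * fr.rad hs hm (Rad.zr hs hc) = 1 := by
      rw [fr.rad_mul hs hm, ← fr.rad_one hs hm (zero_mem _)]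
      congr 1
      refine Subtype.ext (Prod.ext (add_zero _) ?_)
      show c + c - Cfsg.hermForm m F 2 0 0 = 0
      rw [zero_left' hf, sub_zero]
      linear_combination c * h2
    have h3 : g₁ ^ 3 • ω' = fr.rad hs hm (Rad.zr hs hc) • ω' := by
      rw [show g₁ ^ 3 = g₁ * g₁ * g₁ by rw [pow_succ, pow_two], mul_smul, e, ← mul_smul, mul_assoc g₁, hc1,
        ← mul_assoc g₁, hc1, mul_assoc, mul_smul, mul_smul, e, ← mul_smul g₁, hc1, mul_smul, e, ← mul_smul,
        ← mul_smul, hzz, one_mul]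
    rw [hord hg₁, one_smul] at h3
    rw [e, ← h3]
  obtain ⟨ω₁, hfx₁, hA₁, hW₁, huniq₁⟩ := fr.fixed_point hs hm hm3 hlt hA hW hg₁ (hδ 1)
    (Or.inr ⟨3, hord hg₁, hk3⟩)
  have huniq' : ∀ ω'' : X, g₁ • ω'' = ω'' → fr.Aof hs hm ω'' = ⊥ → fr.Wof hs hm ω'' = ⊥ →
      ∃ (c : F) (hc : c ∈ skew σ), fr.rad hs hm (Rad.zr hs hc) • ω' = ω'' := by
    intro ω'' h'' hA'' hW''
    obtain ⟨c, hc, e⟩ := huniq₁ ω' hfix₁ hA' hW'
    obtain ⟨c'', hc'', e''⟩ := huniq₁ ω'' h'' hA'' hW''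
    refine ⟨c'' - c, sub_mem hc'' hc, ?_⟩
    rw [← e, ← mul_smul, fr.rad_mul hs hm, ← e'']
    congr 2
    refine Subtype.ext (Prod.ext (add_zero _) ?_)
    show c'' - c + c - Cfsg.hermForm m F 2 0 0 = c''
    rw [zero_left' hf, sub_zero, sub_add_cancel]
  let S : Subgroup (transvGroup σ (Cfsg.hermForm m F 2)) := (fr.central hs hm ω').comap (fr.φ.hom hs)
  have heig : ∀ {p : ℕ} {u : Fin m → F}, (∀ k : Fin m, k.1 / 2 = p → u k = 0) →
      (γ p : Matrix (Fin m) (Fin m) F) *ᵥ u = ζ ^ 2 • u := by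
    intro p u hu
    funext k
    rw [hγv, Pi.smul_apply, smul_eq_mul]
    by_cases hk : k.1 / 2 = p
    · rw [hu k hk]; ring
    · simp only [ex, if_neg hk]
  have hmemS : ∀ {p : ℕ}, p = 0 ∨ p = 1 → ∀ (u : Fin m → F) (c : F) (hu : Cfsg.hermForm m F 2 u u = 0)
      (hc : c + σ c = 0), (∀ k : Fin m, k.1 / 2 = p → u k = 0) →
      (⟨uT (Cfsg.hermForm m F 2) u c, uT_mem hf hu hc⟩ : transvGroup σ (Cfsg.hermForm m F 2)) ∈ S := by
    intro p hp u c hu hc hsupp
    have hcm := commute_uT hs (hγiso p) hu (hn 2) (heig hsupp) c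
    rcases hp with rfl | rfl
    · exact fr.mem_central hs hm hg₀ hA' hW' hfix huniq (fr.mov_hom hs _) (by simp) hcm
    · exact fr.mem_central hs hm hg₁ hA' hW' hfix₁ huniq' (fr.mov_hom hs _) (by simp) hcm
  have hS : ∀ x : transvGroup σ (Cfsg.hermForm m F 2), x ∈ S :=
    two_pairs_generate hs hm7 S fun p hp u c hu hc h => hmemS hp u c hu hc h
  have hT : ∀ (u : Fin m → F) (c : F), Cfsg.hermForm m F 2 u u = 0 → c ∈ skew σ →
      ∀ g : transvGroup σ (Cfsg.hermForm (m + 2) F 2),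
        g.1 = uT (Cfsg.hermForm (m + 2) F 2) (fr.φ.toLin u) c → g • ω' = ω' := by
    refine fun u c hu hc g hg => fr.fixed_of_central hs hm hm3 (fun v w b hv hwv hb => ?_) hu hc g hg
    let x : transvGroup σ (Cfsg.hermForm m F 2) := ⟨eu (Cfsg.hermForm m F 2) v w b,
      eu_mem hf (by rw [Fintype.card_fin]; omega) (Or.inl (by rw [Fintype.card_fin]; omega)) (hermForm_basis hs.frob)
        hv hwv hb⟩
    exact ⟨fr.φ.hom hs x, hS x, fr.mov_hom hs x⟩
  exact ⟨ω', hA', hW', hT, fun u u' hu hu' => fr.transitive_of_uT hs hm hm3 (by omega) hT hu hu'⟩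

end Fr

end CfsgLib.UnMinIndex
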