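/-
Centres all of whose transvections lie in a subgroup, and the two kinds of mixed centres that force the whole group.
-/
import Cfsg.Agent.Lib.UnMinIndex.Fixed

set_option autoImplicit false

namespace CfsgLib.UnMinIndex

open Matrix CfsgLib.Transvec CfsgLib.Transvec.Unitary CfsgLib.Classical.Unitary
open scoped commutatorElement

variable {F : Type*} [Field F] [Fintype F] {q : ℕ} {σ : F ≃+* F} {m n : ℕ}

/-- All transvections with centre `v` lie in `H`. -/
def FullAt (σ : F ≃+* F) (q : ℕ) (H : Subgroup (transvGroup σ (Cfsg.hermForm n F q))) (v : Fin n → F) : Prop :=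
  ∀ c ∈ skew σ, ∀ g : transvGroup σ (Cfsg.hermForm n F q), g.1 = uT (Cfsg.hermForm n F q) v c → g ∈ H

variable (hs : Setup F q σ) {H : Subgroup (transvGroup σ (Cfsg.hermForm n F q))}
include hs

theorem uT_zero_vec (c : F) : uT (Cfsg.hermForm n F q) (0 : Fin n → F) c = 1 := gl_ext fun z => by
  rw [uT_mulVec (hs.form n) (zero_left' (hs.form n) 0)]
  simp

theorem uT_smul_vec {v : Fin n → F} (hv : Cfsg.hermForm n F q v v = 0) (l c : F) :
    uT (Cfsg.hermForm n F q) (l • v) c = uT (Cfsg.hermForm n F q) v (l * σ l * c) := gl_ext fun z => by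
  rw [uT_mulVec (hs.form n) (by rw [(hs.form n).smul_left, smul_right' (hs.form n), hv, mul_zero, mul_zero]),
    uT_mulVec (hs.form n) hv, smul_right' (hs.form n), smul_smul]
  congr 2
  ring

theorem full_zero : FullAt σ q H (0 : Fin n → F) := fun c _ g hg => by
  rw [show g = 1 from Subtype.ext (hg.trans (uT_zero_vec hs c))]
  exact one_mem H

theorem full_smul {v : Fin n → F} (hv : Cfsg.hermForm n F q v v = 0) (h : FullAt σ q H v) (l : F) :
    FullAt σ q H (l • v) := fun c hc g hg => h _ (mem_skew.2 (by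
      rw [map_mul, map_mul, hs.inv]
      linear_combination (l * σ l) * mem_skew.1 hc)) g (hg.trans (uT_smul_vec hs hv l c))

theorem full_conj {v : Fin n → F} (hv : Cfsg.hermForm n F q v v = 0) (h : FullAt σ q H v)
    {k : transvGroup σ (Cfsg.hermForm n F q)} (hk : k ∈ H) :
    FullAt σ q H ((k.1 : Matrix (Fin n) (Fin n) F) *ᵥ v) := fun c hc g hg => by
  have e : g = k * ⟨uT (Cfsg.hermForm n F q) v c, uT_mem (hs.form n) hv hc⟩ * k⁻¹ := Subtype.ext (by
    rw [hg, ← conj_uT (hs.form n) (transvGroup_iso (hs.form n) k) hv]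
    rfl)
  rw [e]
  exact mul_mem (mul_mem hk (h c hc _ rfl)) (inv_mem hk)

/-- Everything is full only for the whole group. -/
theorem eq_top_of_full (h : ∀ v, Cfsg.hermForm n F q v v = 0 → FullAt σ q H v) : H = ⊤ := by
  refine eq_top_iff.2 fun x _ => ?_
  have hle : transvGroup σ (Cfsg.hermForm n F q) ≤ H.map (transvGroup σ (Cfsg.hermForm n F q)).subtype := by
    refine (Subgroup.closure_le _).2 ?_
    rintro _ ⟨v, c, hv, hc, rfl⟩
    exact ⟨⟨_, uT_mem (hs.form n) hv hc⟩, h v hv c hc _ rfl, rfl⟩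
  obtain ⟨y, hy, he⟩ := hle x.2
  rwa [Subtype.ext he.symm]

/-- Transitivity on each anisotropic norm class. -/
theorem exists_move_nonsingular (hn : 4 ≤ n) {v v' : Fin n → F} (hv : Cfsg.hermForm n F q v v ≠ 0)
    (hv' : Cfsg.hermForm n F q v' v' = Cfsg.hermForm n F q v v) :
    ∃ g : transvGroup σ (Cfsg.hermForm n F q), (g.1 : Matrix (Fin n) (Fin n) F) *ᵥ v = v' := by
  obtain ⟨γ, hγ, hdet, hγv⟩ := exists_move_aniso hs (by omega : 2 ≤ n) (one_ne_zero (α := F)) hv (v' := v')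
    (by rw [map_one, one_mul, one_mul, hv'])
  rw [map_one, div_one] at hdet
  rw [map_one, one_smul] at hγv
  exact ⟨⟨γ, mem_transvGroup_short (hs.form n) (by rw [Fintype.card_fin]; omega)
    (Or.inl (by rw [Fintype.card_fin]; omega)) (hermForm_basis hs.frob) hγ hdet⟩, hγv⟩

/-- A subgroup of small index moves every line. -/
theorem exists_moving (hn : 4 ≤ n) (hlt : H.index * (q ^ 2 - 1) < sCount F q n) {z : Fin n → F} (hz : z ≠ 0)
    (hcount : Cfsg.hermForm n F q z z ≠ 0 → H.index * (q ^ 2 - 1) + sCount F q n + 1 < q ^ (2 * n)) :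
    ∃ g ∈ H, (g.1 : Matrix (Fin n) (Fin n) F) *ᵥ z ∉ Submodule.span F ({z} : Set (Fin n → F)) := by
  classical
  by_contra hcon
  push Not at hcon
  have hf := hs.form n
  let Q := transvGroup σ (Cfsg.hermForm n F q) ⧸ H
  haveI : Fintype Q := Fintype.ofFinite _
  let ρ : Q × {a : F // a ≠ 0} → (Fin n → F) := fun p => p.2.1 • ((p.1.out.1 : Matrix (Fin n) (Fin n) F) *ᵥ z)
  have hsurj : ∀ (g : transvGroup σ (Cfsg.hermForm n F q)) (a : F), a ≠ 0 →
      ∃ p, ρ p = a • ((g.1 : Matrix (Fin n) (Fin n) F) *ᵥ z) := by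
    intro g a ha
    obtain ⟨h, hh⟩ := QuotientGroup.mk_out_eq_mul H g
    obtain ⟨b, hb⟩ := Submodule.mem_span_singleton.1 (hcon h.1 h.2)
    have hb0 : b ≠ 0 := fun e => by
      rw [e, zero_smul] at hb
      exact mulVec_ne_zero h.1.1 hz hb.symm
    refine ⟨(QuotientGroup.mk g, ⟨a * b⁻¹, mul_ne_zero ha (inv_ne_zero hb0)⟩), ?_⟩
    show (a * b⁻¹) • (((QuotientGroup.mk g : Q).out.1 : Matrix (Fin n) (Fin n) F) *ᵥ z) = _
    rw [hh, Subgroup.coe_mul, mul_mulVec, ← hb, mulVec_smul, smul_smul, mul_assoc, inv_mul_cancel₀ hb0, mul_one]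
  have hcard : (Finset.univ.image ρ).card ≤ H.index * (q ^ 2 - 1) := by
    refine Finset.card_image_le.trans ?_
    rw [Finset.card_univ, Fintype.card_prod, Subgroup.index, Nat.card_eq_fintype_card]
    refine Nat.mul_le_mul_left _ ?_
    rw [Fintype.card_subtype_compl, Fintype.card_subtype_eq, hs.card]
  have hne : ∀ {y : Fin n → F}, Cfsg.hermForm n F q y y ≠ 0 → y ≠ 0 := fun h e => h (by rw [e, zero_left' hf])
  by_cases hzz : Cfsg.hermForm n F q z z = 0
  · have hsub : (Finset.univ.filter fun y : Fin n → F => y ≠ 0 ∧ Cfsg.hermForm n F q y y = 0) ⊆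
        Finset.univ.image ρ := by
      intro y hy
      obtain ⟨hy0, hyy⟩ := (Finset.mem_filter.1 hy).2
      obtain ⟨g, hg⟩ := exists_move_iso hf (by rw [Fintype.card_fin]; omega)
        (Or.inl (by rw [Fintype.card_fin]; omega)) (hermForm_basis hs.frob) hzz hyy hz hy0
      obtain ⟨p, hp⟩ := hsurj g 1 one_ne_zero
      exact Finset.mem_image.2 ⟨p, Finset.mem_univ _, by rw [hp, one_smul, hg]⟩
    have h := (Finset.card_le_card hsub).trans hcard
    rw [← Fintype.card_subtype, ← Nat.card_eq_fintype_card] at h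
    exact absurd h (not_le.2 hlt)
  · have hsub : (Finset.univ.filter fun y : Fin n → F => Cfsg.hermForm n F q y y ≠ 0) ⊆ Finset.univ.image ρ := by
      intro y hy
      have hyy := (Finset.mem_filter.1 hy).2
      obtain ⟨a, ha⟩ := CfsgLib.Transvec.Unitary.exists_norm_eq hs.ne_refl hs.inv
        (b := Cfsg.hermForm n F q y y / Cfsg.hermForm n F q z z) (by rw [map_div₀, self_fixed hf, self_fixed hf])
      have ha0 : a ≠ 0 := fun h => div_ne_zero hyy hzz (by rw [← ha, h, zero_mul])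
      obtain ⟨g, hg⟩ := exists_move_nonsingular hs hn hzz (v' := a⁻¹ • y) (by
        rw [hf.smul_left, smul_right' hf, map_inv₀, ← mul_assoc, ← mul_inv, ha]
        field_simp)
      obtain ⟨p, hp⟩ := hsurj g a ha0
      exact Finset.mem_image.2 ⟨p, Finset.mem_univ _, by rw [hp, hg, smul_inv_smul₀ ha0]⟩
    have h := (Finset.card_le_card hsub).trans hcard
    have h1 := card_nonsingular hs n
    have h2 := hcount hzz
    omega

/-- The product of two commuting transvections as a short root element. -/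
theorem uT_mul_eq_eu {V P : Fin n → F} (hV : Cfsg.hermForm n F q V V = 0) (hP : Cfsg.hermForm n F q P P = 0)
    (hVP : Cfsg.hermForm n F q V P = 0) {c : F} (hc : c ∈ skew σ) :
    uT (Cfsg.hermForm n F q) (V + P) c * uT (Cfsg.hermForm n F q) V (-c) =
      eu (Cfsg.hermForm n F q) P (c • V) c := by
  have hf := hs.form n
  have hσc : σ c = -c := by linear_combination mem_skew.1 hc
  have hPV := (eq_zero_comm hf).mp hVP
  refine gl_ext fun z => ?_
  rw [mul_mulVec, uT_mulVec hf hV,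
    uT_mulVec hf (by rw [hf.add_left, add_right' hf, add_right' hf, hV, hP, hVP, hPV]; simp),
    eu_mulVec hf hP (by rw [hf.smul_left, hVP, mul_zero])]
  simp only [hf.add_left, add_right' hf, hf.smul_left, smul_right' hf, hσc, hV, hVP, mul_zero, add_zero, smul_add]
  module

namespace Fr

variable (hm : 2 ≤ m) (fr : Fr F q m) {H : Subgroup (transvGroup σ (Cfsg.hermForm (m + 2) F q))}
include hm

/-- A mixed centre with singular middle part forces the whole group. -/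
theorem full_singular (hm3 : 3 ≤ m) (hlt : H.index * (q ^ 2 - 1) < sCount F q (m + 2))
    (hU : ∀ u, Cfsg.hermForm m F q u u = 0 → FullAt σ q H (fr.φ.toLin u)) {u : Fin m → F}
    (huu : Cfsg.hermForm m F q u u = 0) (hu0 : u ≠ 0) {P : Fin (m + 2) → F}
    (hPP : Cfsg.hermForm (m + 2) F q P P = 0) (hP0 : P ≠ 0) (hPφ : fr.φ.proj P = 0) {c₀ : F} (hc₀ : c₀ ∈ skew σ)
    (hc₀0 : c₀ ≠ 0) {g₀ : transvGroup σ (Cfsg.hermForm (m + 2) F q)} (hg₀ : g₀ ∈ H)
    (hg₀v : g₀.1 = uT (Cfsg.hermForm (m + 2) F q) (fr.φ.toLin u + P) c₀) : H = ⊤ := by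
  classical
  have hf := hs.form (m + 2)
  have hfm := hs.form m
  have hn : 4 ≤ m + 2 := by omega
  have hφP : ∀ w, Cfsg.hermForm (m + 2) F q (fr.φ.toLin w) P = 0 := fun w => by
    rw [hf.herm, fr.φ.form_toLin hs, hPφ, zero_left' hfm, map_zero]
  -- the middle parts of short root elements at `P` in the subgroup
  let W : AddSubgroup (Fin m → F) :=
    { carrier := {w | ∃ g ∈ H, ∃ b, b + σ b + Cfsg.hermForm m F q w w = 0 ∧
        g.1 = eu (Cfsg.hermForm (m + 2) F q) P (fr.φ.toLin w) b}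
      zero_mem' := ⟨1, one_mem H, 0, by rw [zero_left' hfm]; simp, by
        rw [map_zero, eu_zero hf hPP]
        exact gl_ext fun z => by rw [uT_mulVec hf hPP]; simp⟩
      add_mem' := by
        rintro w w' ⟨g, hg, b, hb, e⟩ ⟨g', hg', b', hb', e'⟩
        refine ⟨g * g', mul_mem hg hg', b + b' - Cfsg.hermForm m F q w' w, ?_, ?_⟩
        · simp only [map_sub, map_add, hfm.add_left, add_right' hfm, ← hfm.herm]
          linear_combination hb + hb'
        · rw [Subgroup.coe_mul, e, e', eu_mul hf hPP (hφP _) (hφP _), fr.φ.iso', map_add]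
      neg_mem' := by
        rintro w ⟨g, hg, b, hb, e⟩
        refine ⟨g⁻¹, inv_mem hg, σ b, ?_, ?_⟩
        · simp only [hs.inv, neg_left' hfm]
          rw [← neg_one_smul F w, smul_right' hfm, map_neg, map_one]
          linear_combination hb
        · rw [Subgroup.coe_inv, e]
          refine inv_eq_of_mul_eq_one_right ?_
          rw [eu_mul hf hPP (hφP _) (hφP _), ← map_add, add_neg_cancel, map_zero, eu_zero hf hPP, fr.φ.iso',
            show b + σ b - Cfsg.hermForm m F q (-w) w = 0 by rw [neg_left' hfm]; linear_combination hb]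
          exact gl_ext fun z => by rw [uT_mulVec hf hPP]; simp }
  have hWinv : ∀ {w u₁ : Fin m → F}, w ∈ W → Cfsg.hermForm m F q u₁ u₁ = 0 → ∀ d ∈ skew σ,
      (d * Cfsg.hermForm m F q w u₁) • u₁ ∈ W := by
    intro w u₁ hw hu₁ d hd
    obtain ⟨g, hg, b, hb, e⟩ := hw
    have hφu₁ : Cfsg.hermForm (m + 2) F q (fr.φ.toLin u₁) (fr.φ.toLin u₁) = 0 := by rw [fr.φ.iso', hu₁]
    obtain ⟨τ, hτ⟩ : ∃ τ : transvGroup σ (Cfsg.hermForm (m + 2) F q),
        τ.1 = uT (Cfsg.hermForm (m + 2) F q) (fr.φ.toLin u₁) d := ⟨⟨_, uT_mem hf hφu₁ hd⟩, rfl⟩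
    have hτH := hU u₁ hu₁ d hd τ hτ
    have hτP : (τ.1 : Matrix (Fin (m + 2)) (Fin (m + 2)) F) *ᵥ P = P := by
      rw [hτ, uT_mulVec hf hφu₁, (eq_zero_comm hf).mp (hφP u₁), mul_zero, zero_smul, add_zero]
    have hw' : w + (d * Cfsg.hermForm m F q w u₁) • u₁ ∈ W := by
      refine ⟨τ * g * τ⁻¹, mul_mem (mul_mem hτH hg) (inv_mem hτH), b, ?_, ?_⟩
      · rw [← uT_mulVec hfm hu₁, iso_uT hfm hu₁ hd, hb]
      · rw [Subgroup.coe_mul, Subgroup.coe_mul, Subgroup.coe_inv, e,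
          conj_eu hf (transvGroup_iso hf τ) hPP (hφP _), hτP, hτ, uT_mulVec hf hφu₁, fr.φ.iso', map_add, map_smul]
    have h := sub_mem hw' (show w ∈ W from ⟨g, hg, b, hb, e⟩)
    rwa [add_sub_cancel_left] at h
  have hw₀ : c₀ • u ∈ W := by
    refine ⟨g₀ * ⟨uT (Cfsg.hermForm (m + 2) F q) (fr.φ.toLin u) (-c₀),
      uT_mem hf (by rw [fr.φ.iso', huu]) (neg_mem hc₀)⟩, mul_mem hg₀ (hU u huu _ (neg_mem hc₀) _ rfl), c₀, ?_, ?_⟩
    · rw [hfm.smul_left, smul_right' hfm, huu]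
      simpa using mem_skew.1 hc₀
    · rw [Subgroup.coe_mul, hg₀v, uT_mul_eq_eu hs (by rw [fr.φ.iso', huu]) hPP (hφP u) hc₀, map_smul]
  obtain ⟨c₁, hc₁0, hc₁⟩ := exists_skew hs.ne_refl hs.inv
  obtain ⟨k, rfl⟩ : ∃ k, m = k + 1 + 2 := ⟨m - 3, by omega⟩
  obtain ⟨s, hsW, hs0, hss⟩ : ∃ s ∈ W, s ≠ 0 ∧ Cfsg.hermForm (k + 1 + 2) F q s s = 0 := by
    obtain ⟨u₁, hu₁, hne⟩ := exists_singular_test hs (by omega : 2 ≤ k + 1 + 2) (smul_ne_zero hc₀0 hu0)
    refine ⟨_, hWinv hw₀ hu₁ c₁ hc₁, smul_ne_zero (mul_ne_zero hc₁0 hne) fun h => hne ?_, ?_⟩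
    · rw [h, zero_right' hfm]
    · rw [hfm.smul_left, smul_right' hfm, hu₁, mul_zero, mul_zero]
  -- every singular vector with product one with `s` spans a line inside `W`
  have hline : ∀ v, Cfsg.hermForm (k + 1 + 2) F q v v = 0 → Cfsg.hermForm (k + 1 + 2) F q s v = 1 →
      ∀ f : F, f • v ∈ W := by
    intro v hv hsv f
    obtain ⟨f', hfx, hfy⟩ := exists_fr hs (m := k + 1) hss hv hsv
    obtain ⟨e, he⟩ : ∃ e, e = f'.φ.toLin (Pi.single 0 1) := ⟨_, rfl⟩
    have hee : Cfsg.hermForm (k + 1 + 2) F q e e = 1 := by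
      rw [he, f'.φ.iso', hermForm_basis hs.frob, if_pos rfl]
    have hes : Cfsg.hermForm (k + 1 + 2) F q e s = 0 := by rw [he, ← hfx]; exact f'.φx _
    have hev : Cfsg.hermForm (k + 1 + 2) F q e v = 0 := by rw [he, ← hfy]; exact f'.φy _
    have hse := (eq_zero_comm hfm).mp hes
    have hve := (eq_zero_comm hfm).mp hev
    have hvs : Cfsg.hermForm (k + 1 + 2) F q v s = 1 := by rw [hfm.herm, hsv, map_one]
    obtain ⟨α, hα⟩ := exists_trace_eq hs.ne_refl hs.inv (b := (-1 : F)) (by rw [map_neg, map_one])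
    have hy : ∀ c ∈ skew σ, c • (α • s + v + e) ∈ W := fun c hc => by
      have h := hWinv hsW (u₁ := α • s + v + e) (by
        simp only [hfm.add_left, add_right' hfm, hfm.smul_left, smul_right' hfm, hss, hv, hsv, hvs, hes, hev, hse, hve,
          hee, mul_zero, add_zero, zero_add, mul_one]
        linear_combination hα) c hc
      rwa [add_right' hfm, add_right' hfm, smul_right' hfm, hss, hsv, hse, mul_zero, zero_add, add_zero,
        mul_one] at h
    have hv1 : ∀ c ∈ skew σ, c • v ∈ W := fun c hc => by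
      have h := hWinv hsW hv c hc
      rwa [hsv, mul_one] at h
    obtain ⟨r, hr⟩ : ∃ r, r = -(f + σ f) := ⟨_, rfl⟩
    have hrfix : σ r = r := by rw [hr, map_neg, map_add, hs.inv, add_comm]
    have hrc : r / c₁ ∈ skew σ := by
      rw [mem_skew, map_div₀, hrfix, show σ c₁ = -c₁ by linear_combination hc₁, div_neg, add_neg_cancel]
    have h1 := hWinv (hy _ hrc) hv c₁ hc₁
    rw [hfm.smul_left, hfm.add_left, hfm.add_left, hfm.smul_left, hsv, hv, hev, add_zero, add_zero, mul_one,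
      ← mul_assoc, mul_div_cancel₀ _ hc₁0] at h1
    have h2 := hv1 (f - r * α) (mem_skew.2 (by
      rw [map_sub, map_mul, hrfix]
      linear_combination (-r) * hα + hr))
    have := add_mem h1 h2
    rwa [← add_smul, add_sub_cancel] at this
  -- so `W` is everything
  have hWtop : ∀ w, w ∈ W := by
    obtain ⟨v, hv, hvs⟩ := exists_iso_partner hfm hss hs0
    have hsv : Cfsg.hermForm (k + 1 + 2) F q s v = 1 := by rw [hfm.herm, hvs, map_one]
    have hsline : ∀ f : F, f • s ∈ W := fun f => by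
      have h := hWinv (hline v hv hsv (f / c₁)) hss c₁ hc₁
      rwa [hfm.smul_left, hvs, mul_one, mul_div_cancel₀ _ hc₁0] at h
    obtain ⟨f', hfx, hfy⟩ := exists_fr hs (m := k + 1) hss hv hsv
    intro w
    obtain ⟨β, hβ⟩ : ∃ β, β = f'.φ.proj w := ⟨_, rfl⟩
    obtain ⟨α, hα⟩ := exists_trace_eq hs.ne_refl hs.inv (b := -Cfsg.hermForm (k + 1) F q β β)
      (by rw [map_neg, self_fixed (hs.form (k + 1))])
    have hsx : Cfsg.hermForm (k + 1 + 2) F q s (f'.φ.toLin β) = 0 := by rw [← hfx]; exact f'.xφ hs _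
    have hvx : Cfsg.hermForm (k + 1 + 2) F q v (f'.φ.toLin β) = 0 := by rw [← hfy]; exact f'.yφ hs _
    have hφ : f'.φ.toLin β ∈ W := by
      have h := hline (α • s + v + f'.φ.toLin β) (by
        simp only [hfm.add_left, add_right' hfm, hfm.smul_left, smul_right' hfm, hss, hv, hsv, hvs, hsx, hvx,
          (eq_zero_comm hfm).mp hsx, (eq_zero_comm hfm).mp hvx, f'.φ.iso', mul_zero, add_zero, zero_add, mul_one]
        linear_combination hα) (by
        rw [add_right' hfm, add_right' hfm, smul_right' hfm, hss, hsv, hsx, mul_zero, zero_add, add_zero]) 1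
      rw [one_smul] at h
      have := sub_mem (sub_mem h (hsline α)) (by simpa using hline v hv hsv 1)
      convert this using 1
      abel
    have hd := f'.decomp w
    rw [hfx, hfy, ← hβ] at hd
    rw [← hd]
    exact add_mem (add_mem (hsline _) (hline v hv hsv _)) hφ
  -- the whole radical at `P`
  have hPfull : FullAt σ q H P := by
    intro c hc g hg
    obtain ⟨w', hw'⟩ := exists_imB_eq hs hu0 hc
    obtain ⟨h₁, hh₁, b, hb, e₁⟩ := hWtop u
    obtain ⟨h₂, hh₂, b', hb', e₂⟩ := hWtop w'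
    have e : g = ⁅h₁, h₂⁆ := Subtype.ext (by
      show g.1 = ⁅h₁.1, h₂.1⁆
      rw [e₁, e₂, eu_commutator hf hPP (hφP _) (hφP _), fr.φ.iso', fr.φ.iso', hg]
      exact congrArg _ hw'.symm)
    rw [e, commutatorElement_def]
    exact mul_mem (mul_mem (mul_mem hh₁ hh₂) (inv_mem hh₁)) (inv_mem hh₂)
  have heu : ∀ w b, b + σ b + Cfsg.hermForm (k + 1 + 2) F q w w = 0 →
      ∃ g ∈ H, g.1 = eu (Cfsg.hermForm (k + 1 + 2 + 2) F q) P (fr.φ.toLin w) b := by
    intro w b hb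
    obtain ⟨g, hg, b', hb', e⟩ := hWtop w
    have hc : b - b' ∈ skew σ := by rw [mem_skew, map_sub]; linear_combination hb - hb'
    refine ⟨g * ⟨uT (Cfsg.hermForm (k + 1 + 2 + 2) F q) P (b - b'), uT_mem hf hPP hc⟩,
      mul_mem hg (hPfull _ hc _ rfl), ?_⟩
    show g.1 * uT (Cfsg.hermForm (k + 1 + 2 + 2) F q) P (b - b') = _
    rw [e, ← eu_zero hf hPP, eu_mul hf hPP (hφP _) (zero_left' hf P), zero_left' hf, add_zero,
      sub_zero, add_sub_cancel]
  -- the plane complementary to the middle space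
  obtain ⟨Y, hY, hYP⟩ : ∃ Y, Cfsg.hermForm (k + 1 + 2 + 2) F q Y Y = 0 ∧
      Cfsg.hermForm (k + 1 + 2 + 2) F q Y P = 1 := exists_iso_partner hf hPP hP0
  have hPperp : ∀ z, Cfsg.hermForm (k + 1 + 2 + 2) F q z P = 0 →
      ∃ μ : F, z = μ • P + fr.φ.toLin (fr.φ.proj z) := by
    intro z hzP
    obtain ⟨r, hr⟩ : ∃ r, r = z - fr.φ.toLin (fr.φ.proj z) := ⟨_, rfl⟩
    have hrP : Cfsg.hermForm (k + 1 + 2 + 2) F q r P = 0 := by rw [hr, sub_left' hf, hzP, hφP, sub_zero]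
    have hrφ : fr.φ.proj r = 0 := hr ▸ fr.φ.proj_sub hs z
    obtain ⟨μ, hμ⟩ : ∃ μ, μ = Cfsg.hermForm (k + 1 + 2 + 2) F q r Y := ⟨_, rfl⟩
    refine ⟨μ, ?_⟩
    have hkey : r - μ • P = 0 := by
      by_contra hne
      obtain ⟨y, hy⟩ := (hf.nondegenerate _ hne).2
      refine hy ?_
      have hy' : y = (Cfsg.hermForm (k + 1 + 2 + 2) F q y P) • (Y - fr.φ.toLin (fr.φ.proj Y)) +
          (y - (Cfsg.hermForm (k + 1 + 2 + 2) F q y P) • (Y - fr.φ.toLin (fr.φ.proj Y))) := by abel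
      obtain ⟨y₁, hy₁⟩ : ∃ y₁, y₁ = y - (Cfsg.hermForm (k + 1 + 2 + 2) F q y P) • (Y - fr.φ.toLin (fr.φ.proj Y)) :=
        ⟨_, rfl⟩
      have hy₁P : Cfsg.hermForm (k + 1 + 2 + 2) F q y₁ P = 0 := by
        rw [hy₁, sub_left' hf, hf.smul_left, sub_left' hf, hYP, hφP, sub_zero, mul_one, sub_self]
      -- `r` and `y₁` have their parts outside the middle space on the line of `P`
      have hflat : ∀ z, Cfsg.hermForm (k + 1 + 2 + 2) F q z P = 0 → fr.φ.proj z = 0 →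
          Cfsg.hermForm (k + 1 + 2 + 2) F q z z = 0 ∧ ∀ z', Cfsg.hermForm (k + 1 + 2 + 2) F q z' P = 0 →
            Cfsg.hermForm (k + 1 + 2 + 2) F q z z' = 0 := by
        intro z hz1 hz2
        have hdz := fr.decomp z
        have hdP := fr.decomp P
        rw [hz2, map_zero, add_zero] at hdz
        rw [hPφ, map_zero, add_zero] at hdP
        obtain ⟨a₁, ha₁⟩ : ∃ a, a = Cfsg.hermForm (k + 1 + 2 + 2) F q P fr.y := ⟨_, rfl⟩
        obtain ⟨a₂, ha₂⟩ : ∃ a, a = Cfsg.hermForm (k + 1 + 2 + 2) F q P fr.x := ⟨_, rfl⟩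
        obtain ⟨b₁, hb₁⟩ : ∃ a, a = Cfsg.hermForm (k + 1 + 2 + 2) F q z fr.y := ⟨_, rfl⟩
        obtain ⟨b₂, hb₂⟩ : ∃ a, a = Cfsg.hermForm (k + 1 + 2 + 2) F q z fr.x := ⟨_, rfl⟩
        have e1 : b₁ * σ a₂ + b₂ * σ a₁ = 0 := by
          have h := fr.form_decomp hs z P
          rw [hz1, hz2, zero_left' hfm, add_zero, ← ha₁, ← ha₂, ← hb₁, ← hb₂] at h
          exact h.symm
        have e2 : a₁ * σ a₂ + a₂ * σ a₁ = 0 := by
          have h := fr.form_decomp hs P P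
          rw [hPP, hPφ, zero_left' hfm, add_zero, ← ha₁, ← ha₂] at h
          exact h.symm
        obtain ⟨t, ht⟩ : ∃ t : F, z = t • P := by
          by_cases hA : a₁ = 0
          · have hA2 : a₂ ≠ 0 := fun h => hP0 (by rw [← hdP, ← ha₁, ← ha₂, hA, h, zero_smul, zero_smul, add_zero])
            refine ⟨b₂ / a₂, ?_⟩
            rw [hA, map_zero, mul_zero, add_zero, mul_eq_zero,
              or_iff_left ((map_ne_zero_iff _ σ.injective).2 hA2)] at e1
            rw [← hdz, ← hdP, ← hb₁, ← hb₂, ← ha₁, ← ha₂, hA, e1]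
            simp [smul_smul, div_mul_cancel₀ _ hA2]
          · refine ⟨b₁ / a₁, ?_⟩
            have hσ : σ a₁ ≠ 0 := (map_ne_zero_iff _ σ.injective).2 hA
            have : b₂ = b₁ / a₁ * a₂ := by
              field_simp
              refine mul_right_cancel₀ hσ ?_
              linear_combination a₁ * e1 - b₁ * e2
            rw [← hdz, ← hdP, ← hb₁, ← hb₂, ← ha₁, ← ha₂, smul_add, smul_smul, smul_smul, div_mul_cancel₀ _ hA,
              ← this]
        refine ⟨by rw [ht, hf.smul_left, smul_right' hf, hPP, mul_zero, mul_zero], fun z' hz' => ?_⟩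
        rw [ht, hf.smul_left, (eq_zero_comm hf).mp hz', mul_zero]
      have hr1 : Cfsg.hermForm (k + 1 + 2 + 2) F q (r - μ • P) y₁ = 0 := by
        rw [sub_left' hf, hf.smul_left, (hflat r hrP hrφ).2 y₁ hy₁P, (eq_zero_comm hf).mp hy₁P, mul_zero, sub_zero]
      have hr2 : Cfsg.hermForm (k + 1 + 2 + 2) F q (r - μ • P) (Y - fr.φ.toLin (fr.φ.proj Y)) = 0 := by
        rw [sub_right' hf, fr.φ.form_toLin hs, fr.φ.proj_add hs (n := k + 1 + 2 + 2) |> fun _ => show fr.φ.proj (r - μ • P) = 0 by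
          rw [sub_eq_add_neg, ← neg_smul, fr.φ.proj_add hs, fr.φ.proj_smul hs, hrφ, hPφ, smul_zero, add_zero],
          zero_left' hfm, sub_zero, sub_left' hf, hf.smul_left, ← hμ,
          show Cfsg.hermForm (k + 1 + 2 + 2) F q P Y = 1 by rw [hf.herm, hYP, map_one], mul_one, sub_self]
      rw [hy', ← hy₁, add_right' hf, smul_right' hf, hr2, hr1, mul_zero, add_zero]
    rw [← sub_eq_zero.1 hkey, hr, sub_add_cancel]
  have hperpfull : ∀ z, Cfsg.hermForm (k + 1 + 2 + 2) F q z z = 0 → Cfsg.hermForm (k + 1 + 2 + 2) F q z P = 0 →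
      FullAt σ q H z := by
    intro z hzz hzP c hc g hg
    obtain ⟨μ, hz⟩ := hPperp z hzP
    obtain ⟨V, hV⟩ : ∃ V, V = fr.φ.toLin (fr.φ.proj z) := ⟨_, rfl⟩
    rw [← hV] at hz
    have hVP : Cfsg.hermForm (k + 1 + 2 + 2) F q V (μ • P) = 0 := by rw [smul_right' hf, hV, hφP, mul_zero]
    have hVV : Cfsg.hermForm (k + 1 + 2 + 2) F q V V = 0 := by
      have h := hzz
      rw [hz, hf.add_left, add_right' hf, add_right' hf, (eq_zero_comm hf).mp hVP, hVP, hf.smul_left, smul_right' hf,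
        hPP, mul_zero, mul_zero, zero_add, zero_add, zero_add] at h
      exact h
    have hVu : Cfsg.hermForm (k + 1 + 2) F q (fr.φ.proj z) (fr.φ.proj z) = 0 := by rw [← fr.φ.iso', ← hV, hVV]
    have hμPP : Cfsg.hermForm (k + 1 + 2 + 2) F q (μ • P) (μ • P) = 0 := by
      rw [hf.smul_left, smul_right' hf, hPP, mul_zero, mul_zero]
    have e := uT_mul_eq_eu hs hVV hμPP hVP hc
    rw [eu_smul_left hf hPP (by rw [hf.smul_left, hV, hφP, mul_zero]), hV, ← map_smul, ← map_smul, ← hV] at e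
    obtain ⟨h₁, hh₁, he₁⟩ := heu (σ μ • c • fr.φ.proj z) (μ * σ μ * c) (by
      rw [hfm.smul_left, smul_right' hfm, hfm.smul_left, smul_right' hfm, hVu, map_mul, map_mul, hs.inv]
      linear_combination (μ * σ μ) * mem_skew.1 hc)
    obtain ⟨h₂, hh₂⟩ : ∃ h₂ : transvGroup σ (Cfsg.hermForm (k + 1 + 2 + 2) F q),
        h₂.1 = uT (Cfsg.hermForm (k + 1 + 2 + 2) F q) V (-c) := ⟨⟨_, uT_mem hf hVV (neg_mem hc)⟩, rfl⟩
    have hh₂H : h₂ ∈ H := hU _ hVu (-c) (neg_mem hc) h₂ (hV ▸ hh₂)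
    have : g * h₂ = h₁ := Subtype.ext (by
      rw [Subgroup.coe_mul, hg, hh₂, he₁]
      conv_lhs => rw [hz.trans (add_comm _ _)]
      exact e)
    rw [eq_mul_inv_of_mul_eq this]
    exact mul_mem hh₁ (inv_mem hh₂H)
  -- a full vector off the hyperplane of `P`
  obtain ⟨h, hh, hhP⟩ := exists_moving hs hn hlt hP0 fun hne => absurd hPP hne
  obtain ⟨P', hP'⟩ : ∃ P', P' = (h.1 : Matrix (Fin (k + 1 + 2 + 2)) (Fin (k + 1 + 2 + 2)) F) *ᵥ P := ⟨_, rfl⟩
  have hP'P' : Cfsg.hermForm (k + 1 + 2 + 2) F q P' P' = 0 := by rw [hP', transvGroup_iso hf h, hPP]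
  have hP'full : ∀ z, Cfsg.hermForm (k + 1 + 2 + 2) F q z z = 0 → Cfsg.hermForm (k + 1 + 2 + 2) F q z P' = 0 →
      FullAt σ q H z := by
    intro z hzz hzP'
    obtain ⟨z₀, hz₀⟩ : ∃ z₀, z₀ = ((h⁻¹).1 : Matrix (Fin (k + 1 + 2 + 2)) (Fin (k + 1 + 2 + 2)) F) *ᵥ z := ⟨_, rfl⟩
    have hz : z = (h.1 : Matrix (Fin (k + 1 + 2 + 2)) (Fin (k + 1 + 2 + 2)) F) *ᵥ z₀ := by
      rw [hz₀, Subgroup.coe_inv, mulVec_inv_cancel]
    rw [hz, transvGroup_iso hf h] at hzz
    rw [hz, hP', transvGroup_iso hf h] at hzP'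
    exact hz ▸ full_conj hs hzz (hperpfull _ hzz hzP') hh
  obtain ⟨r, hrr, hrP, hrfull⟩ : ∃ r, Cfsg.hermForm (k + 1 + 2 + 2) F q r r = 0 ∧
      Cfsg.hermForm (k + 1 + 2 + 2) F q r P ≠ 0 ∧ FullAt σ q H r := by
    by_cases hPP' : Cfsg.hermForm (k + 1 + 2 + 2) F q P' P = 0
    swap
    · exact ⟨P', hP'P', hPP', hP'full P' hP'P' hP'P'⟩
    obtain ⟨μ, hμ⟩ := hPperp P' hPP'
    obtain ⟨u₁, hu₁⟩ : ∃ u₁, u₁ = fr.φ.proj P' := ⟨_, rfl⟩
    rw [← hu₁] at hμ
    have hu₁0 : u₁ ≠ 0 := fun e => hhP (by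
      rw [← hP', hμ, e, map_zero, add_zero]
      exact Submodule.smul_mem _ _ (Submodule.mem_span_singleton_self P))
    obtain ⟨Y₀, hY₀⟩ : ∃ Y₀, Y₀ = Y - fr.φ.toLin (fr.φ.proj Y) := ⟨_, rfl⟩
    have hY₀P : Cfsg.hermForm (k + 1 + 2 + 2) F q Y₀ P = 1 := by rw [hY₀, sub_left' hf, hYP, hφP, sub_zero]
    have hPY₀ : Cfsg.hermForm (k + 1 + 2 + 2) F q P Y₀ = 1 := by rw [hf.herm, hY₀P, map_one]
    have hY₀φ : ∀ w, Cfsg.hermForm (k + 1 + 2 + 2) F q Y₀ (fr.φ.toLin w) = 0 := fun w => by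
      rw [fr.φ.form_toLin hs, hY₀, fr.φ.proj_sub hs, zero_left' hfm]
    obtain ⟨w, hw⟩ := exists_form_eq hs hu₁0 (-μ)
    obtain ⟨t, ht⟩ := exists_trace_eq hs.ne_refl hs.inv
      (b := -(Cfsg.hermForm (k + 1 + 2 + 2) F q Y₀ Y₀ + Cfsg.hermForm (k + 1 + 2) F q w w))
      (by rw [map_neg, map_add, self_fixed hf, self_fixed hfm])
    refine ⟨Y₀ + fr.φ.toLin w + t • P, ?_, ?_, hP'full _ ?_ ?_⟩
    · simp only [hf.add_left, add_right' hf, hf.smul_left, smul_right' hf, hPY₀, hY₀P, hPP, hφP,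
        (eq_zero_comm hf).mp (hφP _), hY₀φ, (eq_zero_comm hf).mp (hY₀φ _), fr.φ.iso']
      linear_combination ht
    · simp only [hf.add_left, hf.smul_left, hY₀P, hφP, hPP, mul_zero, add_zero]
      exact one_ne_zero
    · simp only [hf.add_left, add_right' hf, hf.smul_left, smul_right' hf, hPY₀, hY₀P, hPP, hφP,
        (eq_zero_comm hf).mp (hφP _), hY₀φ, (eq_zero_comm hf).mp (hY₀φ _), fr.φ.iso']
      linear_combination ht
    · simp only [hμ, hf.add_left, add_right' hf, hf.smul_left, smul_right' hf, hPP, hY₀P, hφP, hY₀φ,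
        (eq_zero_comm hf).mp (hφP _), fr.φ.iso', hfm.herm w u₁, hw, map_neg]
      ring
  refine eq_top_of_full hs fun z hzz => ?_
  by_cases hzP : Cfsg.hermForm (k + 1 + 2 + 2) F q z P = 0
  · exact hperpfull z hzz hzP
  obtain ⟨t, ht⟩ : ∃ t, t = Cfsg.hermForm (k + 1 + 2 + 2) F q r P := ⟨_, rfl⟩
  obtain ⟨l, hl⟩ : ∃ l, l = t / Cfsg.hermForm (k + 1 + 2 + 2) F q z P := ⟨_, rfl⟩
  have hl0 : l ≠ 0 := hl ▸ div_ne_zero (ht ▸ hrP) hzP
  obtain ⟨z', hz'⟩ : ∃ z', z' = l • z := ⟨_, rfl⟩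
  have hz'z' : Cfsg.hermForm (k + 1 + 2 + 2) F q z' z' = 0 := by
    rw [hz', hf.smul_left, smul_right' hf, hzz, mul_zero, mul_zero]
  have hz'P : Cfsg.hermForm (k + 1 + 2 + 2) F q z' P = t := by
    rw [hz', hf.smul_left, hl, div_mul_cancel₀ _ hzP]
  suffices hfull : FullAt σ q H z' by
    have := full_smul hs hz'z' hfull l⁻¹
    rwa [hz', inv_smul_smul₀ hl0] at this
  obtain ⟨d, hd⟩ : ∃ d, d = t⁻¹ • (z' - r) := ⟨_, rfl⟩
  have hdP : Cfsg.hermForm (k + 1 + 2 + 2) F q d P = 0 := by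
    rw [hd, hf.smul_left, sub_left' hf, hz'P, ← ht, sub_self, mul_zero]
  obtain ⟨μ, hμ⟩ := hPperp d hdP
  obtain ⟨w, hw⟩ : ∃ w, w = fr.φ.proj d := ⟨_, rfl⟩
  rw [← hw] at hμ
  obtain ⟨b, hb⟩ : ∃ b, b = μ + Cfsg.hermForm (k + 1 + 2 + 2) F q r (fr.φ.toLin w) / t := ⟨_, rfl⟩
  have hz'eq : z' = r + t • fr.φ.toLin w + (b * t - Cfsg.hermForm (k + 1 + 2 + 2) F q r (fr.φ.toLin w)) • P := by
    have e : z' = r + t • d := by rw [hd, smul_inv_smul₀ (ht ▸ hrP), add_sub_cancel]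
    rw [e, hμ, hb, add_mul, div_mul_cancel₀ _ (ht ▸ hrP), add_sub_cancel_right, smul_add, smul_smul, mul_comm t μ]
    abel
  have hbw : b + σ b + Cfsg.hermForm (k + 1 + 2) F q w w = 0 := by
    have h := hz'z'
    rw [hz'eq] at h
    simp only [hf.add_left, add_right' hf, hf.smul_left, smul_right' hf, hrr, hPP, hφP, (eq_zero_comm hf).mp (hφP _),
      fr.φ.iso', ← ht, hf.herm P r, hf.herm (fr.φ.toLin w) r, mul_zero, add_zero, zero_add, map_sub, map_mul] at h
    refine (mul_eq_zero.1 (?_ : t * σ t * _ = 0)).resolve_left (mul_ne_zero (ht ▸ hrP)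
      ((map_ne_zero_iff _ σ.injective).2 (ht ▸ hrP)))
    linear_combination h
  obtain ⟨g, hg, he⟩ := heu w b hbw
  have e : (g.1 : Matrix (Fin (k + 1 + 2 + 2)) (Fin (k + 1 + 2 + 2)) F) *ᵥ r = z' := by
    rw [he, eu_mulVec hf hPP (hφP _), hz'eq, ← ht]
  rw [← e]
  exact full_conj hs hrr hrfull hg

/-- A mixed centre with anisotropic middle part forces the whole group. -/
theorem full_nonsingular (hm3 : 3 ≤ m) (hlt : H.index * (q ^ 2 - 1) < sCount F q (m + 2))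
    (hcount : H.index * (q ^ 2 - 1) + sCount F q (m + 2) + 1 < q ^ (2 * (m + 2)))
    (hU : ∀ u, Cfsg.hermForm m F q u u = 0 → FullAt σ q H (fr.φ.toLin u))
    (htrans : ∀ u u' : Fin m → F, Cfsg.hermForm m F q u u ≠ 0 →
      Cfsg.hermForm m F q u' u' = Cfsg.hermForm m F q u u →
      ∃ (j : transvGroup σ (Cfsg.hermForm (m + 2) F q)) (γ : GL (Fin m) F),
        fr.Mov (σ := σ) j.1 1 γ ∧ (γ : Matrix (Fin m) (Fin m) F) *ᵥ u = u' ∧ j ∈ H)
    {u : Fin m → F} (huu : Cfsg.hermForm m F q u u ≠ 0) {P : Fin (m + 2) → F}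
    (hPP : Cfsg.hermForm (m + 2) F q P P = -Cfsg.hermForm m F q u u) (hPφ : fr.φ.proj P = 0) {c₀ : F}
    (hc₀0 : c₀ ≠ 0) {g₀ : transvGroup σ (Cfsg.hermForm (m + 2) F q)} (hg₀ : g₀ ∈ H)
    (hg₀v : g₀.1 = uT (Cfsg.hermForm (m + 2) F q) (fr.φ.toLin u + P) c₀) : H = ⊤ := by
  classical
  have hf := hs.form (m + 2)
  have hfm := hs.form m
  have hn : 4 ≤ m + 2 := by omega
  have hPP0 : Cfsg.hermForm (m + 2) F q P P ≠ 0 := by rwa [hPP, neg_ne_zero]
  have hφP : ∀ w, Cfsg.hermForm (m + 2) F q (fr.φ.toLin w) P = 0 := fun w => by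
    rw [hf.herm, fr.φ.form_toLin hs, hPφ, zero_left' hfm, map_zero]
  have hmixed : ∀ w l, Cfsg.hermForm (m + 2) F q (fr.φ.toLin w + l • P) (fr.φ.toLin w + l • P) =
      Cfsg.hermForm m F q w w + l * σ l * Cfsg.hermForm (m + 2) F q P P := fun w l => by
    simp only [hf.add_left, add_right' hf, hf.smul_left, smul_right' hf, hφP, (eq_zero_comm hf).mp (hφP w),
      fr.φ.iso']
    ring
  have hv : Cfsg.hermForm (m + 2) F q (fr.φ.toLin u + P) (fr.φ.toLin u + P) = 0 := by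
    have h := hmixed u 1
    rw [one_smul, map_one, one_mul, one_mul, hPP, add_neg_cancel] at h
    exact h
  -- a full vector with both parts anisotropic
  obtain ⟨u₀, hu₀, hu₀u⟩ := exists_singular_test hs (by omega : 2 ≤ m) (r := u)
    (fun h => huu (by rw [h, zero_left' hfm]))
  obtain ⟨κ, hκ⟩ : ∃ κ, κ = c₀ * Cfsg.hermForm m F q u₀ u := ⟨_, rfl⟩
  have hκ0 : κ ≠ 0 := hκ ▸ mul_ne_zero hc₀0 fun h => hu₀u ((eq_zero_comm hfm).mp h)
  obtain ⟨u₁, hu₁⟩ : ∃ u₁, u₁ = u₀ + κ • u := ⟨_, rfl⟩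
  have hφu₀ : Cfsg.hermForm (m + 2) F q (fr.φ.toLin u₀) (fr.φ.toLin u₀) = 0 := by rw [fr.φ.iso', hu₀]
  have hg₀u₀ : (g₀.1 : Matrix (Fin (m + 2)) (Fin (m + 2)) F) *ᵥ fr.φ.toLin u₀ = fr.φ.toLin u₁ + κ • P := by
    rw [hg₀v, uT_mulVec hf hv, add_right' hf, fr.φ.iso', hφP, add_zero, ← hκ, hu₁, map_add, map_smul]
    module
  have hu₁full : FullAt σ q H (fr.φ.toLin u₁ + κ • P) := hg₀u₀ ▸ full_conj hs hφu₀ (hU u₀ hu₀) hg₀
  have hu₁u₁ : Cfsg.hermForm m F q u₁ u₁ + κ * σ κ * Cfsg.hermForm (m + 2) F q P P = 0 := by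
    rw [← hmixed, ← hg₀u₀, transvGroup_iso hf g₀, hφu₀]
  have hu₁0 : Cfsg.hermForm m F q u₁ u₁ ≠ 0 := fun h => by
    rw [h, zero_add] at hu₁u₁
    exact mul_ne_zero (mul_ne_zero hκ0 ((map_ne_zero_iff _ σ.injective).2 hκ0)) hPP0 hu₁u₁
  -- the orthogonal of `P` in the plane
  obtain ⟨α, hα⟩ : ∃ α, α = Cfsg.hermForm (m + 2) F q P fr.y := ⟨_, rfl⟩
  obtain ⟨β, hβ⟩ : ∃ β, β = Cfsg.hermForm (m + 2) F q P fr.x := ⟨_, rfl⟩
  have hP : α • fr.x + β • fr.y = P := by
    have h := fr.decomp P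
    rwa [hPφ, map_zero, add_zero, ← hα, ← hβ] at h
  have hnorm : α * σ β + β * σ α = Cfsg.hermForm (m + 2) F q P P := by
    rw [fr.form_decomp hs P P, hPφ, zero_left' hfm, add_zero, hα, hβ]
  obtain ⟨R, hR⟩ : ∃ R, R = σ α • fr.x + (-σ β) • fr.y := ⟨_, rfl⟩
  have hRR : Cfsg.hermForm (m + 2) F q R R ≠ 0 := by
    have e : Cfsg.hermForm (m + 2) F q R R = -(α * σ β + β * σ α) := by
      rw [hR]
      simp only [hf.add_left, add_right' hf, hf.smul_left, smul_right' hf, fr.hxx, fr.hyy, fr.hxy, fr.hyx hs, map_neg,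
        hs.inv]
      ring
    rwa [e, hnorm, neg_ne_zero]
  have hR0 : R ≠ 0 := fun h => hRR (by rw [h, zero_left' hf])
  have hperp : ∀ z, Cfsg.hermForm (m + 2) F q z z = 0 → Cfsg.hermForm (m + 2) F q z R = 0 → FullAt σ q H z := by
    intro z hzz hzR
    obtain ⟨l, hl⟩ : ∃ l, l = Cfsg.hermForm (m + 2) F q z P / Cfsg.hermForm (m + 2) F q P P := ⟨_, rfl⟩
    obtain ⟨w, hw⟩ : ∃ w, w = fr.φ.proj z := ⟨_, rfl⟩
    have hz : fr.φ.toLin w + l • P = z := by
      obtain ⟨r, hr⟩ : ∃ r, r = (z - fr.φ.toLin w) + (-l) • P := ⟨_, rfl⟩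
      have hrφ : fr.φ.proj r = 0 := by
        rw [hr, fr.φ.proj_add hs, fr.φ.proj_smul hs, hPφ, hw, fr.φ.proj_sub hs, smul_zero, add_zero]
      have hrP : Cfsg.hermForm (m + 2) F q r P = 0 := by
        rw [hr, hf.add_left, sub_left' hf, hφP, hf.smul_left, hl]
        field_simp
        ring
      have hrR : Cfsg.hermForm (m + 2) F q r R = 0 := by
        rw [hr, hf.add_left, sub_left' hf, hzR, hf.smul_left, ← hP, hR]
        simp only [hf.add_left, add_right' hf, hf.smul_left, smul_right' hf, fr.hxx, fr.hyy, fr.hxy, fr.hyx hs,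
          fr.φx, fr.φy, map_neg, hs.inv]
        ring
      rw [← hP, add_right' hf, smul_right' hf, smul_right' hf] at hrP
      rw [hR, add_right' hf, smul_right' hf, smul_right' hf, map_neg, hs.inv, hs.inv] at hrR
      have hx : Cfsg.hermForm (m + 2) F q r fr.x * (α * σ β + β * σ α) = 0 := by
        linear_combination β * hrP + σ β * hrR
      have hy : Cfsg.hermForm (m + 2) F q r fr.y * (α * σ β + β * σ α) = 0 := by
        linear_combination α * hrP - σ α * hrR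
      rw [hnorm, mul_eq_zero, or_iff_left hPP0] at hx hy
      have h := fr.decomp r
      rw [hx, hy, hrφ, map_zero, zero_smul, zero_smul, add_zero, add_zero, hr] at h
      linear_combination (norm := module) h
    have hwl := hmixed w l
    rw [hz, hzz] at hwl
    by_cases hl0 : l = 0
    · rw [hl0, zero_smul, add_zero] at hz
      rw [hl0, zero_mul, zero_mul, add_zero] at hwl
      exact hz ▸ hU w hwl.symm
    · have hσl : σ l ≠ 0 := (map_ne_zero_iff _ σ.injective).2 hl0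
      obtain ⟨j, γ, hj, hγ, hjH⟩ := htrans u₁ ((κ / l) • w) hu₁0 (by
        rw [hfm.smul_left, smul_right' hfm, map_div₀]
        field_simp
        linear_combination (-(κ * σ κ)) * hwl - (l * σ l) * hu₁u₁)
      have hjP : (j.1 : Matrix (Fin (m + 2)) (Fin (m + 2)) F) *ᵥ P = P := by
        rw [← hP, mulVec_add, mulVec_smul, mulVec_smul, hj.hx, hj.hy, map_one, inv_one, one_smul, one_smul]
      have hjv : (j.1 : Matrix (Fin (m + 2)) (Fin (m + 2)) F) *ᵥ (fr.φ.toLin u₁ + κ • P) = (κ / l) • z := by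
        rw [mulVec_add, mulVec_smul, hj.hφ, hγ, hjP, ← hz, map_smul, smul_add, smul_smul, div_mul_cancel₀ _ hl0]
      have hfull := full_conj hs (by rw [← hg₀u₀, transvGroup_iso hf g₀, hφu₀]) hu₁full hjH
      rw [hjv] at hfull
      have := full_smul hs (by rw [hf.smul_left, smul_right' hf, hzz, mul_zero, mul_zero]) hfull (l / κ)
      rwa [smul_smul, show l / κ * (κ / l) = 1 by field_simp, one_smul] at this
  -- a full vector off that hyperplane
  obtain ⟨h, hh, hhR⟩ := exists_moving hs hn hlt hR0 fun _ => hcount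
  obtain ⟨R', hR'⟩ : ∃ R', R' = (h.1 : Matrix (Fin (m + 2)) (Fin (m + 2)) F) *ᵥ R := ⟨_, rfl⟩
  have hR'R' : Cfsg.hermForm (m + 2) F q R' R' ≠ 0 := by rwa [hR', transvGroup_iso hf h]
  obtain ⟨a, ha⟩ : ∃ a, a = Cfsg.hermForm (m + 2) F q R R' / Cfsg.hermForm (m + 2) F q R' R' := ⟨_, rfl⟩
  obtain ⟨z₁, hz₁, hz₁R', hz₁r⟩ := exists_singular_test_perp hs (by omega : 3 ≤ m + 2) hR'R'
    (r := R + (-a) • R') (fun e => hhR (by
      rw [← hR']
      by_cases ha0 : a = 0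
      · rw [ha0, neg_zero, zero_smul, add_zero] at e
        exact absurd e hR0
      · refine Submodule.mem_span_singleton.2 ⟨a⁻¹, ?_⟩
        rw [eq_neg_of_add_eq_zero_left e, neg_smul, neg_neg, inv_smul_smul₀ ha0]))
    (by rw [hf.add_left, hf.smul_left, ha]; field_simp; ring)
  rw [hf.add_left, hf.smul_left, (eq_zero_comm hf).mp hz₁R', mul_zero, add_zero] at hz₁r
  have hz₁R : Cfsg.hermForm (m + 2) F q z₁ R = 1 := by rw [hf.herm, hz₁r, map_one]
  have hz₁full : FullAt σ q H z₁ := by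
    obtain ⟨z₀, hz₀⟩ : ∃ z₀, z₀ = ((h⁻¹).1 : Matrix (Fin (m + 2)) (Fin (m + 2)) F) *ᵥ z₁ := ⟨_, rfl⟩
    have hz : z₁ = (h.1 : Matrix (Fin (m + 2)) (Fin (m + 2)) F) *ᵥ z₀ := by
      rw [hz₀, Subgroup.coe_inv, mulVec_inv_cancel]
    rw [hz, transvGroup_iso hf h] at hz₁
    rw [hz, hR', transvGroup_iso hf h] at hz₁R'
    exact hz ▸ full_conj hs hz₁ (hperp _ hz₁ hz₁R') hh
  -- the group on the orthogonal complement of `R`
  obtain ⟨ψ, hψ, hψ'⟩ := exists_perp_emb hs hRR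
  have hψH : ∀ g, ψ.hom hs g ∈ H := by
    intro g
    have hle : transvGroup σ (Cfsg.hermForm (m + 2 - 1) F q) ≤
        (H.map (transvGroup σ (Cfsg.hermForm (m + 2) F q)).subtype).comap (ψ.extGL hs) := by
      refine (Subgroup.closure_le _).2 ?_
      rintro _ ⟨v, c, hv, hc, rfl⟩
      exact ⟨⟨_, uT_mem hf (by rw [ψ.iso', hv]) hc⟩, hperp _ (by rw [ψ.iso', hv]) (hψ v) c hc _ rfl,
        (ψ.extGL_uT hs hv c).symm⟩
    obtain ⟨y, hy, he⟩ := hle g.2
    rwa [show ψ.hom hs g = y from Subtype.ext he.symm]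
  have hψR : ψ.proj R = 0 := funext fun i => (eq_zero_comm hf).mp (hψ _)
  refine eq_top_of_full hs fun z hzz => ?_
  by_cases hzR : Cfsg.hermForm (m + 2) F q z R = 0
  · exact hperp z hzz hzR
  obtain ⟨z', hz'⟩ : ∃ z', z' = (Cfsg.hermForm (m + 2) F q z R)⁻¹ • z := ⟨_, rfl⟩
  have hz'z' : Cfsg.hermForm (m + 2) F q z' z' = 0 := by
    rw [hz', hf.smul_left, smul_right' hf, hzz, mul_zero, mul_zero]
  suffices hfull : FullAt σ q H z' by
    have := full_smul hs hz'z' hfull (Cfsg.hermForm (m + 2) F q z R)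
    rwa [hz', smul_inv_smul₀ hzR] at this
  obtain ⟨b, hb⟩ : ∃ b, b = (Cfsg.hermForm (m + 2) F q R R)⁻¹ := ⟨_, rfl⟩
  have hσb : σ b = b := by rw [hb, map_inv₀, self_fixed hf]
  have hbR : b * Cfsg.hermForm (m + 2) F q R R = 1 := by rw [hb, inv_mul_cancel₀ hRR]
  have hsplit : ∀ y, Cfsg.hermForm (m + 2) F q y y = 0 → Cfsg.hermForm (m + 2) F q y R = 1 →
      b • R + ψ.toLin (ψ.proj y) = y ∧
        Cfsg.hermForm (m + 2 - 1) F q (ψ.proj y) (ψ.proj y) = -b := by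
    intro y hyy hyR
    have hr : Cfsg.hermForm (m + 2) F q (y + (-b) • R) R = 0 := by
      rw [hf.add_left, hf.smul_left, hyR]
      linear_combination -hbR
    have hp : ψ.proj (y + (-b) • R) = ψ.proj y := by
      rw [ψ.proj_add hs, ψ.proj_smul hs, hψR, smul_zero, add_zero]
    have he := hψ' _ hr
    rw [hp] at he
    refine ⟨by rw [he]; module, ?_⟩
    rw [← ψ.iso', he]
    simp only [hf.add_left, add_right' hf, hf.smul_left, smul_right' hf, hyy, hyR, hf.herm R y, map_one, map_neg, hσb]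
    linear_combination b * hbR
  obtain ⟨hd₁, hn₁⟩ := hsplit z₁ (by rw [hz₁]) hz₁R
  have hz'R : Cfsg.hermForm (m + 2) F q z' R = 1 := by rw [hz', hf.smul_left, inv_mul_cancel₀ hzR]
  obtain ⟨hd, hn'⟩ := hsplit z' hz'z' hz'R
  obtain ⟨g, hg⟩ := exists_move_nonsingular hs (by omega : 4 ≤ m + 2 - 1) (v := ψ.proj z₁) (v' := ψ.proj z')
    (by rw [hn₁, neg_ne_zero, hb]; exact inv_ne_zero hRR) (hn'.trans hn₁.symm)
  have e : ((ψ.hom hs g).1 : Matrix (Fin (m + 2)) (Fin (m + 2)) F) *ᵥ z₁ = z' := by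
    conv_lhs => rw [← hd₁]
    rw [mulVec_add, mulVec_smul, ψ.hom_perp hs g hψR, ψ.hom_toLin hs, hg, hd]
  rw [← e]
  exact full_conj hs (by rw [hz₁]) hz₁full (hψH g)

end Fr

end CfsgLib.UnMinIndex
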