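/-
Double counting of transvections and their fixed cosets: the bound on the index.
-/
import Cfsg.Agent.Lib.UnMinIndex.Full

set_option autoImplicit false

namespace CfsgLib.UnMinIndex

open Matrix CfsgLib.Transvec CfsgLib.Transvec.Unitary CfsgLib.Classical.Unitary

variable {F : Type*} [Field F] [Fintype F] {q : ℕ} {σ : F ≃+* F} {m : ℕ}

variable (hs : Setup F q σ)
include hs

theorem card_skew_ne : Nat.card {c : skew σ // c ≠ 0} = q - 1 := by
  classical
  haveI : Fintype (skew σ) := Fintype.ofFinite _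
  rw [Nat.card_eq_fintype_card, Fintype.card_subtype_compl, Fintype.card_subtype_eq, ← Nat.card_eq_fintype_card,
    card_skew hs]

/-- The vectors orthogonal to a nonzero vector. -/
theorem card_perp {u : Fin m → F} (hu : u ≠ 0) :
    Nat.card {w : Fin m → F // Cfsg.hermForm m F q w u = 0} = q ^ (2 * (m - 1)) := by
  have hf := hs.form m
  let L : (Fin m → F) →ₗ[F] F :=
    { toFun := fun w => Cfsg.hermForm m F q w u
      map_add' := fun a b => hf.add_left _ _ _
      map_smul' := fun c a => hf.smul_left _ _ _ }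
  have hL : LinearMap.range L = ⊤ := LinearMap.range_eq_top.2 fun e => by
    obtain ⟨w, hw⟩ := exists_form_eq hs hu (σ e)
    exact ⟨w, by show Cfsg.hermForm m F q w u = e; rw [hf.herm, hw, hs.inv]⟩
  have h := LinearMap.finrank_range_add_finrank_ker L
  rw [hL, finrank_top, Module.finrank_self, Module.finrank_fintype_fun_eq_card, Fintype.card_fin] at h
  have hk : Nat.card (LinearMap.ker L) = q ^ (2 * (m - 1)) := by
    rw [Module.natCard_eq_pow_finrank (K := F), Nat.card_eq_fintype_card, hs.card, ← pow_mul]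
    congr 1
    omega
  rw [← hk]
  exact Nat.card_congr (Equiv.subtypeEquivRight fun w => (LinearMap.mem_ker (f := L)).symm)

/-- The radical elements commuting with a transvection on the middle space. -/
theorem card_rad_perp (hm : 1 ≤ m) {u : Fin m → F} (hu : u ≠ 0) :
    Nat.card {p : Rad σ q m // Cfsg.hermForm m F q p.1.1 u = 0} = q ^ (2 * m - 1) := by
  classical
  have hb : ∀ w : Fin m → F, ∃ b, b + σ b = -Cfsg.hermForm m F q w w := fun w =>
    exists_trace_eq hs.ne_refl hs.inv (by rw [map_neg, self_fixed (hs.form m)])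
  choose b₀ hb₀ using hb
  let e : {p : Rad σ q m // Cfsg.hermForm m F q p.1.1 u = 0} ≃
      {w : Fin m → F // Cfsg.hermForm m F q w u = 0} × skew σ :=
    { toFun := fun p => (⟨p.1.1.1, p.2⟩, ⟨p.1.1.2 - b₀ p.1.1.1, by
        rw [mem_skew, map_sub]; linear_combination p.1.2 - hb₀ p.1.1.1⟩)
      invFun := fun x => ⟨⟨(x.1.1, x.2.1 + b₀ x.1.1), by
        have := mem_skew.1 x.2.2
        rw [map_add]; linear_combination this + hb₀ x.1.1⟩, x.1.2⟩
      left_inv := fun p => Subtype.ext (Subtype.ext (Prod.ext rfl (sub_add_cancel _ _)))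
      right_inv := fun x => Prod.ext rfl (Subtype.ext (add_sub_cancel_right _ _)) }
  rw [Nat.card_congr e, Nat.card_prod, card_perp hs hu, card_skew hs, ← pow_succ]
  congr 1
  omega

/-- Twice the singular vectors are fewer than all vectors. -/
theorem count_le (hn : 3 ≤ m) (hmq : q = 2 → Odd m) :
    2 * sCount F q (m + 2) + 1 ≤ q ^ (2 * (m + 2)) := by
  obtain ⟨i, rfl⟩ := Nat.exists_eq_add_of_le hn
  rcases (show q = 2 ∨ 3 ≤ q by have := hs.two_le; omega) with h2 | h3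
  · have hodd : Odd (3 + i + 1 + 1) := by
      obtain ⟨k, hk⟩ := hmq h2
      exact ⟨k + 1, by omega⟩
    have h := sCount_formula hs (3 + i + 1)
    subst h2
    rw [hodd.neg_one_pow] at h
    push_cast at h
    have hA : (1 : ℤ) ≤ (2 : ℤ) ^ (3 + i + 1) := one_le_pow₀ (by norm_num)
    have : (2 * sCount F 2 (3 + i + 2) + 1 : ℤ) ≤ (2 : ℤ) ^ (2 * (3 + i + 2)) := by
      rw [show 3 + i + 2 = 3 + i + 1 + 1 from rfl, h]
      generalize 3 + i + 1 = j at hA ⊢
      rw [show 2 * (j + 1) = j + j + 2 by omega]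
      simp only [pow_add, pow_one]
      nlinarith
    exact_mod_cast this
  · have h := sCount_upper hs (3 + i + 1)
    have hA : (9 : ℤ) ≤ (q : ℤ) ^ (3 + i + 1) := by
      calc (9 : ℤ) = 3 ^ 2 := by norm_num
        _ ≤ (q : ℤ) ^ 2 := pow_le_pow_left₀ (by norm_num) (by exact_mod_cast h3) 2
        _ ≤ (q : ℤ) ^ (3 + i + 1) := pow_le_pow_right₀ (by omega) (by omega)
    have : (2 * sCount F q (3 + i + 2) + 1 : ℤ) ≤ (q : ℤ) ^ (2 * (3 + i + 2)) := by
      rw [show 3 + i + 2 = 3 + i + 1 + 1 from rfl,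
        show 2 * (3 + i + 1 + 1) = (3 + i + 1) + (3 + i + 1) + 2 by omega, pow_add, pow_add]
      rw [pow_succ _ (3 + i + 1)] at h
      have hq : (3 : ℤ) ≤ q := by exact_mod_cast h3
      have hAA := mul_le_mul_of_nonneg_left hA (show (0 : ℤ) ≤ (q : ℤ) ^ (3 + i + 1) by linarith)
      have hqq : (9 : ℤ) ≤ (q : ℤ) * q := by nlinarith
      nlinarith [mul_le_mul_of_nonneg_left hAA (show (0 : ℤ) ≤ (q : ℤ) by linarith),
        mul_le_mul_of_nonneg_right hq (show (0 : ℤ) ≤ (q : ℤ) * ((q : ℤ) ^ (3 + i + 1) * (q : ℤ) ^ (3 + i + 1)) by positivity)]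
    exact_mod_cast this

/-- The index set of the transvections: a singular vector and a parameter. -/
abbrev TIdx (σ : F ≃+* F) (q m : ℕ) : Type _ :=
  {v : Fin (m + 2) → F // v ≠ 0 ∧ Cfsg.hermForm (m + 2) F q v v = 0} × {c : skew σ // c ≠ 0}

/-- The transvection with given index. -/
noncomputable def tel (t : TIdx σ q m) : transvGroup σ (Cfsg.hermForm (m + 2) F q) :=
  ⟨uT (Cfsg.hermForm (m + 2) F q) t.1.1 t.2.1.1, uT_mem (hs.form (m + 2)) t.1.2.2 t.2.1.2⟩

/-- Transitivity on nonzero singular vectors. -/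
theorem move_singular (hm : 2 ≤ m) {v v' : Fin (m + 2) → F} (hv : Cfsg.hermForm (m + 2) F q v v = 0) (hv0 : v ≠ 0)
    (hv' : Cfsg.hermForm (m + 2) F q v' v' = 0) (hv'0 : v' ≠ 0) :
    ∃ g : transvGroup σ (Cfsg.hermForm (m + 2) F q), (g.1 : Matrix (Fin (m + 2)) (Fin (m + 2)) F) *ᵥ v = v' :=
  exists_move_iso (hs.form (m + 2)) (by rw [Fintype.card_fin]; omega) (Or.inl (by rw [Fintype.card_fin]; omega))
    (hermForm_basis hs.frob) hv hv' hv0 hv'0

namespace Fr

variable (fr : Fr F q m) in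
/-- The singular vectors orthogonal to the middle space. -/
theorem plane_count :
    Nat.card {v : Fin (m + 2) → F // v ≠ 0 ∧ Cfsg.hermForm (m + 2) F q v v = 0 ∧ fr.φ.proj v = 0} ≤
      (q + 1) * (q ^ 2 - 1) := by
  classical
  have hfm := hs.form m
  have hplane : ∀ v : Fin (m + 2) → F, fr.φ.proj v = 0 →
      Cfsg.hermForm (m + 2) F q v fr.y • fr.x + Cfsg.hermForm (m + 2) F q v fr.x • fr.y = v := fun v hv => by
    have h := fr.decomp v
    rwa [hv, map_zero, add_zero] at h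
  let code : {v : Fin (m + 2) → F // v ≠ 0 ∧ Cfsg.hermForm (m + 2) F q v v = 0 ∧ fr.φ.proj v = 0} →
      Option (skew σ) × {a : F // a ≠ 0} := fun v =>
    if ha : Cfsg.hermForm (m + 2) F q v.1 fr.y = 0 then
      (none, ⟨Cfsg.hermForm (m + 2) F q v.1 fr.x, fun h => v.2.1 (by
        rw [← hplane v.1 v.2.2.2, ha, h, zero_smul, zero_smul, add_zero])⟩)
    else (some ⟨Cfsg.hermForm (m + 2) F q v.1 fr.x / Cfsg.hermForm (m + 2) F q v.1 fr.y, by
      have h := fr.form_decomp hs v.1 v.1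
      rw [v.2.2.1, v.2.2.2, zero_left' hfm, add_zero] at h
      have hσ := (map_ne_zero_iff _ σ.injective).2 ha
      rw [mem_skew, map_div₀]
      field_simp
      linear_combination -h⟩, ⟨_, ha⟩)
  have hinj : Function.Injective code := by
    intro v v' h1
    simp only [code] at h1
    refine Subtype.ext ?_
    rw [← hplane v.1 v.2.2.2, ← hplane v'.1 v'.2.2.2]
    by_cases ha : Cfsg.hermForm (m + 2) F q v.1 fr.y = 0 <;>
      by_cases ha' : Cfsg.hermForm (m + 2) F q v'.1 fr.y = 0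
    · rw [dif_pos ha, dif_pos ha', Prod.mk.injEq, Subtype.mk.injEq] at h1
      rw [ha, ha', h1.2]
    · rw [dif_pos ha, dif_neg ha'] at h1
      simp at h1
    · rw [dif_neg ha, dif_pos ha'] at h1
      simp at h1
    · rw [dif_neg ha, dif_neg ha', Prod.mk.injEq, Option.some.injEq, Subtype.mk.injEq, Subtype.mk.injEq] at h1
      obtain ⟨hr, ha1⟩ := h1
      rw [ha1] at hr
      rw [ha1, (div_left_inj' ha').1 hr]
  refine (Nat.card_le_card_of_injective code hinj).trans (le_of_eq ?_)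
  haveI : Fintype (skew σ) := Fintype.ofFinite _
  rw [Nat.card_prod, Finite.card_option, card_skew hs, Nat.card_eq_fintype_card (α := {a : F // a ≠ 0}),
    Fintype.card_subtype_compl, Fintype.card_subtype_eq, hs.card]

variable (hm : 2 ≤ m) (fr : Fr F q m) {X : Type*} [MulAction (transvGroup σ (Cfsg.hermForm (m + 2) F q)) X]
include hm

/-- If the long root group at the first frame vector fixes everything, all elements do. -/
theorem fix_all_of_full (hA : ∀ ω : X, skew σ ≤ fr.Aof hs hm ω) (ω : X)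
    (g : transvGroup σ (Cfsg.hermForm (m + 2) F q)) : g • ω = ω := by
  have hf := hs.form (m + 2)
  have htop : MulAction.stabilizer (transvGroup σ (Cfsg.hermForm (m + 2) F q)) ω = ⊤ := by
    refine eq_top_of_full hs fun v hv c hc g hg => ?_
    by_cases hv0 : v = 0
    · subst hv0
      exact full_zero hs c hc g hg
    obtain ⟨k, hk⟩ := move_singular hs hm fr.hxx (fr.x_ne hs) hv hv0
    obtain ⟨hc', hfix⟩ := hA (k⁻¹ • ω) hc
    have e : g = k * fr.rad hs hm (Rad.zr hs hc') * k⁻¹ := Subtype.ext (by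
      rw [hg, ← hk, ← conj_uT hf (transvGroup_iso hf k) fr.hxx, Subgroup.coe_mul, Subgroup.coe_mul, Subgroup.coe_inv,
        fr.rad_zero hs hm _ rfl]
      rfl)
    rw [MulAction.mem_stabilizer_iff, e, mul_smul, mul_smul, hfix, smul_inv_smul]
  exact MulAction.mem_stabilizer_iff.1 (htop ▸ Subgroup.mem_top g)

/-- Every transvection fixes many points. -/
theorem fix_count [Finite X] {ω' : X} (hA : fr.Aof hs hm ω' = ⊥) (hW : fr.Wof hs hm ω' = ⊥)
    (hfixU : ∀ (u : Fin m → F) (c : F), Cfsg.hermForm m F q u u = 0 → c ∈ skew σ →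
      ∀ g : transvGroup σ (Cfsg.hermForm (m + 2) F q),
        g.1 = uT (Cfsg.hermForm (m + 2) F q) (fr.φ.toLin u) c → g • ω' = ω') (t : TIdx σ q m) :
    q ^ (2 * m - 1) ≤ Nat.card {ω : X // tel hs t • ω = ω} := by
  classical
  have hf := hs.form (m + 2)
  have hfm := hs.form m
  obtain ⟨u₀, hu₀, hu₀0⟩ : ∃ u₀ : Fin m → F, Cfsg.hermForm m F q u₀ u₀ = 0 ∧ u₀ ≠ 0 := by
    obtain ⟨u₀, hu₀, hne⟩ := exists_singular_test hs hm (r := Pi.single (⟨0, by omega⟩ : Fin m) 1)
      (fun h => one_ne_zero (α := F) (by simpa using congrFun h ⟨0, by omega⟩))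
    exact ⟨u₀, hu₀, fun h => hne (by rw [h, zero_right' hfm])⟩
  have hφu₀ : Cfsg.hermForm (m + 2) F q (fr.φ.toLin u₀) (fr.φ.toLin u₀) = 0 := by rw [fr.φ.iso', hu₀]
  obtain ⟨k, hk⟩ := move_singular hs hm hφu₀
    (fun h => hu₀0 (fr.φ.toLin_injective hs (h.trans (map_zero _).symm))) t.1.2.2 t.1.2.1
  obtain ⟨g₀, hg₀⟩ : ∃ g₀ : transvGroup σ (Cfsg.hermForm (m + 2) F q),
      g₀.1 = uT (Cfsg.hermForm (m + 2) F q) (fr.φ.toLin u₀) t.2.1.1 := ⟨⟨_, uT_mem hf hφu₀ t.2.1.2⟩, rfl⟩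
  have hel : tel hs t = k * g₀ * k⁻¹ := Subtype.ext (by
    show uT _ t.1.1 t.2.1.1 = _
    rw [← hk, ← conj_uT hf (transvGroup_iso hf k) hφu₀, Subgroup.coe_mul, Subgroup.coe_mul, Subgroup.coe_inv, hg₀])
  have hg₀ω : g₀ • ω' = ω' := hfixU u₀ t.2.1.1 hu₀ t.2.1.2 g₀ hg₀
  have hcomm : ∀ p : Rad σ q m, Cfsg.hermForm m F q p.1.1 u₀ = 0 →
      g₀ * fr.rad hs hm p = fr.rad hs hm p * g₀ := by
    intro p hp
    refine mul_inv_eq_iff_eq_mul.1 (Subtype.ext ?_)
    show g₀.1 * eu (Cfsg.hermForm (m + 2) F q) fr.x (fr.φ.toLin p.1.1) p.1.2 * (g₀.1)⁻¹ =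
      eu (Cfsg.hermForm (m + 2) F q) fr.x (fr.φ.toLin p.1.1) p.1.2
    rw [conj_eu hf (transvGroup_iso hf g₀) fr.hxx (fr.φx _), hg₀, uT_mulVec hf hφu₀, uT_mulVec hf hφu₀,
      fr.xφ hs, fr.φ.iso', hp]
    simp
  rw [← card_rad_perp hs (by omega) hu₀0]
  refine Nat.card_le_card_of_injective (fun p => ⟨(k * fr.rad hs hm p.1) • ω', ?_⟩) ?_
  · rw [hel, ← mul_smul, show k * g₀ * k⁻¹ * (k * fr.rad hs hm p.1) = k * (g₀ * fr.rad hs hm p.1) by group,
      hcomm p.1 p.2, ← mul_assoc, mul_smul, hg₀ω]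
  · intro p p' h
    have h' := congrArg Subtype.val h
    simp only [mul_smul, smul_left_cancel_iff] at h'
    exact Subtype.ext (fr.rad_smul_inj hs hm hA hW h')

/-- A proper subgroup with full middle centres contains few transvections. -/
theorem centre_count (hm3 : 3 ≤ m)
    {H : Subgroup (transvGroup σ (Cfsg.hermForm (m + 2) F q))} (hne : H ≠ ⊤)
    (hlt : H.index * (q ^ 2 - 1) < sCount F q (m + 2))
    (hns : H.index * (q ^ 2 - 1) + sCount F q (m + 2) + 1 < q ^ (2 * (m + 2)))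
    (hU : ∀ u, Cfsg.hermForm m F q u u = 0 → FullAt σ q H (fr.φ.toLin u))
    (htrans : ∀ u u' : Fin m → F, Cfsg.hermForm m F q u u ≠ 0 →
      Cfsg.hermForm m F q u' u' = Cfsg.hermForm m F q u u →
      ∃ (j : transvGroup σ (Cfsg.hermForm (m + 2) F q)) (γ : GL (Fin m) F),
        fr.Mov (σ := σ) j.1 1 γ ∧ (γ : Matrix (Fin m) (Fin m) F) *ᵥ u = u' ∧ j ∈ H) :
    Nat.card {t : TIdx σ q m // tel hs t ∈ H} ≤ (sCount F q m + (q + 1) * (q ^ 2 - 1)) * (q - 1) := by
  classical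
  have hf := hs.form (m + 2)
  have hfm := hs.form m
  have hcentre : ∀ t : TIdx σ q m, tel hs t ∈ H →
      fr.φ.toLin (fr.φ.proj t.1.1) = t.1.1 ∨ fr.φ.proj t.1.1 = 0 := by
    intro t hgH
    by_contra hcon
    push Not at hcon
    obtain ⟨hP0, hu0⟩ := hcon
    obtain ⟨P, hP⟩ : ∃ P, P = t.1.1 - fr.φ.toLin (fr.φ.proj t.1.1) := ⟨_, rfl⟩
    have hPφ : fr.φ.proj P = 0 := hP ▸ fr.φ.proj_sub hs _
    have hvP : t.1.1 = fr.φ.toLin (fr.φ.proj t.1.1) + P := by rw [hP, add_sub_cancel]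
    have hgv : (tel hs t).1 = uT (Cfsg.hermForm (m + 2) F q) (fr.φ.toLin (fr.φ.proj t.1.1) + P) t.2.1.1 :=
      congrArg (fun v => uT (Cfsg.hermForm (m + 2) F q) v t.2.1.1) hvP
    have hPP : Cfsg.hermForm (m + 2) F q P P = -Cfsg.hermForm m F q (fr.φ.proj t.1.1) (fr.φ.proj t.1.1) := by
      rw [hP]
      simp only [sub_left' hf, sub_right' hf, t.1.2.2, fr.φ.iso', fr.φ.form_toLin hs t.1.1,
        hf.herm (fr.φ.toLin (fr.φ.proj t.1.1)) t.1.1, self_fixed hfm]
      ring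
    have hc0 : t.2.1.1 ≠ 0 := fun h => t.2.2 (Subtype.ext h)
    by_cases huu : Cfsg.hermForm m F q (fr.φ.proj t.1.1) (fr.φ.proj t.1.1) = 0
    · exact hne (fr.full_singular hs hm hm3 hlt hU huu hu0 (by rw [hPP, huu, neg_zero])
        (fun h => hP0 (sub_eq_zero.1 (hP.symm.trans h)).symm) hPφ t.2.1.2 hc0 hgH hgv)
    · exact hne (fr.full_nonsingular hs hm hm3 hlt hns hU htrans huu hPP hPφ hc0 hgH hgv)
  let U := {u : Fin m → F // u ≠ 0 ∧ Cfsg.hermForm m F q u u = 0}
  let B := U ⊕ {v : Fin (m + 2) → F // v ≠ 0 ∧ Cfsg.hermForm (m + 2) F q v v = 0 ∧ fr.φ.proj v = 0}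
  let code : {t : TIdx σ q m // tel hs t ∈ H} → B × {c : skew σ // c ≠ 0} := fun t =>
    (if hp : fr.φ.proj t.1.1.1 = 0 then Sum.inr ⟨t.1.1.1, t.1.1.2.1, t.1.1.2.2, hp⟩
      else Sum.inl ⟨fr.φ.proj t.1.1.1, hp, by
        rw [← fr.φ.iso', (hcentre t.1 t.2).resolve_right hp, t.1.1.2.2]⟩, t.1.2)
  have hinj : Function.Injective code := by
    intro t t' h
    simp only [code, Prod.mk.injEq] at h
    obtain ⟨h1, h2⟩ := h
    refine Subtype.ext (Prod.ext (Subtype.ext ?_) h2)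
    by_cases hp : fr.φ.proj t.1.1.1 = 0 <;> by_cases hp' : fr.φ.proj t'.1.1.1 = 0
    · rw [dif_pos hp, dif_pos hp', Sum.inr.injEq, Subtype.mk.injEq] at h1
      exact h1
    · rw [dif_pos hp, dif_neg hp'] at h1
      exact absurd h1 Sum.inr_ne_inl
    · rw [dif_neg hp, dif_pos hp'] at h1
      exact absurd h1 Sum.inl_ne_inr
    · rw [dif_neg hp, dif_neg hp', Sum.inl.injEq, Subtype.mk.injEq] at h1
      rw [← (hcentre t.1 t.2).resolve_right hp, ← (hcentre t'.1 t'.2).resolve_right hp', h1]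
  refine (Nat.card_le_card_of_injective code hinj).trans ?_
  rw [Nat.card_prod, Nat.card_sum, card_skew_ne hs]
  exact Nat.mul_le_mul_right _ (Nat.add_le_add (le_of_eq rfl) (fr.plane_count hs))

end Fr

/-- A transitive action of small degree is trivial. -/
theorem action_trivial (hm3 : 3 ≤ m) (hmq : q = 2 → Odd m ∨ 7 ≤ m) {X : Type*}
    [MulAction (transvGroup σ (Cfsg.hermForm (m + 2) F q)) X] [Finite X]
    [MulAction.IsPretransitive (transvGroup σ (Cfsg.hermForm (m + 2) F q)) X]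
    (hlt : Nat.card X * (q ^ 2 - 1) < sCount F q (m + 2))
    (hns : Nat.card X * (q ^ 2 - 1) + sCount F q (m + 2) + 1 < q ^ (2 * (m + 2))) (ω : X)
    (g : transvGroup σ (Cfsg.hermForm (m + 2) F q)) : g • ω = ω := by
  classical
  have hf := hs.form (m + 2)
  have hm : 2 ≤ m := by omega
  have hq := hs.two_le
  obtain ⟨x₀, hx₀, hne⟩ := exists_singular_test hs (by omega : 2 ≤ m + 2) (r := Pi.single 0 1)
    (fun h => one_ne_zero (α := F) (by simpa using congrFun h 0))
  obtain ⟨y₀, hy₀, hyx₀⟩ := exists_iso_partner hf hx₀ fun h => hne (by rw [h, zero_right' hf])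
  obtain ⟨fr, -, -⟩ := exists_fr hs (m := m) hx₀ hy₀ (by rw [hf.herm, hyx₀, map_one])
  by_cases hA : ∀ ω : X, skew σ ≤ fr.Aof hs hm ω
  · exact fr.fix_all_of_full hs hm hA ω g
  push Not at hA
  obtain ⟨ω₀, hω₀⟩ := hA
  obtain ⟨t₀, ht₀, ht₀A⟩ := SetLike.not_le_iff_exists.1 hω₀
  obtain ⟨hA₀, hW₀⟩ := fr.aof_eq_bot hs hm hm3 (fun h => (hmq h).imp_right fun h => by omega) hlt ω₀ ht₀ ht₀A
  obtain ⟨ω', hA', hW', hfixU, htrans⟩ := fr.exists_fixed hs hm hm3 hmq hlt hA₀ hW₀
  by_cases htop : MulAction.stabilizer (transvGroup σ (Cfsg.hermForm (m + 2) F q)) ω' = ⊤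
  · have hω : ∀ ν : X, ν = ω' := fun ν => by
      obtain ⟨k, hk⟩ := MulAction.exists_smul_eq (transvGroup σ (Cfsg.hermForm (m + 2) F q)) ω' ν
      rw [← hk]
      exact MulAction.mem_stabilizer_iff.1 (htop ▸ Subgroup.mem_top k)
    exact (hω _).trans (hω ω).symm
  exfalso
  haveI : Fintype X := Fintype.ofFinite _
  haveI : Fintype (TIdx σ q m) := Fintype.ofFinite _
  -- the same number of transvections fixes each point
  have hconj : ∀ ω : X, Nat.card {t : TIdx σ q m // tel hs t • ω = ω} =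
      Nat.card {t : TIdx σ q m // tel hs t • ω' = ω'} := by
    intro ω
    obtain ⟨k, rfl⟩ := MulAction.exists_smul_eq (transvGroup σ (Cfsg.hermForm (m + 2) F q)) ω' ω
    let e : TIdx σ q m ≃ TIdx σ q m := Equiv.prodCongr
      { toFun := fun v => ⟨(k.1 : Matrix (Fin (m + 2)) (Fin (m + 2)) F) *ᵥ v.1, mulVec_ne_zero k.1 v.2.1,
          by rw [transvGroup_iso hf k, v.2.2]⟩
        invFun := fun v => ⟨((k⁻¹).1 : Matrix (Fin (m + 2)) (Fin (m + 2)) F) *ᵥ v.1, mulVec_ne_zero (k⁻¹).1 v.2.1,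
          by rw [transvGroup_iso hf k⁻¹, v.2.2]⟩
        left_inv := fun v => Subtype.ext (by
          show ((k⁻¹).1 : Matrix (Fin (m + 2)) (Fin (m + 2)) F) *ᵥ ((k.1 : Matrix (Fin (m + 2)) (Fin (m + 2)) F) *ᵥ v.1) = v.1
          rw [← mul_mulVec, ← Subgroup.coe_mul, inv_mul_cancel, Subgroup.coe_one, Units.val_one, one_mulVec])
        right_inv := fun v => Subtype.ext (by
          show (k.1 : Matrix (Fin (m + 2)) (Fin (m + 2)) F) *ᵥ (((k⁻¹).1 : Matrix (Fin (m + 2)) (Fin (m + 2)) F) *ᵥ v.1) = v.1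
          rw [← mul_mulVec, ← Subgroup.coe_mul, mul_inv_cancel, Subgroup.coe_one, Units.val_one, one_mulVec]) }
      (Equiv.refl _)
    refine (Nat.card_congr (Equiv.subtypeEquiv e fun t => ?_)).symm
    have : tel hs (e t) = k * tel hs t * k⁻¹ := Subtype.ext (by
      show uT _ ((k.1 : Matrix (Fin (m + 2)) (Fin (m + 2)) F) *ᵥ t.1.1) t.2.1.1 = _
      rw [← conj_uT hf (transvGroup_iso hf k) t.1.2.2]
      rfl)
    rw [this, mul_smul, mul_smul, inv_smul_smul, smul_left_cancel_iff]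
  have hsum : Nat.card (TIdx σ q m) * q ^ (2 * m - 1) ≤
      Nat.card X * Nat.card {t : TIdx σ q m // tel hs t • ω' = ω'} := by
    have h1 : ∑ t : TIdx σ q m, Nat.card {ω : X // tel hs t • ω = ω} =
        ∑ ω : X, Nat.card {t : TIdx σ q m // tel hs t • ω = ω} := by
      rw [← Nat.card_sigma, ← Nat.card_sigma]
      exact Nat.card_congr
        { toFun := fun p => ⟨p.2.1, p.1, p.2.2⟩
          invFun := fun p => ⟨p.2.1, p.1, p.2.2⟩
          left_inv := fun _ => rfl
          right_inv := fun _ => rfl }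
    rw [Finset.sum_congr rfl fun ω _ => hconj ω, Finset.sum_const, smul_eq_mul, Finset.card_univ,
      ← Nat.card_eq_fintype_card] at h1
    rw [← h1, Nat.card_eq_fintype_card, ← Finset.card_univ, ← smul_eq_mul, ← Finset.sum_const]
    exact Finset.sum_le_sum fun t _ => fr.fix_count hs hm hA' hW' hfixU t
  have hcnt : Nat.card {t : TIdx σ q m // tel hs t • ω' = ω'} ≤
      (sCount F q m + (q + 1) * (q ^ 2 - 1)) * (q - 1) := by
    refine le_trans (le_of_eq (Nat.card_congr (Equiv.subtypeEquivRight fun t => MulAction.mem_stabilizer_iff.symm)))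
      (fr.centre_count hs hm hm3 htop (by rwa [MulAction.index_stabilizer_of_transitive])
        (by rwa [MulAction.index_stabilizer_of_transitive]) ?_ ?_)
    · exact fun u hu c hc g hg => MulAction.mem_stabilizer_iff.2 (hfixU u c hu hc g hg)
    · intro u u' h1 h2
      obtain ⟨j, γ, hj, hγ, hjω⟩ := htrans u u' h1 h2
      exact ⟨j, γ, hj, hγ, MulAction.mem_stabilizer_iff.2 hjω⟩
  have hcardT : Nat.card (TIdx σ q m) = sCount F q (m + 2) * (q - 1) := by
    rw [Nat.card_prod, card_skew_ne hs]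
    rfl
  have hmain : q ^ (2 * m - 1) * (q ^ 2 - 1) ≤ sCount F q m + (q + 1) * (q ^ 2 - 1) := by
    have h := Nat.mul_le_mul_right (q ^ 2 - 1) (hsum.trans (Nat.mul_le_mul_left _ hcnt))
    have h' : Nat.card X * ((sCount F q m + (q + 1) * (q ^ 2 - 1)) * (q - 1)) * (q ^ 2 - 1) ≤
        sCount F q (m + 2) * ((sCount F q m + (q + 1) * (q ^ 2 - 1)) * (q - 1)) := by
      rw [mul_right_comm]
      exact Nat.mul_le_mul_right _ hlt.le
    have h'' := h.trans h'
    rw [hcardT] at h''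
    have hS : 0 < sCount F q (m + 2) * (q - 1) := Nat.mul_pos (Nat.lt_of_le_of_lt (Nat.zero_le _) hlt) (by omega)
    refine Nat.le_of_mul_le_mul_left ?_ hS
    calc _ = sCount F q (m + 2) * (q - 1) * q ^ (2 * m - 1) * (q ^ 2 - 1) := by ring
      _ ≤ _ := h''
      _ = _ := by ring
  have hb := plane_bound hs hm3
  have h1 : 1 ≤ q ^ 2 := Nat.one_le_pow _ _ (by omega)
  have hmain' := (Nat.cast_le (α := ℤ)).2 hmain
  push_cast [h1] at hmain'
  nlinarith

/-- A subgroup of small index of the transvection group is everything. -/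
theorem eq_top_of_index' (hm3 : 3 ≤ m) (hmq : q = 2 → Odd m ∨ 7 ≤ m)
    (H : Subgroup (transvGroup σ (Cfsg.hermForm (m + 2) F q)))
    (hlt : H.index * (q ^ 2 - 1) < sCount F q (m + 2))
    (hns : H.index * (q ^ 2 - 1) + sCount F q (m + 2) + 1 < q ^ (2 * (m + 2))) : H = ⊤ := by
  refine eq_top_iff.2 fun g _ => ?_
  have h := action_trivial hs hm3 hmq (X := transvGroup σ (Cfsg.hermForm (m + 2) F q) ⧸ H) hlt hns (QuotientGroup.mk 1) g
  have := QuotientGroup.eq.1 h.symm
  simpa using this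

/-- The case where the singular vectors are the fewer ones. -/
theorem eq_top_of_index (hm3 : 3 ≤ m) (hmq : q = 2 → Odd m)
    (H : Subgroup (transvGroup σ (Cfsg.hermForm (m + 2) F q)))
    (hlt : H.index * (q ^ 2 - 1) < sCount F q (m + 2)) : H = ⊤ :=
  eq_top_of_index' hs hm3 (fun h => Or.inl (hmq h)) H hlt (by have := count_le hs hm3 hmq; omega)

end CfsgLib.UnMinIndex
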