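/-
The two-dimensional unitary space: hyperbolic pairs and the movements used in dimension four.
-/
import Cfsg.Agent.Lib.UnMinIndex.Regular

set_option autoImplicit false

namespace CfsgLib.UnMinIndex

open Matrix CfsgLib.Transvec CfsgLib.Transvec.Unitary CfsgLib.Classical.Unitary

variable {F : Type*} [Field F] [Fintype F] {q : ℕ} {σ : F ≃+* F}

variable (hs : Setup F q σ)
include hs

/-- Coordinates with respect to a hyperbolic pair. -/
theorem decomp2 {u v : Fin 2 → F} (huu : Cfsg.hermForm 2 F q u u = 0) (hvv : Cfsg.hermForm 2 F q v v = 0)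
    (huv : Cfsg.hermForm 2 F q u v = 1) (z : Fin 2 → F) :
    Cfsg.hermForm 2 F q z v • u + Cfsg.hermForm 2 F q z u • v = z := by
  obtain ⟨fr, hx, hy⟩ := exists_fr hs (m := 0) huu hvv huv
  have h := fr.decomp z
  rwa [hx, hy, Subsingleton.elim (fr.φ.proj z) 0, map_zero, add_zero] at h

/-- An isometry with given images of a hyperbolic pair. -/
theorem exists_pair_iso {u v u' v' : Fin 2 → F} (huu : Cfsg.hermForm 2 F q u u = 0)
    (hvv : Cfsg.hermForm 2 F q v v = 0) (huv : Cfsg.hermForm 2 F q u v = 1)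
    (hu' : Cfsg.hermForm 2 F q u' u' = 0) (hv' : Cfsg.hermForm 2 F q v' v' = 0)
    (huv' : Cfsg.hermForm 2 F q u' v' = 1) :
    ∃ γ : GL (Fin 2) F, Iso (Cfsg.hermForm 2 F q) γ ∧ (γ : Matrix (Fin 2) (Fin 2) F) *ᵥ u = u' ∧
      (γ : Matrix (Fin 2) (Fin 2) F) *ᵥ v = v' := by
  have hf := hs.form 2
  have hvu : Cfsg.hermForm 2 F q v u = 1 := by rw [hf.herm, huv, map_one]
  have hvu' : Cfsg.hermForm 2 F q v' u' = 1 := by rw [hf.herm, huv', map_one]
  let mk : (Fin 2 → F) → (Fin 2 → F) → (Fin 2 → F) → (Fin 2 → F) → Module.End F (Fin 2 → F) := fun u v u' v' =>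
    { toFun := fun z => Cfsg.hermForm 2 F q z v • u' + Cfsg.hermForm 2 F q z u • v'
      map_add' := fun a b => by simp only [hf.add_left]; module
      map_smul' := fun c a => by simp only [hf.smul_left, RingHom.id_apply]; module }
  have hinv : ∀ (a b a' b' : Fin 2 → F), Cfsg.hermForm 2 F q a a = 0 → Cfsg.hermForm 2 F q b b = 0 →
      Cfsg.hermForm 2 F q a b = 1 → Cfsg.hermForm 2 F q a' a' = 0 → Cfsg.hermForm 2 F q b' b' = 0 →
      Cfsg.hermForm 2 F q a' b' = 1 → ∀ z, mk a b a' b' (mk a' b' a b z) = z := by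
    intro a b a' b' ha hb hab ha' hb' hab' z
    have hba : Cfsg.hermForm 2 F q b a = 1 := by rw [hf.herm, hab, map_one]
    show Cfsg.hermForm 2 F q (Cfsg.hermForm 2 F q z b' • a + Cfsg.hermForm 2 F q z a' • b) b • a' +
      Cfsg.hermForm 2 F q (Cfsg.hermForm 2 F q z b' • a + Cfsg.hermForm 2 F q z a' • b) a • b' = z
    rw [hf.add_left, hf.add_left, hf.smul_left, hf.smul_left, hf.smul_left, hf.smul_left, ha, hb, hab, hba, mul_zero,
      mul_zero, mul_one, mul_one, add_zero, zero_add]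
    exact decomp2 hs ha' hb' hab' z
  let γ : GL (Fin 2) F :=
    ⟨LinearMap.toMatrix' (mk u v u' v'), LinearMap.toMatrix' (mk u' v' u v),
      by rw [← LinearMap.toMatrix'_comp, ← LinearMap.toMatrix'_id]
         exact congrArg _ (LinearMap.ext (hinv u v u' v' huu hvv huv hu' hv' huv')),
      by rw [← LinearMap.toMatrix'_comp, ← LinearMap.toMatrix'_id]
         exact congrArg _ (LinearMap.ext (hinv u' v' u v hu' hv' huv' huu hvv huv))⟩
  have happ : ∀ z, (γ : Matrix (Fin 2) (Fin 2) F) *ᵥ z =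
      Cfsg.hermForm 2 F q z v • u' + Cfsg.hermForm 2 F q z u • v' := fun z => by
    show LinearMap.toMatrix' (mk u v u' v') *ᵥ z = _
    rw [LinearMap.toMatrix'_mulVec]
    rfl
  refine ⟨γ, fun z z' => ?_, ?_, ?_⟩
  · rw [happ, happ]
    conv_rhs => rw [← decomp2 hs huu hvv huv z, ← decomp2 hs huu hvv huv z']
    simp only [hf.add_left, add_right' hf, hf.smul_left, smul_right' hf, huu, hvv, huv, hvu, hu', hv', huv', hvu']
  · rw [happ, huv, huu, one_smul, zero_smul, add_zero]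
  · rw [happ, hvv, hvu, zero_smul, one_smul, zero_add]

/-- Rescaling the first vector of the target pair multiplies the determinant. -/
theorem exists_pair_iso_scaled {u v u' v' : Fin 2 → F} (huu : Cfsg.hermForm 2 F q u u = 0)
    (hvv : Cfsg.hermForm 2 F q v v = 0) (huv : Cfsg.hermForm 2 F q u v = 1)
    (hu' : Cfsg.hermForm 2 F q u' u' = 0) (hv' : Cfsg.hermForm 2 F q v' v' = 0)
    (huv' : Cfsg.hermForm 2 F q u' v' = 1) :
    ∃ d : F, d * σ d = 1 ∧ ∀ s : F, s ≠ 0 → ∃ γ : GL (Fin 2) F, Iso (Cfsg.hermForm 2 F q) γ ∧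
      (γ : Matrix (Fin 2) (Fin 2) F).det = d * (s / σ s) ∧ (γ : Matrix (Fin 2) (Fin 2) F) *ᵥ u = s • u' := by
  have hf := hs.form 2
  obtain ⟨γ₀, hγ₀, h1, h2⟩ := exists_pair_iso hs huu hvv huv hu' hv' huv'
  refine ⟨(γ₀ : Matrix (Fin 2) (Fin 2) F).det, det_norm hs hγ₀, fun s hs0 => ?_⟩
  have hσs : σ s ≠ 0 := (map_ne_zero_iff _ σ.injective).2 hs0
  obtain ⟨γ, hγ, g1, g2⟩ := exists_pair_iso hs huu hvv huv (u' := s • u') (v' := (σ s)⁻¹ • v')
    (by rw [hf.smul_left, smul_right' hf, hu', mul_zero, mul_zero])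
    (by rw [hf.smul_left, smul_right' hf, hv', mul_zero, mul_zero])
    (by rw [hf.smul_left, smul_right' hf, map_inv₀, hs.inv, huv', mul_one, mul_inv_cancel₀ hs0])
  refine ⟨γ, hγ, ?_, g1⟩
  obtain ⟨P, hP⟩ : ∃ P : Matrix (Fin 2) (Fin 2) F, P = Matrix.of ![![u 0, v 0], ![u 1, v 1]] := ⟨_, rfl⟩
  have hP0 : P.det ≠ 0 := by
    rw [hP, det_fin_two]
    simp only [of_apply, cons_val_zero, cons_val_one]
    intro h
    have hu := huu
    have hb := huv
    rw [hermForm_eq hs.frob, Fin.sum_univ_two] at hu hb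
    have h' : σ (u 0) * σ (v 1) - σ (v 0) * σ (u 1) = 0 := by rw [← map_mul, ← map_mul, ← map_sub, h, map_zero]
    have e0 : σ (u 0) = 0 := by linear_combination (-(σ (u 0))) * hb + (u 1) * h' + σ (v 0) * hu
    have e1 : σ (u 1) = 0 := by linear_combination (-(σ (u 1))) * hb - (u 0) * h' + σ (v 1) * hu
    rw [(map_eq_zero_iff _ σ.injective).1 e0, (map_eq_zero_iff _ σ.injective).1 e1] at hb
    simp at hb
  have hcol : ∀ (g : GL (Fin 2) F) (i : Fin 2),
      ((g : Matrix (Fin 2) (Fin 2) F) * P) i 0 = ((g : Matrix (Fin 2) (Fin 2) F) *ᵥ u) i ∧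
        ((g : Matrix (Fin 2) (Fin 2) F) * P) i 1 = ((g : Matrix (Fin 2) (Fin 2) F) *ᵥ v) i := fun g i => by
    rw [hP]
    simp [Matrix.mul_apply, mulVec, dotProduct, Fin.sum_univ_two]
  have e1 : ((γ : Matrix (Fin 2) (Fin 2) F) * P).det =
      s / σ s * ((γ₀ : Matrix (Fin 2) (Fin 2) F) * P).det := by
    rw [det_fin_two, det_fin_two, (hcol γ 0).1, (hcol γ 0).2, (hcol γ 1).1, (hcol γ 1).2, (hcol γ₀ 0).1,
      (hcol γ₀ 0).2, (hcol γ₀ 1).1, (hcol γ₀ 1).2, g1, g2, h1, h2]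
    simp only [Pi.smul_apply, smul_eq_mul]
    ring
  rw [det_mul, det_mul] at e1
  exact mul_right_cancel₀ hP0 (by rw [e1]; ring)

/-- Every element of norm one is a quotient of conjugates. -/
theorem exists_ratio {e : F} (he : e * σ e = 1) : ∃ k : F, k ≠ 0 ∧ σ k / k = e := by
  by_cases h : 1 + σ e = 0
  · obtain ⟨c, hc0, hc⟩ := exists_skew hs.ne_refl hs.inv
    have he' : e = -1 := by
      have := congrArg σ h
      rw [map_add, map_one, hs.inv, map_zero] at this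
      linear_combination this
    refine ⟨c, hc0, ?_⟩
    rw [he', div_eq_iff hc0]
    linear_combination hc
  · refine ⟨1 + σ e, h, ?_⟩
    rw [div_eq_iff h, map_add, map_one, hs.inv]
    linear_combination -he

/-- Isometries of determinant one move singular lines transitively. -/
theorem exists_line_move {u y : Fin 2 → F} (hu : Cfsg.hermForm 2 F q u u = 0) (hu0 : u ≠ 0)
    (hy : Cfsg.hermForm 2 F q y y = 0) (hy0 : y ≠ 0) :
    ∃ γ : GL (Fin 2) F, Iso (Cfsg.hermForm 2 F q) γ ∧ (γ : Matrix (Fin 2) (Fin 2) F).det = 1 ∧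
      ∃ k : F, k ≠ 0 ∧ (γ : Matrix (Fin 2) (Fin 2) F) *ᵥ u = k • y := by
  have hf := hs.form 2
  obtain ⟨v, hv, hvu⟩ := exists_iso_partner hf hu hu0
  obtain ⟨v', hv', hvy⟩ := exists_iso_partner hf hy hy0
  obtain ⟨d, hd, h⟩ := exists_pair_iso_scaled hs hu hv (by rw [hf.herm, hvu, map_one]) hy hv'
    (by rw [hf.herm, hvy, map_one])
  obtain ⟨k, hk0, hk⟩ := exists_ratio hs hd
  obtain ⟨γ, hγ, hdet, hγu⟩ := h k hk0
  refine ⟨γ, hγ, ?_, k, hk0, hγu⟩
  have hσk : σ k ≠ 0 := (map_ne_zero_iff _ σ.injective).2 hk0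
  rw [hdet, ← hk]
  field_simp

/-- In characteristic two the scaled movements are transitive on singular vectors. -/
theorem exists_even_move (h2 : (2 : F) = 0) {u y : Fin 2 → F} (hu : Cfsg.hermForm 2 F q u u = 0) (hu0 : u ≠ 0)
    (hy : Cfsg.hermForm 2 F q y y = 0) (hy0 : y ≠ 0) :
    ∃ (a : F) (γ : GL (Fin 2) F), a * σ a = 1 ∧ Iso (Cfsg.hermForm 2 F q) γ ∧
      (γ : Matrix (Fin 2) (Fin 2) F).det = σ a / a ∧ σ a • ((γ : Matrix (Fin 2) (Fin 2) F) *ᵥ u) = y := by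
  have hf := hs.form 2
  obtain ⟨v, hv, hvu⟩ := exists_iso_partner hf hu hu0
  obtain ⟨v', hv', hvy⟩ := exists_iso_partner hf hy hy0
  obtain ⟨d, hd, h⟩ := exists_pair_iso_scaled hs hu hv (by rw [hf.herm, hvu, map_one]) hy hv'
    (by rw [hf.herm, hvy, map_one])
  haveI : CharP F 2 := CharTwo.of_one_ne_zero_of_two_eq_zero one_ne_zero h2
  obtain ⟨e, he⟩ := FiniteField.isSquare_of_char_two (ringChar.eq F 2 ▸ rfl : ringChar F = 2) d
  have he' : e * σ e = 1 := by
    have h' : (e * σ e - 1) * (e * σ e - 1) = 0 := by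
      rw [he, map_mul] at hd
      linear_combination hd + (1 - e * σ e) * h2
    exact sub_eq_zero.1 (mul_self_eq_zero.1 h')
  obtain ⟨b, hb0, hb⟩ := exists_ratio hs he'
  obtain ⟨f, hf'⟩ := FiniteField.isSquare_of_char_two (ringChar.eq F 2 ▸ rfl : ringChar F = 2) (b * σ b)⁻¹
  have hσb : σ b ≠ 0 := (map_ne_zero_iff _ σ.injective).2 hb0
  have hf0 : f ≠ 0 := fun h => inv_ne_zero (mul_ne_zero hb0 hσb) (by rw [hf', h, mul_zero])
  have hσf : σ f = f := by
    have h' : (σ f - f) * (σ f - f) = 0 := by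
      have e : σ f * σ f = f * f := by rw [← map_mul, ← hf', map_inv₀, map_mul, hs.inv, mul_comm]
      linear_combination e + (f * f - σ f * f) * h2
    exact sub_eq_zero.1 (mul_self_eq_zero.1 h')
  obtain ⟨a, ha_eq⟩ : ∃ a, a = b * f := ⟨_, rfl⟩
  have ha : σ a / a = e := by rw [ha_eq, map_mul, hσf, mul_div_mul_right _ _ hf0, hb]
  have hnorm : a * σ a = 1 := by
    rw [ha_eq, map_mul, hσf, show b * f * (σ b * f) = (b * σ b) * (f * f) by ring, ← hf',
      mul_inv_cancel₀ (mul_ne_zero hb0 hσb)]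
  have hσa : σ a ≠ 0 := fun h => one_ne_zero (α := F) (by rw [← hnorm, h, mul_zero])
  have ha0 : a ≠ 0 := fun h => one_ne_zero (α := F) (by rw [← hnorm, h, zero_mul])
  obtain ⟨γ, hγ, hdet, hγu⟩ := h (σ a)⁻¹ (inv_ne_zero hσa)
  refine ⟨a, γ, hnorm, hγ, ?_, by rw [hγu, smul_smul, mul_inv_cancel₀ hσa, one_smul]⟩
  rw [hdet, map_inv₀, hs.inv, he, ← ha]
  field_simp

end CfsgLib.UnMinIndex
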