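/-
Dimension four: the second invariant of a point moved by a long root group.
-/
import Cfsg.Agent.Lib.UnMinIndex.Pairs

set_option autoImplicit false

namespace CfsgLib.UnMinIndex

open Matrix CfsgLib.Transvec CfsgLib.Transvec.Unitary CfsgLib.Classical.Unitary

variable {F : Type*} [Field F] [Fintype F] {q : ℕ} {σ : F ≃+* F}

variable (hs : Setup F q σ)
include hs

theorem sCount_two : sCount F q 2 = (q + 1) * (q ^ 2 - 1) := by
  have hq := hs.two_le
  rw [← @Nat.cast_inj ℤ, sCount_formula hs 1]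
  have h1 : 1 ≤ q ^ 2 := Nat.one_le_pow _ _ (by omega)
  push_cast [h1]
  ring

/-- A vector is determined by its products with two vectors of a hyperbolic line. -/
theorem eq_zero_of_forms {u v z : Fin 2 → F} (huu : Cfsg.hermForm 2 F q u u = 0)
    (hvv : Cfsg.hermForm 2 F q v v = 0) (huv : Cfsg.hermForm 2 F q u v ≠ 0)
    (hzu : Cfsg.hermForm 2 F q z u = 0) (hzv : Cfsg.hermForm 2 F q z v = 0) : z = 0 := by
  have hf := hs.form 2
  have h := decomp2 hs huu (v := (σ (Cfsg.hermForm 2 F q u v))⁻¹ • v)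
    (by rw [hf.smul_left, smul_right' hf, hvv, mul_zero, mul_zero])
    (by rw [smul_right' hf, map_inv₀, hs.inv, inv_mul_cancel₀ huv]) z
  rwa [smul_right' hf, hzu, hzv, mul_zero, zero_smul, zero_smul, add_zero, eq_comm] at h

omit hs in
/-- Lagrange in the form needed here. -/
theorem eq_or_two_mul_le {G : Type*} [AddCommGroup G] [Finite G] {W R : AddSubgroup G} (h : W ≤ R) :
    W = R ∨ 2 * Nat.card W ≤ Nat.card R := by
  by_cases he : Nat.card R ≤ Nat.card W
  · exact Or.inl (SetLike.coe_injective (Set.Finite.eq_of_subset_of_card_le (Set.toFinite _) h he))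
  · push Not at he
    obtain ⟨k, hk⟩ := AddSubgroup.card_dvd_of_le h
    refine Or.inr ?_
    rcases k with _ | _ | k
    · rw [mul_zero] at hk
      exact absurd hk (Nat.card_pos (α := R)).ne'
    · omega
    · rw [hk, mul_comm]
      exact Nat.mul_le_mul_left _ (by omega)

namespace Fr

variable (fr : Fr F q 2) {X : Type*} [MulAction (transvGroup σ (Cfsg.hermForm (2 + 2) F q)) X] [Finite X]

/-- The two closure properties of the second invariant, together with the count of its translates. -/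
theorem four_shape (hq3 : 3 ≤ q) (hlt : Nat.card X < (q + 1) * (q ^ 3 + 1)) {ω : X} {t₀ : F}
    (ht₀ : t₀ ∈ skew σ) (ht₀A : t₀ ∉ fr.Aof hs le_rfl ω) :
    fr.Aof hs le_rfl ω = ⊥ ∧ Nat.card (fr.Wof hs le_rfl ω) = q ^ 2 ∧
      q + 1 ≤ (fr.PW hs le_rfl X ⊥ (q ^ 2)).card ∧
      ∃ u, u ≠ 0 ∧ Cfsg.hermForm 2 F q u u = 0 ∧
        (∀ a ∈ fixd σ, ∀ z ∈ fr.Wof hs le_rfl ω, a • z ∈ fr.Wof hs le_rfl ω) ∧
        (∀ c ∈ skew σ, ∀ z ∈ fr.Wof hs le_rfl ω, z + (c * Cfsg.hermForm 2 F q z u) • u ∈ fr.Wof hs le_rfl ω) ∧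
        ((2 : F) ≠ 0 → ∀ b : F, b • u ∈ fr.Wof hs le_rfl ω) := by
  classical
  have hf := hs.form 2
  set A := fr.Aof hs le_rfl ω with hAdef
  set W := fr.Wof hs le_rfl ω with hWdef
  have hA : A ≤ skew σ := fr.Aof_le hs le_rfl ω
  obtain ⟨PS, hPS⟩ : ∃ PS, PS = fr.PW hs le_rfl X A (Nat.card W) := ⟨_, rfl⟩
  obtain ⟨M, hM⟩ : ∃ M, M = Nat.card X := ⟨_, rfl⟩
  obtain ⟨w, hw⟩ : ∃ w, w = Nat.card W := ⟨_, rfl⟩
  have hW : W ∈ PS := hPS ▸ (fr.mem_PW hs le_rfl).2 ⟨rfl, ω, rfl⟩
  have hcardW : ∀ W' ∈ PS, Nat.card W' = w := fun W' h => by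
    rw [hPS] at h
    exact ((fr.mem_PW hs le_rfl).1 h).1.trans hw.symm
  have hPpos : 1 ≤ PS.card := Finset.card_pos.2 ⟨W, hW⟩
  -- the inequalities
  have hineq : q * PS.card * q ^ (2 * 2) ≤ w * M := by
    rw [hPS, hw, hM]
    refine fr.main_ineq hs le_rfl (X := X) A _ q ?_
    by_cases hne : A = ⊥
    · rw [hne, AddSubgroup.card_bot, mul_one]
      exact Nat.le_mul_of_pos_left _ (Finset.card_pos.2 ⟨_, oaSet_nonempty ⊥⟩)
    · exact le_trans (Nat.mul_le_mul_right _ (Nat.le_succ q)) (oa_bound hs hA ht₀ ht₀A hne)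
  have hineq' : A ≠ ⊥ → (q + 1) * PS.card * q ^ (2 * 2) ≤ w * M := fun hne => by
    rw [hPS, hw, hM]
    exact fr.main_ineq hs le_rfl (X := X) A _ (q + 1) (oa_bound hs hA ht₀ ht₀A hne)
  have hB : M < (q + 1) * (q ^ 3 + 1) := hM ▸ hlt
  -- the perpendicular
  obtain ⟨ψ, hψA, hψ⟩ := exists_char A ht₀A
  obtain ⟨P, hP⟩ : ∃ P : Pairing 2 F, P = imPair (m := 2) hs ψ ⟨t₀, ht₀, hψ⟩ := ⟨_, rfl⟩
  have hperp : ∀ y, (∀ z ∈ W, imB 2 q y z ∈ A) → y ∈ P.perp W := fun y hy => hP ▸ fun z hz => hψA _ (hy z hz)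
  have hWP : W ≤ P.perp W := fun z hz => hperp z fun z' hz' => fr.imB_mem_Aof hs le_rfl ω hz hz'
  have hprod : Nat.card W * Nat.card (P.perp W) = q ^ 4 := by
    rw [P.card_mul_perp W, hs.card, ← pow_mul]
  have hw2 : w ≤ q ^ 2 := by
    have h : Nat.card W * Nat.card W ≤ q ^ 4 := (Nat.mul_le_mul_left _
      (Nat.card_le_card_of_injective (AddSubgroup.inclusion hWP) (AddSubgroup.inclusion_injective hWP))).trans
      (le_of_eq hprod)
    rw [← hw] at h
    exact Nat.mul_self_le_mul_self_iff.1 (h.trans (le_of_eq (by ring)))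
  have hwpos : 1 ≤ w := hw ▸ Nat.card_pos
  -- covering a set of vectors by the translates
  have hcover : ∀ T : Finset (Fin 2 → F), (∀ y ∈ T, y ≠ 0 ∧ ∃ W' ∈ PS, y ∈ W') → T.card ≤ PS.card * (w - 1) := by
    intro T hT
    have h := cover_card PS T (fun W' y => y ∈ W') 1 (w - 1) (fun y hy => ?_) (fun W' hW' => ?_)
    · rwa [mul_one] at h
    · obtain ⟨W', hW', hyW'⟩ := (hT y hy).2
      exact Finset.card_pos.2 ⟨W', Finset.mem_filter.2 ⟨hW', hyW'⟩⟩
    · haveI : Fintype W' := Fintype.ofFinite _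
      have hle : (T.filter fun y => y ∈ W').card ≤ ((Finset.univ.filter fun y => y ∈ W').erase 0).card :=
        Finset.card_le_card fun y hy => Finset.mem_erase.2 ⟨(hT y (Finset.mem_filter.1 hy).1).1,
          Finset.mem_filter.2 ⟨Finset.mem_univ _, (Finset.mem_filter.1 hy).2⟩⟩
      rw [Finset.card_erase_of_mem (Finset.mem_filter.2 ⟨Finset.mem_univ _, zero_mem W'⟩), ← Fintype.card_subtype,
        ← Nat.card_eq_fintype_card] at hle
      rw [← hcardW W' hW']
      exact hle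
  have hmoved : ∀ {a : F}, a ≠ 0 → ∀ {γ : GL (Fin 2) F}, Iso (Cfsg.hermForm 2 F q) γ →
      (γ : Matrix (Fin 2) (Fin 2) F).det = σ a / a → moveA (a * σ a) A = A → moveW (σ a) γ W ∈ PS := by
    intro a ha γ hγ hdet hfix
    have h := fr.moveW_mem_PW hs le_rfl (X := X) ha hγ hdet (hPS ▸ hW)
    rwa [hfix, ← hPS] at h
  by_cases hns : ∃ v ∈ W, Cfsg.hermForm 2 F q v v ≠ 0
  · exfalso
    obtain ⟨v, hv, hvv⟩ := hns
    have hv0 : v ≠ 0 := fun h => hvv (by rw [h, zero_left' hf])
    -- translates with arbitrary first invariant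
    obtain ⟨PT, hPT⟩ : ∃ PT : Finset (AddSubgroup (Fin 2 → F)), PT = Finset.univ.filter fun W' =>
        ∃ A', W' ∈ fr.PW hs le_rfl X A' w ∧ ∃ r : F, σ r = r ∧ r ≠ 0 ∧ moveA r A = A' := ⟨_, rfl⟩
    have hall : ∀ y : Fin 2 → F, Cfsg.hermForm 2 F q y y ≠ 0 → ∃ a, a ≠ 0 ∧ ∃ γ : GL (Fin 2) F,
        Iso (Cfsg.hermForm 2 F q) γ ∧ (γ : Matrix (Fin 2) (Fin 2) F).det = σ a / a ∧
          σ a • ((γ : Matrix (Fin 2) (Fin 2) F) *ᵥ v) = y := by
      intro y hy
      obtain ⟨a, ha⟩ := CfsgLib.Transvec.Unitary.exists_norm_eq hs.ne_refl hs.inv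
        (b := Cfsg.hermForm 2 F q y y / Cfsg.hermForm 2 F q v v) (by rw [map_div₀, self_fixed hf, self_fixed hf])
      have ha0 : a ≠ 0 := fun h => div_ne_zero hy hvv (by rw [← ha, h, zero_mul])
      obtain ⟨γ, h⟩ := exists_move_aniso hs le_rfl ha0 hvv (v' := y) (by rw [ha, div_mul_cancel₀ _ hvv])
      exact ⟨a, ha0, γ, h⟩
    choose! a ha γ hγ hdet hγv using hall
    let Ty := {y : Fin 2 → F // Cfsg.hermForm 2 F q y y ≠ 0}
    let pr : Ty → AddSubgroup F × AddSubgroup (Fin 2 → F) :=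
      fun y => (moveA (a y.1 * σ (a y.1)) A, moveW (σ (a y.1)) (γ y.1) W)
    let PP := Finset.univ.image pr
    have hPP1 : ∀ p ∈ PP, ∃ ω' : X, fr.inv hs le_rfl ω' = p := by
      intro p hp
      obtain ⟨y, -, rfl⟩ := Finset.mem_image.1 hp
      obtain ⟨-, ω', hω'⟩ := (fr.mem_PW hs le_rfl).1
        (fr.moveW_mem_PW hs le_rfl (X := X) (ha y.1 y.2) (hγ y.1 y.2) (hdet y.1 y.2) (hPS ▸ hW))
      exact ⟨ω', hω'⟩
    have hPP2 : ∀ p ∈ PP, Nat.card p.1 * Nat.card p.2 ≤ Nat.card A * w := by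
      intro p hp
      obtain ⟨y, -, rfl⟩ := Finset.mem_image.1 hp
      have hσa : σ (a y.1) ≠ 0 := (map_ne_zero_iff _ σ.injective).2 (ha y.1 y.2)
      show Nat.card (moveA _ A) * Nat.card (moveW _ _ W) ≤ _
      rw [card_moveA (mul_ne_zero (ha y.1 y.2) hσa), card_moveW hσa, ← hw]
    have h := fr.card_inv_le hs le_rfl (X := X) PP (Nat.card A * w) hPP1 hPP2
    rw [Rad.card_eq hs, ← hM] at h
    have hT : (Finset.univ.filter fun y : Fin 2 → F => Cfsg.hermForm 2 F q y y ≠ 0).card * 1 ≤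
        PP.card * (w - 1) := by
      refine cover_card PP _ (fun p y => y ∈ p.2) 1 (w - 1) (fun y hy => ?_) fun p hp => ?_
      · have hy' := (Finset.mem_filter.1 hy).2
        exact Finset.card_pos.2 ⟨pr ⟨y, hy'⟩, Finset.mem_filter.2 ⟨Finset.mem_image.2 ⟨⟨y, hy'⟩, Finset.mem_univ _, rfl⟩,
          by
            show y ∈ moveW (σ (a y)) (γ y) W
            have hm := moveW_mem (s := σ (a y)) (γ y) hv
            rwa [hγv y hy'] at hm⟩⟩
      · haveI : Fintype p.2 := Fintype.ofFinite _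
        have hle : ((Finset.univ.filter fun y : Fin 2 → F => Cfsg.hermForm 2 F q y y ≠ 0).filter fun y => y ∈ p.2).card ≤
            ((Finset.univ.filter fun y => y ∈ p.2).erase 0).card :=
          Finset.card_le_card fun y hy => by
            simp only [Finset.mem_filter, Finset.mem_univ, true_and] at hy
            exact Finset.mem_erase.2 ⟨fun h => hy.1 (by rw [h, zero_left' hf]),
              Finset.mem_filter.2 ⟨Finset.mem_univ _, hy.2⟩⟩
        rw [Finset.card_erase_of_mem (Finset.mem_filter.2 ⟨Finset.mem_univ _, zero_mem p.2⟩), ← Fintype.card_subtype,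
          ← Nat.card_eq_fintype_card] at hle
        obtain ⟨y, -, rfl⟩ := Finset.mem_image.1 hp
        refine hle.trans (le_of_eq ?_)
        show Nat.card (moveW (σ (a y.1)) (γ y.1) W) - 1 = _
        rw [card_moveW ((map_ne_zero_iff _ σ.injective).2 (ha y.1 y.2)), ← hw]
    rw [mul_one] at hT
    have hTc := card_nonsingular hs 2
    rw [sCount_two hs] at hTc
    have h2A := two_mul_card_le hs hA ht₀ ht₀A
    obtain ⟨N, hN⟩ : ∃ N, N = (Finset.univ.filter fun y : Fin 2 → F => Cfsg.hermForm 2 F q y y ≠ 0).card := ⟨_, rfl⟩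
    rw [← hN] at hT hTc
    obtain ⟨r, rfl⟩ : ∃ r, q = r + 3 := ⟨q - 3, by omega⟩
    have hq2 : (r + 3) ^ 2 - 1 = r * r + 6 * r + 8 := by
      have : (r + 3) ^ 2 = r * r + 6 * r + 8 + 1 := by ring
      omega
    rw [hq2] at hTc
    have hN' : N = (r + 3) * (r + 2) * (r * r + 6 * r + 8) := by
      have e : (r + 3) ^ (2 * 2) =
          (r + 3) * (r + 2) * (r * r + 6 * r + 8) + (r + 3 + 1) * (r * r + 6 * r + 8) + 1 := by ring
      linarith
    have k1 : (r + 3) ^ 5 * N ≤ Nat.card A * (w * (w - 1)) * M := by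
      calc (r + 3) ^ 5 * N ≤ (r + 3) ^ 5 * (PP.card * (w - 1)) := Nat.mul_le_mul_left _ hT
        _ = (w - 1) * (PP.card * (r + 3) ^ (2 * 2 + 1)) := by ring
        _ ≤ (w - 1) * (Nat.card A * w * M) := Nat.mul_le_mul_left _ h
        _ = _ := by ring
    have k2 : w * (w - 1) ≤ (r + 3) ^ 2 * (r * r + 6 * r + 8) :=
      Nat.mul_le_mul hw2 (le_trans (Nat.sub_le_sub_right hw2 1) (le_of_eq hq2))
    have k3 := k1.trans (Nat.mul_le_mul_right M (Nat.mul_le_mul_left (Nat.card A) k2))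
    rw [hN'] at k3
    have k4 : (r + 3) ^ 4 * (r + 2) ≤ Nat.card A * M :=
      Nat.le_of_mul_le_mul_left (show (r + 3) ^ 2 * (r * r + 6 * r + 8) * ((r + 3) ^ 4 * (r + 2)) ≤
          (r + 3) ^ 2 * (r * r + 6 * r + 8) * (Nat.card A * M) by
        refine le_trans (le_of_eq ?_) (k3.trans (le_of_eq ?_)) <;> ring) (by positivity)
    rcases Nat.eq_zero_or_pos r with rfl | hr
    · have : Nat.card A * M ≤ 1 * M := Nat.mul_le_mul_right _ (by omega)
      norm_num at k4 hB this
      omega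
    · have k5 : 2 * (r + 3) ^ 3 * (r + 2) ≤ M := by
        refine Nat.le_of_mul_le_mul_left (?_ : (r + 3) * (2 * (r + 3) ^ 3 * (r + 2)) ≤ (r + 3) * M) (by omega)
        calc (r + 3) * (2 * (r + 3) ^ 3 * (r + 2)) = 2 * ((r + 3) ^ 4 * (r + 2)) := by ring
          _ ≤ 2 * (Nat.card A * M) := Nat.mul_le_mul_left _ k4
          _ = 2 * Nat.card A * M := by ring
          _ ≤ (r + 3) * M := Nat.mul_le_mul_right _ h2A
      ring_nf at k5 hB
      linarith [Nat.zero_le (r ^ 2), Nat.zero_le (r ^ 3), Nat.zero_le (r ^ 4)]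
  push Not at hns
  by_cases hbot0 : ∀ z ∈ W, z = (0 : Fin 2 → F)
  · exfalso
    have hw1 : w = 1 := by
      rw [hw, (AddSubgroup.eq_bot_iff_forall W).2 hbot0, AddSubgroup.card_bot]
    rw [hw1, one_mul] at hineq
    have := (Nat.mul_le_mul_right (q ^ (2 * 2)) (Nat.mul_le_mul_left q hPpos)).trans hineq
    obtain ⟨r, rfl⟩ : ∃ r, q = r + 3 := ⟨q - 3, by omega⟩
    ring_nf at this hB
    linarith [Nat.zero_le r, Nat.zero_le (r ^ 2), Nat.zero_le (r ^ 3), Nat.zero_le (r ^ 4), Nat.zero_le (r ^ 5)]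
  push Not at hbot0
  obtain ⟨u, hu, hu0⟩ := hbot0
  have huu := hns u hu
  have hre : ∀ z ∈ W, ∀ z' ∈ W, Cfsg.hermForm 2 F q z z' ∈ skew σ := fun z hz z' hz' => by
    have h := reB_eq_zero_of_singular hs hns hz hz'
    rw [reB, hf.herm z' z] at h
    exact mem_skew.2 h
  have hwfinal : A = ⊥ → q + 1 ≤ PS.card → w = q ^ 2 ∨ 2 * w ≤ q ^ 2 → w = q ^ 2 := by
    rintro - hP' (h | h)
    · exact h
    · exfalso
      have h1 : 2 * ((q + 1) * q ^ 5) ≤ q ^ 2 * M := by
        calc 2 * ((q + 1) * q ^ 5) ≤ 2 * (PS.card * q ^ 5) :=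
              Nat.mul_le_mul_left _ (Nat.mul_le_mul_right _ hP')
          _ = 2 * (q * PS.card * q ^ (2 * 2)) := by ring
          _ ≤ 2 * (w * M) := Nat.mul_le_mul_left _ hineq
          _ = 2 * w * M := by ring
          _ ≤ q ^ 2 * M := Nat.mul_le_mul_right _ h
      nlinarith
  have hAbot : q + 1 ≤ PS.card → A = ⊥ := fun hP' => by
    by_contra hne
    have h1 : (q + 1) * (q + 1) * q ^ 4 ≤ q ^ 2 * M :=
      le_trans (Nat.mul_le_mul_right _ (Nat.mul_le_mul_left _ hP'))
        ((hineq' hne).trans (Nat.mul_le_mul_right _ hw2))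
    nlinarith
  by_cases hline : ∀ z ∈ W, Cfsg.hermForm 2 F q z u = 0
  · obtain ⟨R, hR⟩ : ∃ R : AddSubgroup (Fin 2 → F), R = (Submodule.span F {u}).toAddSubgroup := ⟨_, rfl⟩
    obtain ⟨v, hvv, hvu⟩ := exists_iso_partner hf huu hu0
    have hWR : W ≤ R := fun z hz => by
      rw [hR]
      have h := decomp2 hs huu hvv (by rw [hf.herm, hvu, map_one]) z
      rw [hline z hz, zero_smul, add_zero] at h
      exact Submodule.mem_span_singleton.2 ⟨_, h⟩
    have hRc : Nat.card R = q ^ 2 := by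
      rw [hR]
      show Nat.card (Submodule.span F ({u} : Set (Fin 2 → F))) = _
      rw [Module.natCard_eq_pow_finrank (K := F), finrank_span_singleton hu0, pow_one, Nat.card_eq_fintype_card,
        hs.card]
    have hP' : q + 1 ≤ PS.card := by
      obtain ⟨PL, hPL⟩ : ∃ PL, PL = PS.filter fun W' : AddSubgroup (Fin 2 → F) =>
          Module.finrank F (Submodule.span F (W' : Set (Fin 2 → F))) ≤ 1 := ⟨_, rfl⟩
      have hT : ∀ y ∈ Finset.univ.filter fun y : Fin 2 → F => y ≠ 0 ∧ Cfsg.hermForm 2 F q y y = 0,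
          1 ≤ (PL.filter fun W' : AddSubgroup (Fin 2 → F) => y ∈ Submodule.span F (W' : Set (Fin 2 → F))).card := by
        intro y hy
        obtain ⟨hy0, hyy⟩ := (Finset.mem_filter.1 hy).2
        obtain ⟨γ, hγ, hdet, k, hk, hγu⟩ := exists_line_move hs huu hu0 hyy hy0
        have h := hmoved (one_ne_zero (α := F)) hγ (by rw [hdet, map_one, div_one])
          (by rw [map_one, mul_one, moveA_one])
        have hmem : moveW (σ (1 : F)) γ W ∈ PL := by
          rw [hPL]
          refine Finset.mem_filter.2 ⟨h, le_trans (Submodule.finrank_mono (t := Submodule.span F {k • y})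
            (Submodule.span_le.2 ?_)) (le_of_eq (finrank_span_singleton (smul_ne_zero hk hy0)))⟩
          rintro _ ⟨z, hz, rfl⟩
          obtain ⟨l, rfl⟩ := Submodule.mem_span_singleton.1 (show z ∈ Submodule.span F {u} by have h' := hWR hz; rw [hR] at h'; exact h')
          show σ (1 : F) • ((γ : Matrix (Fin 2) (Fin 2) F) *ᵥ (l • u)) ∈ _
          rw [mulVec_smul, hγu, map_one, one_smul]
          exact Submodule.smul_mem _ _ (Submodule.mem_span_singleton_self _)
        refine Finset.card_pos.2 ⟨_, Finset.mem_filter.2 ⟨hmem, ?_⟩⟩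
        have hm : k • y ∈ Submodule.span F (moveW (σ (1 : F)) γ W : Set (Fin 2 → F)) := by
          refine Submodule.subset_span ?_
          have hm := moveW_mem (s := σ (1 : F)) γ hu
          rwa [hγu, show ∀ v : Fin 2 → F, σ (1 : F) • v = v from fun v => by rw [map_one, one_smul]] at hm
        exact (Submodule.smul_mem_iff _ hk).1 hm
      have h := cover_card PL _ (fun W' y => y ∈ Submodule.span F (W' : Set (Fin 2 → F))) 1 (q ^ 2 - 1) hT
        (fun W' hW' => ?_)
      · rw [mul_one, ← Fintype.card_subtype, ← Nat.card_eq_fintype_card] at h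
        have h' : (q + 1) * (q ^ 2 - 1) ≤ PS.card * (q ^ 2 - 1) :=
          (sCount_two hs) ▸ h.trans (Nat.mul_le_mul_right _ (Finset.card_le_card (hPL ▸ Finset.filter_subset _ _)))
        refine Nat.le_of_mul_le_mul_right h' ?_
        have := Nat.pow_le_pow_left hq3 2
        omega
      · have hsp := (Finset.mem_filter.1 (hPL ▸ hW')).2
        refine le_trans (Finset.card_le_card (t := (Finset.univ.filter fun y =>
          y ∈ Submodule.span F (W' : Set (Fin 2 → F))).erase 0) fun y hy => ?_) ?_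
        · obtain ⟨hy1, hy2⟩ := Finset.mem_filter.1 hy
          exact Finset.mem_erase.2 ⟨(Finset.mem_filter.1 hy1).2.1, Finset.mem_filter.2 ⟨Finset.mem_univ _, hy2⟩⟩
        · rw [Finset.card_erase_of_mem (Finset.mem_filter.2 ⟨Finset.mem_univ _, zero_mem _⟩), ← Fintype.card_subtype,
            ← Nat.card_eq_fintype_card, Module.natCard_eq_pow_finrank (K := F), Nat.card_eq_fintype_card, hs.card]
          refine Nat.sub_le_sub_right ?_ 1
          calc (q ^ 2) ^ _ ≤ (q ^ 2) ^ 1 := Nat.pow_le_pow_right (Nat.one_le_pow _ _ (by omega)) hsp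
            _ = q ^ 2 := pow_one _
    have hA0 := hAbot hP'
    have hwq : w = q ^ 2 := by
      refine hwfinal hA0 hP' ?_
      rcases eq_or_two_mul_le hWR with h | h
      · exact Or.inl (by rw [hw, h, hRc])
      · exact Or.inr (hw ▸ hRc ▸ h)
    have hWR' : W = R := by
      rcases eq_or_two_mul_le hWR with h | h
      · exact h
      · rw [hRc, ← hw, hwq] at h
        have := Nat.pow_le_pow_left hq3 2
        omega
    refine ⟨hA0, hw ▸ hwq, by rwa [hPS, hA0, ← hw, hwq] at hP', u, hu0, huu, fun b _ z hz => ?_,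
      fun c _ z hz => ?_, fun _ b => by
        show b • u ∈ W
        rw [hWR', hR]
        exact Submodule.smul_mem _ b (Submodule.mem_span_singleton_self u)⟩
    · rw [hWR', hR] at hz ⊢
      exact Submodule.smul_mem _ b hz
    · rw [hline z hz, mul_zero, zero_smul, add_zero]
      exact hz
  push Not at hline
  obtain ⟨v, hv, hvu⟩ := hline
  have hvv := hns v hv
  have huv : Cfsg.hermForm 2 F q u v ≠ 0 := fun h => hvu ((eq_zero_comm hf).mp h)
  obtain ⟨d, hd⟩ : ∃ d, d = Cfsg.hermForm 2 F q v u := ⟨_, rfl⟩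
  have hdskew : d ∈ skew σ := hd ▸ hre v hv u hu
  have hσd : σ d = -d := by linear_combination mem_skew.1 hdskew
  have huvd : Cfsg.hermForm 2 F q u v = -d := by rw [hf.herm, ← hd, hσd]
  by_cases h2 : (2 : F) = 0
  swap
  · exfalso
    have hAne : A ≠ ⊥ := fun h => by
      have := fr.imB_mem_Aof hs le_rfl ω hv hu
      rw [← hAdef, h, AddSubgroup.mem_bot, imB, huvd, ← hd, sub_neg_eq_add, ← two_mul] at this
      exact hvu (hd ▸ (mul_eq_zero.1 this).resolve_left h2)
    -- the subgroup is small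
    have hwq : w ≤ q := by
      let j : W × fixd σ × fixd σ → P.perp W := fun x =>
        ⟨x.1.1 + ((d * x.2.1.1) • u + (d * x.2.2.1) • v), add_mem (hWP x.1.2) (hperp _ fun z hz => by
          have e1 : Cfsg.hermForm 2 F q u z = -Cfsg.hermForm 2 F q z u := by
            rw [hf.herm z u]; linear_combination mem_skew.1 (hre u hu z hz)
          have e2 : Cfsg.hermForm 2 F q v z = -Cfsg.hermForm 2 F q z v := by
            rw [hf.herm z v]; linear_combination mem_skew.1 (hre v hv z hz)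
          have : imB 2 q ((d * x.2.1.1) • u + (d * x.2.2.1) • v) z = 0 := by
            simp only [imB, hf.add_left, add_right' hf, hf.smul_left, smul_right' hf, map_mul, hσd,
              mem_fixd.1 x.2.1.2, mem_fixd.1 x.2.2.2, e1, e2]
            ring
          rw [this]
          exact zero_mem _)⟩
      have hj : Function.Injective j := by
        intro x y e
        have e' : x.1.1 + ((d * x.2.1.1) • u + (d * x.2.2.1) • v) =
            y.1.1 + ((d * y.2.1.1) • u + (d * y.2.2.1) • v) := congrArg Subtype.val e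
        have hs1 := hre _ (sub_mem x.1.2 y.1.2) u hu
        have hs2 := hre _ (sub_mem x.1.2 y.1.2) v hv
        have f1 := congrArg (fun z => Cfsg.hermForm 2 F q z u) e'
        have f2 := congrArg (fun z => Cfsg.hermForm 2 F q z v) e'
        simp only [hf.add_left, hf.smul_left, huu, hvv, ← hd, huvd, mul_zero, add_zero, zero_add] at f1 f2
        rw [mem_skew, sub_left' hf] at hs1 hs2
        rw [show Cfsg.hermForm 2 F q x.1.1 u - Cfsg.hermForm 2 F q y.1.1 u = (y.2.2.1 - x.2.2.1) * (d * d) by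
          linear_combination f1, map_mul, map_sub, map_mul, hσd, mem_fixd.1 x.2.2.2, mem_fixd.1 y.2.2.2] at hs1
        rw [show Cfsg.hermForm 2 F q x.1.1 v - Cfsg.hermForm 2 F q y.1.1 v = -((y.2.1.1 - x.2.1.1) * (d * d)) by
          linear_combination f2, map_neg, map_mul, map_sub, map_mul, hσd, mem_fixd.1 x.2.1.2, mem_fixd.1 y.2.1.2] at hs2
        have hd0 : d ≠ 0 := hd ▸ hvu
        have g1 : y.2.2.1 - x.2.2.1 = 0 := by
          have : (2 * (d * d)) * (y.2.2.1 - x.2.2.1) = 0 := by linear_combination hs1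
          exact (mul_eq_zero.1 this).resolve_left (mul_ne_zero h2 (mul_ne_zero hd0 hd0))
        have g2 : y.2.1.1 - x.2.1.1 = 0 := by
          have : (2 * (d * d)) * (y.2.1.1 - x.2.1.1) = 0 := by linear_combination -hs2
          exact (mul_eq_zero.1 this).resolve_left (mul_ne_zero h2 (mul_ne_zero hd0 hd0))
        have g2' : x.2.1 = y.2.1 := Subtype.ext (sub_eq_zero.1 g2).symm
        have g1' : x.2.2 = y.2.2 := Subtype.ext (sub_eq_zero.1 g1).symm
        rw [g1', g2', add_left_inj] at e'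
        exact Prod.ext (Subtype.ext e') (Prod.ext g2' g1')
      have h := Nat.card_le_card_of_injective j hj
      rw [Nat.card_prod, Nat.card_prod, card_fixd hs, ← hw] at h
      rw [← hw] at hprod
      refine Nat.mul_self_le_mul_self_iff.1 ?_
      refine Nat.le_of_mul_le_mul_left (?_ : q * q * (w * w) ≤ q * q * (q * q)) (by positivity)
      calc q * q * (w * w) = w * (w * (q * q)) := by ring
        _ ≤ w * Nat.card (P.perp W) := Nat.mul_le_mul_left _ h
        _ = q ^ 4 := hprod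
        _ = _ := by ring
    -- and not invariant
    have htwo : 2 ≤ PS.card := by
      by_contra h1
      have huniq : ∀ W' ∈ PS, W' = W := fun W' hW' => Finset.card_le_one.1 (by omega) W' hW' W hW
      have hinv : ∀ {y : Fin 2 → F}, y ∈ W → ∀ c ∈ skew σ, ∀ z ∈ W, (c * Cfsg.hermForm 2 F q z y) • y ∈ W := by
        intro y hy c hc z hz
        have hyy := hns y hy
        have h := huniq _ (hmoved (one_ne_zero (α := F)) (iso_uT hf hyy hc)
          (by rw [(transvGroup_le hf (uT_mem hf hyy hc)).2, map_one, div_one]) (by rw [map_one, mul_one, moveA_one]))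
        have hm := moveW_mem (s := σ (1 : F)) (uT (Cfsg.hermForm 2 F q) y c) hz
        rw [h, map_one, one_smul, uT_mulVec hf hyy] at hm
        have := sub_mem hm hz
        rwa [add_sub_cancel_left] at this
      refine ht₀A ?_
      have hd0 : d ≠ 0 := hd ▸ hvu
      have hc : -(t₀ / (2 * (d * d))) ∈ skew σ := by
        have ht : σ t₀ = -t₀ := by linear_combination mem_skew.1 ht₀
        rw [mem_skew, map_neg, map_div₀, map_mul, map_mul, map_ofNat, hσd, ht]
        field_simp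
        ring
      have h1' := hinv hu _ hc v hv
      rw [← hd] at h1'
      have h2' := fr.imB_mem_Aof hs le_rfl ω h1' hv
      rw [imB, hf.smul_left, smul_right' hf, ← hd, huvd, map_mul, map_neg, map_div₀, map_mul, map_mul, map_ofNat,
        hσd, show σ t₀ = -t₀ by linear_combination mem_skew.1 ht₀] at h2'
      convert h2' using 1
      field_simp
      ring
    have h1 : (q + 1) * 2 * q ^ 4 ≤ q * M :=
      le_trans (Nat.mul_le_mul_right _ (Nat.mul_le_mul_left _ htwo))
        ((hineq' hAne).trans (Nat.mul_le_mul_right _ hwq))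
    nlinarith
  -- characteristic two
  have hfix : ∀ {c : F}, c ∈ skew σ → σ c = c := fun {c} hc => by linear_combination mem_skew.1 hc - c * h2
  have hskew : ∀ {c : F}, σ c = c → c ∈ skew σ := fun {c} hc => mem_skew.2 (by linear_combination hc + c * h2)
  have hd0 : d ≠ 0 := hd ▸ hvu
  have hP' : q + 1 ≤ PS.card := by
    have hT : ∀ y ∈ Finset.univ.filter fun y : Fin 2 → F => y ≠ 0 ∧ Cfsg.hermForm 2 F q y y = 0,
        y ≠ 0 ∧ ∃ W' ∈ PS, y ∈ W' := by
      intro y hy
      obtain ⟨hy0, hyy⟩ := (Finset.mem_filter.1 hy).2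
      obtain ⟨a, γ, ha, hγ, hdet, hγu⟩ := exists_even_move hs h2 huu hu0 hyy hy0
      have ha0 : a ≠ 0 := fun h => one_ne_zero (α := F) (by rw [← ha, h, zero_mul])
      exact ⟨hy0, _, hmoved ha0 hγ hdet (by rw [ha, moveA_one]), hγu ▸ moveW_mem γ hu⟩
    have h := hcover _ hT
    rw [← Fintype.card_subtype, ← Nat.card_eq_fintype_card] at h
    have h' : (q + 1) * (q ^ 2 - 1) ≤ PS.card * (q ^ 2 - 1) :=
      le_trans (le_of_eq (sCount_two hs).symm) (h.trans (Nat.mul_le_mul_left _ (Nat.sub_le_sub_right hw2 1)))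
    refine Nat.le_of_mul_le_mul_right h' ?_
    have := Nat.pow_le_pow_left hq3 2
    omega
  have hA0 := hAbot hP'
  let ρ : fixd σ × fixd σ →+ (Fin 2 → F) :=
    { toFun := fun x => x.1.1 • u + x.2.1 • v
      map_zero' := by simp
      map_add' := fun x y => by simp only [Prod.fst_add, Prod.snd_add, AddSubgroup.coe_add]; module }
  have hρ : Function.Injective ρ := by
    intro x y e
    have e' : x.1.1 • u + x.2.1 • v = y.1.1 • u + y.2.1 • v := e
    have f1 := congrArg (fun z => Cfsg.hermForm 2 F q z u) e'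
    have f2 := congrArg (fun z => Cfsg.hermForm 2 F q z v) e'
    simp only [hf.add_left, hf.smul_left, huu, hvv, ← hd, huvd, mul_zero, add_zero, zero_add] at f1 f2
    exact Prod.ext (Subtype.ext (mul_right_cancel₀ (neg_ne_zero.2 hd0) f2)) (Subtype.ext (mul_right_cancel₀ hd0 f1))
  have hWR : W ≤ ρ.range := fun z hz => by
    obtain ⟨α, hα⟩ : ∃ α, α = -(Cfsg.hermForm 2 F q z v / d) := ⟨_, rfl⟩
    obtain ⟨β, hβ⟩ : ∃ β, β = Cfsg.hermForm 2 F q z u / d := ⟨_, rfl⟩
    have hαf : α ∈ fixd σ := by rw [mem_fixd, hα, map_neg, map_div₀, hfix (hre z hz v hv), hfix hdskew]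
    have hβf : β ∈ fixd σ := by rw [mem_fixd, hβ, map_div₀, hfix (hre z hz u hu), hfix hdskew]
    refine ⟨(⟨α, hαf⟩, ⟨β, hβf⟩), ?_⟩
    show α • u + β • v = z
    refine sub_eq_zero.1 (eq_zero_of_forms hs huu hvv huv ?_ ?_)
    · rw [sub_left' hf, hf.add_left, hf.smul_left, hf.smul_left, huu, ← hd, hβ, div_mul_cancel₀ _ hd0, mul_zero,
        zero_add, sub_self]
    · rw [sub_left' hf, hf.add_left, hf.smul_left, hf.smul_left, hvv, huvd, hα, neg_mul_neg, div_mul_cancel₀ _ hd0,
        mul_zero, add_zero, sub_self]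
  have hRc : Nat.card ρ.range = q ^ 2 := by
    rw [← Nat.card_congr (AddMonoidHom.ofInjective hρ).toEquiv, Nat.card_prod, card_fixd hs, sq]
  have hwq : w = q ^ 2 := by
    refine hwfinal hA0 hP' ?_
    rcases eq_or_two_mul_le hWR with h | h
    · exact Or.inl (by rw [hw, h, hRc])
    · exact Or.inr (hw ▸ hRc ▸ h)
  have hWR' : W = ρ.range := by
    rcases eq_or_two_mul_le hWR with h | h
    · exact h
    · rw [hRc, ← hw, hwq] at h
      have := Nat.pow_le_pow_left hq3 2
      omega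
  refine ⟨hA0, hw ▸ hwq, by rwa [hPS, hA0, ← hw, hwq] at hP', u, hu0, huu, fun b hb z hz => ?_, fun c hc z hz => ?_,
    fun hne => absurd h2 hne⟩
  · rw [hWR'] at hz ⊢
    obtain ⟨⟨α, β⟩, rfl⟩ := hz
    refine ⟨(⟨b * α.1, mem_fixd.2 (by rw [map_mul, mem_fixd.1 hb, mem_fixd.1 α.2])⟩,
      ⟨b * β.1, mem_fixd.2 (by rw [map_mul, mem_fixd.1 hb, mem_fixd.1 β.2])⟩), ?_⟩
    show (b * α.1) • u + (b * β.1) • v = b • (α.1 • u + β.1 • v)
    module
  · rw [hWR'] at hz ⊢
    obtain ⟨⟨α, β⟩, rfl⟩ := hz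
    refine ⟨(⟨α.1 + c * (β.1 * d), mem_fixd.2 (by
      rw [map_add, map_mul, map_mul, hfix hc, hfix hdskew, mem_fixd.1 α.2, mem_fixd.1 β.2])⟩, β), ?_⟩
    show (α.1 + c * (β.1 * d)) • u + β.1 • v = α.1 • u + β.1 • v +
      (c * Cfsg.hermForm 2 F q (α.1 • u + β.1 • v) u) • u
    rw [hf.add_left, hf.smul_left, hf.smul_left, huu, ← hd, mul_zero, zero_add]
    module

end Fr

end CfsgLib.UnMinIndex
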