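/-
Dimension four: a transvection fixes exactly `q` points, which contradicts the double count.
-/
import Cfsg.Agent.Lib.UnMinIndex.FourShapes
import Cfsg.Agent.Lib.UnMinIndex.Final

set_option autoImplicit false

namespace CfsgLib.UnMinIndex

open Matrix CfsgLib.Transvec CfsgLib.Transvec.Unitary CfsgLib.Classical.Unitary

variable {F : Type*} [Field F] [Fintype F] {q : ℕ} {σ : F ≃+* F} {m : ℕ}

variable (hs : Setup F q σ)
include hs

namespace Fr

variable (hm : 2 ≤ m) (fr : Fr F q m) {X : Type*} [MulAction (transvGroup σ (Cfsg.hermForm (m + 2) F q)) X]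
include hm

theorem rad_zr_mul {c c' : F} (hc : c ∈ skew σ) (hc' : c' ∈ skew σ) :
    fr.rad hs hm (Rad.zr hs hc) * fr.rad hs hm (Rad.zr hs hc') = fr.rad hs hm (Rad.zr hs (add_mem hc hc')) := by
  rw [fr.rad_mul hs hm]
  congr 1
  refine Subtype.ext (Prod.ext (add_zero _) ?_)
  show c + c' - Cfsg.hermForm m F q 0 0 = c + c'
  rw [zero_left' (hs.form m), sub_zero]

/-- Moving a radical element past an element of the normaliser. -/
theorem mov_rad {g : transvGroup σ (Cfsg.hermForm (m + 2) F q)} {a : F} {γ : GL (Fin m) F}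
    (hg : fr.Mov (σ := σ) g.1 a γ) (p : Rad σ q m) (ν : X) :
    g • fr.rad hs hm p • ν = fr.rad hs hm (fr.tr hs hg p) • g • ν := by
  rw [← mul_smul, ← mul_smul, ← fr.rad_conj hs hm hg, inv_mul_cancel_right]

theorem mov_zr {g : transvGroup σ (Cfsg.hermForm (m + 2) F q)} {a : F} {γ : GL (Fin m) F}
    (hg : fr.Mov (σ := σ) g.1 a γ) {c : F} (hc : c ∈ skew σ) (hc' : a * σ a * c ∈ skew σ) (ν : X) :
    g • fr.rad hs hm (Rad.zr hs hc) • ν = fr.rad hs hm (Rad.zr hs hc') • g • ν := by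
  rw [fr.mov_rad hs hm hg]
  congr 2
  refine Subtype.ext (Prod.ext ?_ rfl)
  show σ a • ((γ : Matrix (Fin m) (Fin m) F) *ᵥ (0 : Fin m → F)) = 0
  rw [mulVec_zero, smul_zero]

theorem smul_rad_diff {ν : X} {r r' : Rad σ q m} (h : fr.rad hs hm r • ν = fr.rad hs hm r' • ν) :
    fr.rad hs hm (Rad.mul hs (Rad.inv hs r') r) • ν = ν := by
  rw [← fr.rad_mul hs hm, ← fr.rad_inv hs hm, mul_smul, h, inv_smul_smul]

theorem rad_diff_mem {ν : X} {r r' : Rad σ q m} (h : fr.rad hs hm r • ν = fr.rad hs hm r' • ν) :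
    r.1.1 - r'.1.1 ∈ fr.Wof hs hm ν :=
  ⟨_, show -r'.1.1 + r.1.1 = r.1.1 - r'.1.1 by abel, fr.smul_rad_diff hs hm h⟩

/-- A radical parameter over zero fixing a point of trivial first invariant is trivial. -/
theorem eq_zero_of_fix {ν : X} (hA : fr.Aof hs hm ν = ⊥) {p : Rad σ q m} (hw : p.1.1 = 0)
    (h : fr.rad hs hm p • ν = ν) : p.1.2 = 0 := by
  have hc : p.1.2 ∈ skew σ := by
    have := p.2
    rw [hw, zero_left' (hs.form m), add_zero] at this
    exact this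
  have h2 : p.1.2 ∈ fr.Aof hs hm ν := ⟨hc, by
    rwa [show Rad.zr hs hc = p from Subtype.ext (Prod.ext hw.symm rfl)]⟩
  rwa [hA, AddSubgroup.mem_bot] at h2

theorem rad_eq_of_w {ν : X} (hA : fr.Aof hs hm ν = ⊥) {r r' : Rad σ q m} (hw : r.1.1 = r'.1.1)
    (h : fr.rad hs hm r • ν = fr.rad hs hm r' • ν) : r = r' := by
  have h0 : σ r'.1.2 + r.1.2 - Cfsg.hermForm m F q r.1.1 (-r'.1.1) = 0 :=
    fr.eq_zero_of_fix hs hm hA (show -r'.1.1 + r.1.1 = 0 by rw [hw, neg_add_cancel]) (fr.smul_rad_diff hs hm h)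
  refine Subtype.ext (Prod.ext hw ?_)
  rw [hw, ← neg_one_smul F r'.1.1, smul_right' (hs.form m), map_neg, map_one] at h0
  linear_combination h0 - r'.2

/-- Points in distinct orbits with trivial first invariant give many points moved by the central elements. -/
theorem orbits_moved [Finite X] {ι : Type*} [Finite ι] (pts : ι → X) {w : ℕ} (hA : ∀ i, fr.Aof hs hm (pts i) = ⊥)
    (hW : ∀ i, Nat.card (fr.Wof hs hm (pts i)) = w) (hd : ∀ i j r, fr.rad hs hm r • pts i = pts j → i = j)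
    {c₀ : F} (hc₀ : c₀ ∈ skew σ) (hc₀0 : c₀ ≠ 0) :
    Nat.card ι * q ^ (2 * m + 1) ≤ w * Nat.card {ν : X // fr.rad hs hm (Rad.zr hs hc₀) • ν ≠ ν} := by
  classical
  haveI : Fintype ι := Fintype.ofFinite ι
  let Y := Σ i, {ν : X // ∃ r, fr.rad hs hm r • pts i = ν}
  have hrep : ∀ y : Y, ∃ r, fr.rad hs hm r • pts y.1 = y.2.1 := fun y => y.2.2
  choose rep hrep using hrep
  let code : ι × Rad σ q m → Σ y : Y, fr.Wof hs hm (pts y.1) := fun x =>
    ⟨⟨x.1, _, x.2, rfl⟩, ⟨x.2.1.1 - (rep ⟨x.1, _, x.2, rfl⟩).1.1,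
      fr.rad_diff_mem hs hm ((hrep ⟨x.1, _, x.2, rfl⟩).symm)⟩⟩
  have hcode : Function.Injective code := by
    rintro ⟨i, r⟩ ⟨j, r'⟩ e
    have e' := congrArg (fun z => (z.1.1, (z.1.2.1, (z.2 : Fin m → F)))) e
    simp only [code, Prod.mk.injEq] at e'
    obtain ⟨rfl, e3, e4⟩ := e'
    rw [show (⟨i, fr.rad hs hm r' • pts i, r', rfl⟩ : Y) = ⟨i, fr.rad hs hm r • pts i, r, rfl⟩ from
      congrArg (Sigma.mk i) (Subtype.ext e3.symm), sub_left_inj] at e4
    exact Prod.ext rfl (fr.rad_eq_of_w hs hm (hA i) e4 e3)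
  have h1 := Nat.card_le_card_of_injective code hcode
  haveI : Fintype Y := Fintype.ofFinite Y
  rw [Nat.card_prod, Rad.card_eq hs, Nat.card_sigma, Finset.sum_congr rfl fun y _ => hW y.1, Finset.sum_const,
    smul_eq_mul, Finset.card_univ, ← Nat.card_eq_fintype_card, mul_comm (Nat.card Y) w] at h1
  refine h1.trans (Nat.mul_le_mul_left _ ?_)
  refine Nat.card_le_card_of_injective (fun y : Y => (⟨y.2.1, fun hfix => hc₀0 ?_⟩ :
    {ν : X // fr.rad hs hm (Rad.zr hs hc₀) • ν ≠ ν})) ?_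
  · obtain ⟨r, hr⟩ := y.2.2
    have hA' : fr.Aof hs hm y.2.1 = ⊥ := by
      rw [← hr]
      exact (Prod.ext_iff.1 (fr.inv_rad hs hm r (pts y.1))).1.trans (hA _)
    exact fr.eq_zero_of_fix hs hm hA' rfl hfix
  · rintro ⟨i, ν, r, hr⟩ ⟨j, ν', r', hr'⟩ e
    have e' : ν = ν' := congrArg Subtype.val e
    subst e'
    obtain rfl : i = j := hd i j (Rad.mul hs (Rad.inv hs r') r) (by
      rw [← fr.rad_mul hs hm, ← fr.rad_inv hs hm, mul_smul, hr, ← hr', inv_smul_smul])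
    rfl

end Fr

/-- Conjugate transvections fix equally many points. -/
theorem fix_conj {X : Type*} [MulAction (transvGroup σ (Cfsg.hermForm (m + 2) F q)) X] (hm : 2 ≤ m)
    {v v' : Fin (m + 2) → F} (hv : Cfsg.hermForm (m + 2) F q v v = 0) (hv0 : v ≠ 0)
    (hv' : Cfsg.hermForm (m + 2) F q v' v' = 0) (hv'0 : v' ≠ 0) {c : F}
    {g g' : transvGroup σ (Cfsg.hermForm (m + 2) F q)} (hg : g.1 = uT (Cfsg.hermForm (m + 2) F q) v c)
    (hg' : g'.1 = uT (Cfsg.hermForm (m + 2) F q) v' c) :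
    Nat.card {ν : X // g • ν = ν} = Nat.card {ν : X // g' • ν = ν} := by
  have hf := hs.form (m + 2)
  obtain ⟨k, hk⟩ := move_singular hs hm hv hv0 hv' hv'0
  have e : g' = k * g * k⁻¹ := Subtype.ext (by
    rw [hg', ← hk, ← conj_uT hf (transvGroup_iso hf k) hv, Subgroup.coe_mul, Subgroup.coe_mul, Subgroup.coe_inv, hg])
  refine Nat.card_congr (Equiv.subtypeEquiv (MulAction.toPerm k) fun ν => ?_)
  rw [MulAction.toPerm_apply, e, mul_smul, mul_smul, inv_smul_smul, smul_left_cancel_iff]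

set_option maxHeartbeats 1000000 in
/-- The double count of transvections of a fixed parameter. -/
theorem fix_total {X : Type*} [MulAction (transvGroup σ (Cfsg.hermForm (m + 2) F q)) X] [Finite X]
    [MulAction.IsPretransitive (transvGroup σ (Cfsg.hermForm (m + 2) F q)) X] {c : F} (hc : c ∈ skew σ) {f : ℕ}
    (hfix : ∀ (v : Fin (m + 2) → F), v ≠ 0 → Cfsg.hermForm (m + 2) F q v v = 0 →
      ∀ g : transvGroup σ (Cfsg.hermForm (m + 2) F q), g.1 = uT (Cfsg.hermForm (m + 2) F q) v c →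
        Nat.card {ν : X // g • ν = ν} = f) :
    Nat.card X ∣ sCount F q (m + 2) * f := by
  classical
  have hf := hs.form (m + 2)
  rcases isEmpty_or_nonempty X with hX | ⟨⟨ω₀⟩⟩
  · by_cases hS : sCount F q (m + 2) = 0
    · rw [hS, zero_mul]; exact dvd_zero _
    · obtain ⟨⟨v, hv0, hv⟩⟩ : Nonempty {v : Fin (m + 2) → F // v ≠ 0 ∧ Cfsg.hermForm (m + 2) F q v v = 0} :=
        (Nat.card_ne_zero.1 hS).1
      rw [← hfix v hv0 hv ⟨_, uT_mem hf hv hc⟩ rfl, Nat.card_of_isEmpty, Nat.card_of_isEmpty, mul_zero]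
  let V := {v : Fin (m + 2) → F // v ≠ 0 ∧ Cfsg.hermForm (m + 2) F q v v = 0}
  let el : V → transvGroup σ (Cfsg.hermForm (m + 2) F q) := fun v => ⟨_, uT_mem hf v.2.2 hc⟩
  haveI : Fintype X := Fintype.ofFinite X
  haveI : Fintype V := Fintype.ofFinite V
  refine ⟨Nat.card {v : V // el v • ω₀ = ω₀}, ?_⟩
  have hconj : ∀ ω : X, Nat.card {v : V // el v • ω = ω} = Nat.card {v : V // el v • ω₀ = ω₀} := by
    intro ω
    obtain ⟨k, rfl⟩ := MulAction.exists_smul_eq (transvGroup σ (Cfsg.hermForm (m + 2) F q)) ω₀ ω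
    let e : V ≃ V :=
      { toFun := fun v => ⟨(k.1 : Matrix (Fin (m + 2)) (Fin (m + 2)) F) *ᵥ v.1, mulVec_ne_zero k.1 v.2.1,
          by rw [transvGroup_iso hf k, v.2.2]⟩
        invFun := fun v => ⟨((k⁻¹).1 : Matrix (Fin (m + 2)) (Fin (m + 2)) F) *ᵥ v.1, mulVec_ne_zero (k⁻¹).1 v.2.1,
          by rw [transvGroup_iso hf k⁻¹, v.2.2]⟩
        left_inv := fun v => Subtype.ext (by
          show ((k⁻¹).1 : Matrix (Fin (m + 2)) (Fin (m + 2)) F) *ᵥ ((k.1 : Matrix (Fin (m + 2)) (Fin (m + 2)) F) *ᵥ v.1) = v.1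
          rw [← mul_mulVec, ← Subgroup.coe_mul, inv_mul_cancel, Subgroup.coe_one, Units.val_one, one_mulVec])
        right_inv := fun v => Subtype.ext (by
          show (k.1 : Matrix (Fin (m + 2)) (Fin (m + 2)) F) *ᵥ (((k⁻¹).1 : Matrix (Fin (m + 2)) (Fin (m + 2)) F) *ᵥ v.1) = v.1
          rw [← mul_mulVec, ← Subgroup.coe_mul, mul_inv_cancel, Subgroup.coe_one, Units.val_one, one_mulVec]) }
    refine (Nat.card_congr (Equiv.subtypeEquiv e fun v => ?_)).symm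
    have : el (e v) = k * el v * k⁻¹ := Subtype.ext (by
      show uT _ ((k.1 : Matrix (Fin (m + 2)) (Fin (m + 2)) F) *ᵥ v.1) c = _
      rw [← conj_uT hf (transvGroup_iso hf k) v.2.2]
      rfl)
    rw [this, mul_smul, mul_smul, inv_smul_smul, smul_left_cancel_iff]
  have h1 : ∑ v : V, Nat.card {ω : X // el v • ω = ω} = ∑ ω : X, Nat.card {v : V // el v • ω = ω} := by
    rw [← Nat.card_sigma, ← Nat.card_sigma]
    exact Nat.card_congr
      { toFun := fun p => ⟨p.2.1, p.1, p.2.2⟩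
        invFun := fun p => ⟨p.2.1, p.1, p.2.2⟩
        left_inv := fun _ => rfl
        right_inv := fun _ => rfl }
  have h2 : ∀ v : V, Nat.card {ω : X // el v • ω = ω} = f := fun v => hfix v.1 v.2.1 v.2.2 (el v) rfl
  rw [Finset.sum_congr rfl fun v _ => h2 v, Finset.sum_congr rfl fun ω _ => hconj ω,
    Finset.sum_const, Finset.sum_const, smul_eq_mul, smul_eq_mul, Finset.card_univ, Finset.card_univ,
    ← Nat.card_eq_fintype_card, ← Nat.card_eq_fintype_card] at h1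
  exact h1

namespace Fr

variable (fr : Fr F q 2) {X : Type*} [MulAction (transvGroup σ (Cfsg.hermForm (2 + 2) F q)) X]

set_option maxHeartbeats 1000000 in
/-- A transvection of the middle space fixes `q` points of an orbit with invariants of the third kind. -/
theorem middle_fix [Finite X] (hq3 : 3 ≤ q) {ω : X} (hA : fr.Aof hs le_rfl ω = ⊥) {u : Fin 2 → F} (hu0 : u ≠ 0)
    (huu : Cfsg.hermForm 2 F q u u = 0) {c₀ : F} (hc₀ : c₀ ∈ skew σ) (hc₀0 : c₀ ≠ 0)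
    (hWfix : ∀ a ∈ fixd σ, ∀ z ∈ fr.Wof hs le_rfl ω, a • z ∈ fr.Wof hs le_rfl ω)
    (hWu : ∀ c ∈ skew σ, ∀ z ∈ fr.Wof hs le_rfl ω, z + (c * Cfsg.hermForm 2 F q z u) • u ∈ fr.Wof hs le_rfl ω)
    (hline : (2 : F) ≠ 0 → ∀ b : F, b • u ∈ fr.Wof hs le_rfl ω)
    (huniq : ∀ ν : X, fr.Aof hs le_rfl ν = ⊥ → fr.Wof hs le_rfl ν = fr.Wof hs le_rfl ω →
      ∃ r, fr.rad hs le_rfl r • ω = ν)
    {z : transvGroup σ (Cfsg.hermForm (2 + 2) F q)}
    (hz : z.1 = uT (Cfsg.hermForm (2 + 2) F q) (fr.φ.toLin u) c₀) :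
    q ≤ Nat.card {ν : X // z • ν = ν} := by
  classical
  have hf := hs.form 2
  have hc₀' : c₀ + σ c₀ = 0 := mem_skew.1 hc₀
  obtain ⟨γ', hγ'⟩ : ∃ γ' : GL (Fin 2) F, γ' = uT (Cfsg.hermForm 2 F q) u c₀ := ⟨_, rfl⟩
  have hzmov : fr.Mov (σ := σ) z.1 1 γ' := by
    have h := fr.mov_hom hs ⟨uT (Cfsg.hermForm 2 F q) u c₀, uT_mem hf huu hc₀'⟩
    rw [show z.1 = (fr.φ.hom hs ⟨uT (Cfsg.hermForm 2 F q) u c₀, uT_mem hf huu hc₀'⟩).1 from
      hz.trans (fr.φ.extGL_uT hs huu c₀).symm, hγ']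
    exact h
  obtain ⟨W, hWdef⟩ : ∃ W, W = fr.Wof hs le_rfl ω := ⟨_, rfl⟩
  -- the transvection preserves the orbit
  have hzO : ∀ ν : X, fr.Aof hs le_rfl ν = ⊥ → fr.Wof hs le_rfl ν = W →
      fr.Aof hs le_rfl (z • ν) = ⊥ ∧ fr.Wof hs le_rfl (z • ν) = W := by
    intro ν hAν hWν
    constructor
    · rw [eq_bot_iff]
      intro c hc
      have h := (fr.Aof_mov hs le_rfl hzmov ν c).1 (by simpa using hc)
      rwa [hAν] at h
    · refine SetLike.ext fun y => ⟨fun hy => ?_, fun hy => ?_⟩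
      · obtain ⟨w, rfl⟩ : ∃ w, σ (1 : F) • ((γ' : Matrix (Fin 2) (Fin 2) F) *ᵥ w) = y :=
          ⟨((γ'⁻¹ : GL (Fin 2) F) : Matrix (Fin 2) (Fin 2) F) *ᵥ y, by
            rw [mulVec_inv_cancel, map_one, one_smul]⟩
        have h := (fr.Wof_mov hs le_rfl hzmov ν w).1 hy
        rw [hWν, hWdef] at h
        rw [map_one, one_smul, hγ', uT_mulVec hf huu, hWdef]
        exact hWu c₀ hc₀ w h
      · obtain ⟨w, hw, rfl⟩ : ∃ w ∈ W, σ (1 : F) • ((γ' : Matrix (Fin 2) (Fin 2) F) *ᵥ w) = y := by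
          refine ⟨y + ((-c₀) * Cfsg.hermForm 2 F q y u) • u, hWdef ▸ hWu _ (neg_mem hc₀) y (hWdef ▸ hy), ?_⟩
          rw [map_one, one_smul, hγ', uT_mulVec hf huu, hf.add_left, hf.smul_left, huu, mul_zero, add_zero]
          module
        exact (fr.Wof_mov hs le_rfl hzmov ν w).2 (hWν.symm ▸ hw)
  -- the scalar element
  obtain ⟨a, hafix, ha0, ha1, hcase⟩ :
      ∃ a : F, σ a = a ∧ a ≠ 0 ∧ a ≠ 1 ∧ (a * a ≠ 1 ∨ (a = -1 ∧ (2 : F) ≠ 0)) := by
    rcases Nat.lt_or_ge q 4 with h4 | h4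
    · obtain rfl : q = 3 := by omega
      have h2 : (2 : F) ≠ 0 := fun h => by
        have h3 : ((3 : ℕ) : F) = 0 := cast_q_eq_zero hs
        push_cast at h3
        exact one_ne_zero (α := F) (by linear_combination h3 - h)
      refine ⟨-1, by rw [map_neg, map_one], neg_ne_zero.2 one_ne_zero, fun h => h2 ?_, Or.inr ⟨rfl, h2⟩⟩
      linear_combination -h
    · by_contra hcon
      push Not at hcon
      have h : ∀ r : fixd σ, r.1 ∈ ({0, 1, -1} : Finset F) := fun r => by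
        simp only [Finset.mem_insert, Finset.mem_singleton]
        by_contra hr
        push Not at hr
        obtain ⟨h1, -⟩ := hcon r.1 r.2 hr.1 hr.2.1
        rcases mul_eq_zero.1 (show (r.1 - 1) * (r.1 + 1) = 0 by linear_combination h1) with e | e
        · exact hr.2.1 (sub_eq_zero.1 e)
        · exact hr.2.2 (eq_neg_of_add_eq_zero_left e)
      have hle := Nat.card_le_card_of_injective (fun r : fixd σ => (⟨r.1, h r⟩ : ({0, 1, -1} : Finset F)))
        (fun r r' e => Subtype.ext (congrArg (fun x => x.1) e))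
      rw [card_fixd hs, Nat.card_eq_fintype_card, Fintype.card_coe] at hle
      have : ({0, 1, -1} : Finset F).card ≤ 3 := Finset.card_le_three
      omega
  have hσa : σ a ≠ 0 := hafix.symm ▸ ha0
  obtain ⟨g, hg⟩ := fr.exists_mov hs (by omega) (by omega) ha0 (iso_one _) (by
    rw [Units.val_one, det_one, hafix, div_self ha0])
  have hskew : ∀ {c : F}, c ∈ skew σ → a * σ a * c ∈ skew σ := fun {c} hc => by
    rw [mem_skew, map_mul, map_mul, hs.inv]
    linear_combination (a * σ a) * mem_skew.1 hc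
  -- a fixed point of the scalar element in the orbit
  have hgO : fr.Aof hs le_rfl (g • ω) = ⊥ ∧ fr.Wof hs le_rfl (g • ω) = W := by
    constructor
    · rw [eq_bot_iff]
      intro c hc
      have hr : a * σ a ≠ 0 := mul_ne_zero ha0 hσa
      rw [← mul_inv_cancel_left₀ hr c] at hc
      have h := (fr.Aof_mov hs le_rfl hg ω _).1 hc
      rw [hA, AddSubgroup.mem_bot, mul_eq_zero, or_iff_right (inv_ne_zero hr)] at h
      exact AddSubgroup.mem_bot.2 h
    · refine SetLike.ext fun y => ⟨fun hy => ?_, fun hy => ?_⟩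
      · obtain ⟨w, rfl⟩ : ∃ w, σ a • (((1 : GL (Fin 2) F) : Matrix (Fin 2) (Fin 2) F) *ᵥ w) = y :=
          ⟨(σ a)⁻¹ • y, by rw [Units.val_one, one_mulVec, smul_smul, mul_inv_cancel₀ hσa, one_smul]⟩
        have h := (fr.Wof_mov hs le_rfl hg ω w).1 hy
        rw [Units.val_one, one_mulVec, hafix, hWdef]
        exact hWfix a hafix w h
      · obtain ⟨w, hw, rfl⟩ : ∃ w ∈ W, σ a • (((1 : GL (Fin 2) F) : Matrix (Fin 2) (Fin 2) F) *ᵥ w) = y :=
          ⟨(σ a)⁻¹ • y, hWdef ▸ hWfix _ (by rw [mem_fixd, map_inv₀, hs.inv, hafix]) y (hWdef ▸ hy),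
            by rw [Units.val_one, one_mulVec, smul_smul, mul_inv_cancel₀ hσa, one_smul]⟩
        exact (fr.Wof_mov hs le_rfl hg ω w).2 (hWdef ▸ hw)
  obtain ⟨r₀, hr₀⟩ := huniq _ hgO.1 (hgO.2.trans hWdef)
  obtain ⟨w, hw⟩ : ∃ w : Fin 2 → F, σ a • w + r₀.1.1 = w := by
    refine ⟨(1 - a)⁻¹ • r₀.1.1, ?_⟩
    rw [hafix]
    have h1 : (1 - a) ≠ 0 := sub_ne_zero.2 (Ne.symm ha1)
    rw [smul_smul]
    nth_rewrite 2 [← one_smul F r₀.1.1]
    rw [← add_smul]
    congr 1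
    field_simp
    ring
  obtain ⟨b, hb⟩ := exists_trace_eq hs.ne_refl hs.inv (b := -Cfsg.hermForm 2 F q w w)
    (by rw [map_neg, self_fixed hf])
  let p : Rad σ q 2 := ⟨(w, b), by linear_combination hb⟩
  obtain ⟨ν, hν⟩ : ∃ ν, ν = fr.rad hs le_rfl p • ω := ⟨_, rfl⟩
  have hνO : fr.Aof hs le_rfl ν = ⊥ ∧ fr.Wof hs le_rfl ν = W := by
    have h := Prod.ext_iff.1 (fr.inv_rad hs le_rfl p ω)
    exact ⟨hν ▸ h.1.trans hA, hν ▸ h.2.trans hWdef.symm⟩
  obtain ⟨χ, hχ, hgν⟩ : ∃ χ, ∃ hχ : χ ∈ skew σ, g • ν = fr.rad hs le_rfl (Rad.zr hs hχ) • ν := by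
    let d := Rad.mul hs (Rad.mul hs (fr.tr hs hg p) r₀) (Rad.inv hs p)
    have hd1 : d.1.1 = 0 := by
      show σ a • (((1 : GL (Fin 2) F) : Matrix (Fin 2) (Fin 2) F) *ᵥ w) + r₀.1.1 + -w = 0
      rw [Units.val_one, one_mulVec, hw, add_neg_cancel]
    have hd2 : d.1.2 ∈ skew σ := by
      have := d.2
      rw [hd1, zero_left' hf, add_zero] at this
      exact this
    refine ⟨d.1.2, hd2, ?_⟩
    rw [show Rad.zr hs hd2 = d from Subtype.ext (Prod.ext hd1.symm rfl), hν, fr.mov_rad hs le_rfl hg, ← hr₀,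
      ← fr.rad_mul hs le_rfl, ← fr.rad_inv hs le_rfl, ← fr.rad_mul hs le_rfl, mul_smul, inv_smul_smul, mul_smul]
  obtain ⟨ω₀, hω₀O, hω₀⟩ :
      ∃ ω₀ : X, (fr.Aof hs le_rfl ω₀ = ⊥ ∧ fr.Wof hs le_rfl ω₀ = W) ∧ g • ω₀ = ω₀ := by
    rcases hcase with hne | ⟨rfl, h2⟩
    · obtain ⟨e, hedef⟩ : ∃ e, e = (1 - a * a)⁻¹ * χ := ⟨_, rfl⟩
      have he : e ∈ skew σ := by
        rw [mem_skew, hedef, map_mul, map_inv₀, map_sub, map_one, map_mul, hafix, ← mul_add, mem_skew.1 hχ, mul_zero]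
      have h := Prod.ext_iff.1 (fr.inv_rad hs le_rfl (Rad.zr hs he) ν)
      refine ⟨_, ⟨h.1.trans hνO.1, h.2.trans hνO.2⟩, ?_⟩
      rw [fr.mov_zr hs le_rfl hg he (hskew he), hgν, ← mul_smul, fr.rad_zr_mul hs le_rfl]
      congr 2
      refine Subtype.ext (Prod.ext rfl ?_)
      show a * σ a * e + χ = e
      have he' : (1 - a * a) * e = χ := by
        rw [hedef, mul_inv_cancel_left₀ (sub_ne_zero.2 (Ne.symm hne))]
      rw [hafix]
      linear_combination -he'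
    · refine ⟨ν, hνO, ?_⟩
      have hg2 : g * g = 1 := by
        have h := fr.mov_mul hs hg hg
        rw [neg_mul_neg, one_mul, one_mul] at h
        exact fr.mov_unique hs h (fr.mov_one hs)
      have h : g • g • ν = g • fr.rad hs le_rfl (Rad.zr hs hχ) • ν := congrArg (fun y => g • y) hgν
      rw [← mul_smul g g, hg2, one_smul, fr.mov_zr hs le_rfl hg hχ (hskew hχ), hgν, ← mul_smul,
        fr.rad_zr_mul hs le_rfl] at h
      have h0 := fr.eq_zero_of_fix hs le_rfl hνO.1 rfl h.symm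
      have h0' : -1 * σ (-1) * χ + χ = 0 := h0
      rw [map_neg, map_one] at h0'
      have hχ0 : χ = 0 := (mul_eq_zero.1 (show (2 : F) * χ = 0 by linear_combination h0')).resolve_left h2
      subst hχ0
      rw [hgν, fr.rad_one hs le_rfl, one_smul]
  obtain ⟨hA₀, hW₀⟩ := hω₀O
  -- the same orbit through the fixed point
  have huniq₀ : ∀ ν : X, fr.Aof hs le_rfl ν = ⊥ → fr.Wof hs le_rfl ν = W → ∃ r, fr.rad hs le_rfl r • ω₀ = ν := by
    intro ν' h1 h2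
    obtain ⟨r₁, hr₁⟩ := huniq ν' h1 (h2.trans hWdef)
    obtain ⟨r₂, hr₂⟩ := huniq ω₀ hA₀ (hW₀.trans hWdef)
    refine ⟨Rad.mul hs r₁ (Rad.inv hs r₂), ?_⟩
    rw [← fr.rad_mul hs le_rfl, ← fr.rad_inv hs le_rfl, mul_smul, ← hr₂, inv_smul_smul, hr₁]
  have hgfix : ∀ ν : X, g • ν = ν → fr.Aof hs le_rfl ν = ⊥ → fr.Wof hs le_rfl ν = W →
      ∃ (c : F) (hc : c ∈ skew σ), ν = fr.rad hs le_rfl (Rad.zr hs hc) • ω₀ ∧ (a * a ≠ 1 → c = 0) := by
    intro ν' hν' h1 h2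
    obtain ⟨r, hr⟩ := huniq₀ ν' h1 h2
    have h3 : fr.rad hs le_rfl (fr.tr hs hg r) • ω₀ = fr.rad hs le_rfl r • ω₀ := by
      conv_rhs => rw [hr, ← hν', ← hr, fr.mov_rad hs le_rfl hg, hω₀]
    have h4 := fr.rad_diff_mem hs le_rfl h3
    have h5 : r.1.1 ∈ W := by
      rw [hW₀] at h4
      have e : r.1.1 = (a - 1)⁻¹ •
          (σ a • (((1 : GL (Fin 2) F) : Matrix (Fin 2) (Fin 2) F) *ᵥ r.1.1) - r.1.1) := by
        rw [Units.val_one, one_mulVec, hafix, ← one_smul F r.1.1, smul_smul, mul_one, ← sub_smul, smul_smul,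
          inv_mul_cancel₀ (sub_ne_zero.2 ha1)]
      rw [e, hWdef]
      exact hWfix _ (by rw [mem_fixd, map_inv₀, map_sub, map_one, hafix]) _ (hWdef ▸ h4)
    obtain ⟨s, hs1, hs2⟩ := (hW₀.symm ▸ h5 : r.1.1 ∈ fr.Wof hs le_rfl ω₀)
    let d := Rad.mul hs r (Rad.inv hs s)
    have hd1 : d.1.1 = 0 := by
      show r.1.1 + -s.1.1 = 0
      rw [hs1, add_neg_cancel]
    have hd2 : d.1.2 ∈ skew σ := by
      have := d.2
      rw [hd1, zero_left' hf, add_zero] at this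
      exact this
    have hd : ν' = fr.rad hs le_rfl (Rad.zr hs hd2) • ω₀ := by
      rw [show Rad.zr hs hd2 = d from Subtype.ext (Prod.ext hd1.symm rfl), ← fr.rad_mul hs le_rfl,
        ← fr.rad_inv hs le_rfl, mul_smul, inv_smul_eq_iff.2 hs2.symm, hr]
    refine ⟨d.1.2, hd2, hd, fun hne => ?_⟩
    have h6 : fr.rad hs le_rfl (Rad.zr hs (hskew hd2)) • ω₀ = fr.rad hs le_rfl (Rad.zr hs hd2) • ω₀ := by
      conv_rhs => rw [← hd, ← hν', hd, fr.mov_zr hs le_rfl hg hd2 (hskew hd2), hω₀]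
    have h7 := congrArg (fun p : Rad σ q 2 => p.1.2) (fr.rad_eq_of_w hs le_rfl hA₀ (r := Rad.zr hs (hskew hd2)) (r' := Rad.zr hs hd2) rfl h6)
    have h8 : a * σ a * d.1.2 = d.1.2 := h7
    rw [hafix] at h8
    exact (mul_eq_zero.1 (show (a * a - 1) * d.1.2 = 0 by linear_combination h8)).resolve_left (sub_ne_zero.2 hne)
  have hzg : g * z = z * g := fr.mov_comm hs hg hzmov (by rw [one_mul, mul_one])
  obtain ⟨χ', hχ', hzω₀, hχ'0⟩ := hgfix (z • ω₀) (by rw [← mul_smul, hzg, mul_smul, hω₀])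
    (hzO ω₀ hA₀ hW₀).1 (hzO ω₀ hA₀ hW₀).2
  -- a fixed point of the transvection
  obtain ⟨ω₁, hA₁, hω₁⟩ : ∃ ω₁ : X, fr.Aof hs le_rfl ω₁ = ⊥ ∧ z • ω₁ = ω₁ := by
    rcases hcase with hne | ⟨rfl, h2⟩
    · refine ⟨ω₀, hA₀, ?_⟩
      obtain rfl := hχ'0 hne
      rw [hzω₀, fr.rad_one hs le_rfl, one_smul]
    have hσc₀ : σ c₀ = -c₀ := by linear_combination hc₀'
    obtain ⟨t, ht⟩ := CfsgLib.Transvec.Unitary.exists_norm_eq hs.ne_refl hs.inv (b := -χ' / c₀) (by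
      rw [map_div₀, map_neg, show σ χ' = -χ' by linear_combination mem_skew.1 hχ', hσc₀, neg_div_neg_eq, neg_div])
    obtain ⟨v, -, hvu⟩ := exists_iso_partner hf huu hu0
    obtain ⟨w₁, hw₁⟩ : ∃ w₁, w₁ = t • v := ⟨_, rfl⟩
    have hw₁u : Cfsg.hermForm 2 F q w₁ u = t := by rw [hw₁, hf.smul_left, hvu, mul_one]
    obtain ⟨b₁, hb₁⟩ := exists_trace_eq hs.ne_refl hs.inv (b := -Cfsg.hermForm 2 F q w₁ w₁)
      (by rw [map_neg, self_fixed hf])
    let r : Rad σ q 2 := ⟨(w₁, b₁), by linear_combination hb₁⟩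
    have hAr : fr.Aof hs le_rfl (fr.rad hs le_rfl r • ω₀) = ⊥ :=
      (Prod.ext_iff.1 (fr.inv_rad hs le_rfl r ω₀)).1.trans hA₀
    refine ⟨_, hAr, ?_⟩
    obtain ⟨dd, hdd⟩ : ∃ dd, dd = (c₀ * t) • u := ⟨_, rfl⟩
    -- the fixing element over `dd`
    obtain ⟨s, hs1, hs2⟩ := (hW₀.symm ▸ hWdef ▸ (hdd ▸ hline h2 _) : dd ∈ fr.Wof hs le_rfl ω₀)
    have hs3 : fr.rad hs le_rfl (fr.tr hs hg s) • ω₀ = ω₀ := by
      have h : g • fr.rad hs le_rfl s • ω₀ = g • ω₀ := congrArg (fun y => g • y) hs2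
      rwa [fr.mov_rad hs le_rfl hg, hω₀] at h
    have hdd0 : Cfsg.hermForm 2 F q dd dd = 0 := by rw [hdd, hf.smul_left, smul_right' hf, huu, mul_zero, mul_zero]
    have hs0 : s.1.2 = 0 := by
      have h := fr.eq_zero_of_fix hs le_rfl hA₀ (p := Rad.mul hs s (fr.tr hs hg s))
        (by show s.1.1 + σ (-1) • (((1 : GL (Fin 2) F) : Matrix (Fin 2) (Fin 2) F) *ᵥ s.1.1) = 0
            rw [Units.val_one, one_mulVec, map_neg, map_one]; module)
        (by rw [← fr.rad_mul hs le_rfl, mul_smul, hs3, hs2])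
      have h' : s.1.2 + -1 * σ (-1) * s.1.2 -
          Cfsg.hermForm 2 F q (σ (-1) • (((1 : GL (Fin 2) F) : Matrix (Fin 2) (Fin 2) F) *ᵥ s.1.1)) s.1.1 = 0 := h
      rw [Units.val_one, one_mulVec, hf.smul_left, hs1, hdd0, mul_zero, sub_zero, map_neg, map_one] at h'
      exact (mul_eq_zero.1 (show (2 : F) * s.1.2 = 0 by linear_combination h')).resolve_left h2
    rw [fr.mov_rad hs le_rfl hzmov, hzω₀, ← mul_smul, fr.rad_mul hs le_rfl]
    have key : Rad.mul hs (fr.tr hs hzmov r) (Rad.zr hs hχ') = Rad.mul hs r s := by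
      refine Subtype.ext (Prod.ext ?_ ?_)
      · show σ (1 : F) • ((γ' : Matrix (Fin 2) (Fin 2) F) *ᵥ w₁) + 0 = w₁ + s.1.1
        rw [hs1, hdd, map_one, one_smul, add_zero, hγ', uT_mulVec hf huu, hw₁u]
      · show 1 * σ (1 : F) * b₁ + χ' - Cfsg.hermForm 2 F q 0 _ = b₁ + s.1.2 - Cfsg.hermForm 2 F q s.1.1 w₁
        rw [hs0, hs1, hdd, zero_left' hf, hf.smul_left, hf.herm u w₁, hw₁u, map_one]
        field_simp at ht
        linear_combination ht
    rw [key, ← fr.rad_mul hs le_rfl, mul_smul, hs2]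
  -- its central translates
  refine le_of_eq_of_le (card_skew hs).symm (Nat.card_le_card_of_injective
    (fun c : skew σ => ⟨fr.rad hs le_rfl (Rad.zr hs c.2) • ω₁, ?_⟩) ?_)
  · rw [fr.mov_zr hs le_rfl hzmov c.2 (by rw [map_one, one_mul, one_mul]; exact c.2), hω₁]
    congr 2
    exact Subtype.ext (Prod.ext rfl (by show 1 * σ (1 : F) * c.1 = c.1; rw [map_one, one_mul, one_mul]))
  · intro c c' e
    exact Subtype.ext (congrArg (fun p : Rad σ q 2 => p.1.2)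
      (fr.rad_eq_of_w hs le_rfl hA₁ (r := Rad.zr hs c.2) (r' := Rad.zr hs c'.2) rfl (congrArg Subtype.val e)))

end Fr

set_option maxHeartbeats 1000000 in
set_option synthInstance.maxHeartbeats 200000 in
/-- A transitive action of small degree is trivial. -/
theorem action_trivial_four (hq3 : 3 ≤ q) {X : Type*}
    [MulAction (transvGroup σ (Cfsg.hermForm (2 + 2) F q)) X] [Finite X]
    [MulAction.IsPretransitive (transvGroup σ (Cfsg.hermForm (2 + 2) F q)) X]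
    (hlt : Nat.card X < (q + 1) * (q ^ 3 + 1)) (ω : X)
    (g : transvGroup σ (Cfsg.hermForm (2 + 2) F q)) : g • ω = ω := by
  classical
  have hf := hs.form (2 + 2)
  have hq := hs.two_le
  obtain ⟨x₀, hx₀, hne⟩ := exists_singular_test hs (by omega : 2 ≤ 2 + 2) (r := Pi.single 0 1)
    (fun h => one_ne_zero (α := F) (by simpa using congrFun h 0))
  obtain ⟨y₀, hy₀, hyx₀⟩ := exists_iso_partner hf hx₀ fun h => hne (by rw [h, zero_right' hf])
  obtain ⟨fr, -, -⟩ := exists_fr hs (m := 2) hx₀ hy₀ (by rw [hf.herm, hyx₀, map_one])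
  by_cases hA : ∀ ω : X, skew σ ≤ fr.Aof hs le_rfl ω
  · exact fr.fix_all_of_full hs le_rfl hA ω g
  push Not at hA
  obtain ⟨ω₀, hω₀⟩ := hA
  obtain ⟨t₀, ht₀, ht₀A⟩ := SetLike.not_le_iff_exists.1 hω₀
  obtain ⟨hA₀, hW₀, hP, u, hu0, huu, hWfix, hWu, hline⟩ := fr.four_shape hs hq3 hlt ht₀ ht₀A
  exfalso
  obtain ⟨c₀, hc₀0, hc₀⟩ := exists_skew hs.ne_refl hs.inv
  obtain ⟨P, hPdef⟩ : ∃ P, P = fr.PW hs le_rfl X ⊥ (q ^ 2) := ⟨_, rfl⟩
  rw [← hPdef] at hP
  obtain ⟨W, hWdef⟩ : ∃ W, W = fr.Wof hs le_rfl ω₀ := ⟨_, rfl⟩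
  have hsel : ∀ W' : {W' // W' ∈ P}, ∃ ν : X, fr.Aof hs le_rfl ν = ⊥ ∧ fr.Wof hs le_rfl ν = W'.1 ∧
      Nat.card W'.1 = q ^ 2 := by
    intro W'
    obtain ⟨h1, ν, hν⟩ := (fr.mem_PW hs le_rfl).1 (by rw [← hPdef]; exact W'.2)
    exact ⟨ν, (Prod.ext_iff.1 hν).1, (Prod.ext_iff.1 hν).2, h1⟩
  choose pt hptA hptW hptc using hsel
  obtain ⟨nf, hnf⟩ : ∃ nf, nf = Nat.card {ν : X // fr.rad hs le_rfl (Rad.zr hs hc₀) • ν = ν} := ⟨_, rfl⟩
  have hcompl : nf + Nat.card {ν : X // fr.rad hs le_rfl (Rad.zr hs hc₀) • ν ≠ ν} = Nat.card X := by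
    rw [hnf, ← Nat.card_sum]
    exact Nat.card_congr (Equiv.sumCompl _)
  -- one orbit for each second invariant
  have huniq : ∀ ν : X, fr.Aof hs le_rfl ν = ⊥ → fr.Wof hs le_rfl ν = fr.Wof hs le_rfl ω₀ →
      ∃ r, fr.rad hs le_rfl r • ω₀ = ν := by
    intro ν hνA hνW
    by_contra hne'
    push Not at hne'
    let pts : Option {W' // W' ∈ P} → X := fun o => o.elim ν fun W' =>
      if W'.1 = W then ω₀ else pt W'
    have h1 : ∀ o, fr.Aof hs le_rfl (pts o) = ⊥ ∧ Nat.card (fr.Wof hs le_rfl (pts o)) = q ^ 2 := by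
      rintro (_ | W')
      · exact ⟨hνA, by show Nat.card (fr.Wof hs le_rfl ν) = _; rw [hνW, hW₀]⟩
      · show fr.Aof hs le_rfl (if _ then ω₀ else pt W') = ⊥ ∧
          Nat.card (fr.Wof hs le_rfl (if _ then ω₀ else pt W')) = _
        split_ifs
        · exact ⟨hA₀, hW₀⟩
        · exact ⟨hptA W', by rw [hptW, hptc]⟩
    have h2 : ∀ W' : {W' // W' ∈ P}, fr.Wof hs le_rfl (pts (some W')) = W'.1 := by
      intro W'
      show fr.Wof hs le_rfl (if _ then ω₀ else pt W') = _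
      split_ifs with h
      · rw [h, hWdef]
      · exact hptW W'
    have h3 : ∀ o o' r, fr.rad hs le_rfl r • pts o = pts o' → o = o' := by
      intro o o' r hr
      have e : fr.Wof hs le_rfl (pts o') = fr.Wof hs le_rfl (pts o) := by
        rw [← hr]; exact (Prod.ext_iff.1 (fr.inv_rad hs le_rfl r (pts o))).2
      have key : ∀ W'' : {W' // W' ∈ P}, W''.1 = fr.Wof hs le_rfl ν → pts (some W'') = ω₀ := fun W'' hh => by
        show (if W''.1 = W then ω₀ else pt W'') = ω₀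
        rw [if_pos (by rw [hh, hνW, hWdef])]
      rcases o with _ | W' <;> rcases o' with _ | W''
      · rfl
      · rw [h2] at e
        rw [key W'' e] at hr
        refine absurd ?_ (hne' (Rad.inv hs r))
        rw [← fr.rad_inv hs le_rfl, inv_smul_eq_iff]
        exact hr.symm
      · rw [h2] at e
        rw [key W' e.symm] at hr
        exact absurd hr (hne' r)
      · rw [h2, h2] at e
        exact congrArg some (Subtype.ext e.symm)
    have h := fr.orbits_moved hs le_rfl pts (fun o => (h1 o).1) (fun o => (h1 o).2) h3 hc₀ hc₀0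
    rw [Finite.card_option, Nat.card_eq_fintype_card, Fintype.card_coe] at h
    have h' : (q + 2) * q ^ (2 * 2 + 1) ≤ q ^ 2 * Nat.card X :=
      le_trans (Nat.mul_le_mul_right _ (by omega)) (h.trans (Nat.mul_le_mul_left _ (by omega)))
    have h'' : (q + 2) * q ^ 3 ≤ Nat.card X :=
      Nat.le_of_mul_le_mul_left (le_of_eq_of_le (by ring) h') (by positivity)
    nlinarith [Nat.mul_le_mul_right (q ^ 2) hq3]
  have hmoved : (q + 1) * q ^ 3 ≤ Nat.card {ν : X // fr.rad hs le_rfl (Rad.zr hs hc₀) • ν ≠ ν} := by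
    have h := fr.orbits_moved hs le_rfl pt hptA (fun W' => by rw [hptW, hptc]) (fun i j r hr => Subtype.ext (by
      rw [← hptW i, ← hptW j, ← hr]
      exact (Prod.ext_iff.1 (fr.inv_rad hs le_rfl r (pt i))).2.symm)) hc₀ hc₀0
    rw [Nat.card_eq_fintype_card, Fintype.card_coe] at h
    refine Nat.le_of_mul_le_mul_left ?_ (show 0 < q ^ 2 by positivity)
    refine le_trans ?_ h
    calc q ^ 2 * ((q + 1) * q ^ 3) = (q + 1) * q ^ (2 * 2 + 1) := by ring
      _ ≤ _ := Nat.mul_le_mul_right _ hP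
  have hxc : (fr.rad hs le_rfl (Rad.zr hs hc₀)).1 = uT (Cfsg.hermForm (2 + 2) F q) fr.x c₀ :=
    fr.rad_zero hs le_rfl _ rfl
  have hφu : Cfsg.hermForm (2 + 2) F q (fr.φ.toLin u) (fr.φ.toLin u) = 0 := by rw [fr.φ.iso', huu]
  have hφu0 : fr.φ.toLin u ≠ 0 := fun h => hu0 (fr.φ.toLin_injective hs (h.trans (map_zero _).symm))
  have hge : q ≤ nf := by
    rw [hnf, fix_conj hs le_rfl fr.hxx (fr.x_ne hs) hφu hφu0 hxc
      (g' := ⟨_, uT_mem hf hφu hc₀⟩) rfl]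
    exact fr.middle_fix hs hq3 hA₀ hu0 huu hc₀ hc₀0 hWfix hWu hline huniq rfl
  have hM : Nat.card X = q * (q ^ 3 + q ^ 2 + 1) ∧ nf = q := by
    have e : (q + 1) * (q ^ 3 + 1) = (q + 1) * q ^ 3 + q + 1 := by ring
    have e' : q * (q ^ 3 + q ^ 2 + 1) = (q + 1) * q ^ 3 + q := by ring
    omega
  have hdvd := fix_total hs (X := X) hc₀ (f := nf) fun v hv0 hv g hg => by
    rw [hnf]; exact fix_conj hs le_rfl hv hv0 fr.hxx (fr.x_ne hs) hg hxc
  obtain ⟨cnt, hcnt⟩ := hdvd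
  rw [hM.1, hM.2] at hcnt
  have hS : (sCount F q (2 + 2) : ℤ) = ((q : ℤ) ^ 4 - 1) * ((q : ℤ) ^ 3 + 1) := by
    rw [show 2 + 2 = 3 + 1 from rfl, sCount_even hs (by decide)]
  have hk : ((q : ℤ) ^ 3 + q ^ 2 + 1) * cnt = ((q : ℤ) ^ 4 - 1) * ((q : ℤ) ^ 3 + 1) := by
    rw [← hS]
    have h := congrArg (Nat.cast (R := ℤ)) hcnt
    push_cast at h
    refine mul_left_cancel₀ (show (q : ℤ) ≠ 0 by exact_mod_cast (by omega : q ≠ 0)) ?_
    linear_combination -h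
  obtain ⟨k, hkdef⟩ : ∃ k : ℤ, k = (q : ℤ) ^ 4 - q ^ 3 + q ^ 2 - q + 1 - cnt := ⟨_, rfl⟩
  have hk2 : ((q : ℤ) ^ 3 + q ^ 2 + 1) * k = 2 * (q : ℤ) ^ 2 - q + 2 := by
    rw [hkdef]; linear_combination -hk
  have hqz : (3 : ℤ) ≤ q := by exact_mod_cast hq3
  rcases Int.lt_or_le k 1 with hk1 | hk1
  · nlinarith
  · nlinarith [mul_le_mul_of_nonneg_left hk1 (show (0 : ℤ) ≤ (q : ℤ) ^ 3 + q ^ 2 + 1 by positivity),
      mul_le_mul_of_nonneg_right hqz (show (0 : ℤ) ≤ (q : ℤ) * q by positivity)]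

/-- A subgroup of small index of the transvection group is everything. -/
theorem eq_top_of_index_four (hq3 : 3 ≤ q)
    (H : Subgroup (transvGroup σ (Cfsg.hermForm (2 + 2) F q)))
    (hlt : H.index < (q + 1) * (q ^ 3 + 1)) : H = ⊤ := by
  refine eq_top_iff.2 fun g _ => ?_
  have h := action_trivial_four hs hq3 (X := transvGroup σ (Cfsg.hermForm (2 + 2) F q) ⧸ H) hlt (QuotientGroup.mk 1) g
  have := QuotientGroup.eq.1 h.symm
  simpa using this

end CfsgLib.UnMinIndex
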