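/-
Dimension four over the field of four elements: no transitive action of degree between `2` and `26`.
-/
import Cfsg.Agent.Lib.UnMinIndex.FourFinal

set_option autoImplicit false

namespace CfsgLib.UnMinIndex

open Matrix CfsgLib.Transvec CfsgLib.Transvec.Unitary CfsgLib.Classical.Unitary

variable {F : Type*} [Field F] [Fintype F] {σ : F ≃+* F}

/-- The powers of a cube root of unity, indexed by residues. -/
def zpw (ζ : F) (x : ZMod 3) : F := ζ ^ x.val

/-- A primitive cube root of unity. -/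
def IsCubeRoot (ζ : F) : Prop := ζ ^ 3 = 1 ∧ ζ ≠ 1

theorem zpw_add {ζ : F} (hζ : IsCubeRoot ζ) (x y : ZMod 3) : zpw ζ (x + y) = zpw ζ x * zpw ζ y := by
  rw [zpw, zpw, zpw, ← pow_add, ZMod.val_add]
  conv_rhs => rw [← Nat.div_add_mod (x.val + y.val) 3, pow_add, pow_mul, hζ.1, one_pow, one_mul]

theorem zpw_zero (ζ : F) : zpw ζ 0 = 1 := pow_zero ζ

theorem zpw_one {ζ : F} : zpw ζ 1 = ζ := pow_one ζ

theorem zpw_ne {ζ : F} (hζ : IsCubeRoot ζ) (x : ZMod 3) : zpw ζ x ≠ 0 :=
  pow_ne_zero _ fun h => by have := hζ.1; rw [h, zero_pow (by norm_num)] at this; exact zero_ne_one this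

theorem zpw_ne_one {ζ : F} (hζ : IsCubeRoot ζ) {x : ZMod 3} (hx : x ≠ 0) : zpw ζ x ≠ 1 := by
  intro h
  have h2 : zpw ζ (x + x) = 1 := by rw [zpw_add hζ, h, one_mul]
  rcases (show ∀ y : ZMod 3, y ≠ 0 → y = 1 ∨ y + y = 1 by decide) x hx with e | e
  · rw [e, zpw_one] at h; exact hζ.2 h
  · rw [e, zpw_one] at h2; exact hζ.2 h2

/-- Multiplying a subgroup coordinatewise. -/
def dmul (μ : Fin 2 → F) (W : AddSubgroup (Fin 2 → F)) : AddSubgroup (Fin 2 → F) :=
  W.map (AddMonoidHom.mulLeft μ)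

omit [Fintype F] in
theorem mem_dmul {μ : Fin 2 → F} {W : AddSubgroup (Fin 2 → F)} {z : Fin 2 → F} :
    z ∈ dmul μ W ↔ ∃ w ∈ W, μ * w = z := Iff.rfl

omit [Fintype F] in
theorem dmul_mul (μ μ' : Fin 2 → F) (W : AddSubgroup (Fin 2 → F)) : dmul μ (dmul μ' W) = dmul (μ * μ') W := by
  ext z
  simp only [mem_dmul]
  constructor
  · rintro ⟨_, ⟨w, hw, rfl⟩, rfl⟩
    exact ⟨w, hw, mul_assoc _ _ _⟩
  · rintro ⟨w, hw, rfl⟩
    exact ⟨_, ⟨w, hw, rfl⟩, (mul_assoc _ _ _).symm⟩

/-- The scalars of an exponent pair. -/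
def epair (ζ : F) (e : ZMod 3 × ZMod 3) : Fin 2 → F := ![zpw ζ e.1, zpw ζ e.2]

theorem epair_add {ζ : F} (hζ : IsCubeRoot ζ) (e e' : ZMod 3 × ZMod 3) :
    epair ζ (e + e') = epair ζ e * epair ζ e' := by
  funext i; fin_cases i <;> simp [epair, zpw_add hζ]

theorem dmul_zero (ζ : F) (W : AddSubgroup (Fin 2 → F)) : dmul (epair ζ 0) W = W := by
  have : epair ζ 0 = 1 := by funext i; fin_cases i <;> simp [epair, zpw_zero]
  ext z
  simp [mem_dmul, this]

variable (hs : Setup F 2 σ)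
include hs

theorem two_eq_zero : (2 : F) = 0 := by exact_mod_cast cast_q_eq_zero hs

theorem cube_eq_one {a : F} (ha : a ≠ 0) : a ^ 3 = 1 := by
  have h := FiniteField.pow_card_sub_one_eq_one a ha
  rwa [hs.card] at h

theorem norm_eq_one {a : F} (ha : a ≠ 0) : a * σ a = 1 := by
  rw [hs.frob, ← pow_succ', cube_eq_one hs ha]

theorem exists_cubeRoot : ∃ ζ : F, IsCubeRoot ζ := by
  obtain ⟨a, ha⟩ : ∃ a, σ a ≠ a := by
    by_contra h
    simp only [not_exists, not_not] at h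
    exact hs.ne_refl (RingEquiv.ext h)
  exact ⟨a, cube_eq_one hs fun h => ha (by rw [h, map_zero]), fun h => ha (by rw [h, map_one])⟩

theorem skew_cases {c : F} (hc : c ∈ skew σ) : c = 0 ∨ c = 1 := by
  have h : c + c ^ 2 = 0 := by rw [← hs.frob]; exact mem_skew.1 hc
  rcases mul_eq_zero.1 (show c * (c - 1) = 0 by linear_combination h - c * two_eq_zero hs) with e | e
  · exact Or.inl e
  · exact Or.inr (sub_eq_zero.1 e)

theorem sigma_zpw {ζ : F} (hζ : IsCubeRoot ζ) (x : ZMod 3) : σ (zpw ζ x) = zpw ζ (x + x) := by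
  rw [zpw_add hζ, hs.frob, pow_two]

theorem fixed_ne {ζ : F} (hζ : IsCubeRoot ζ) {x : ZMod 3} (hx : x ≠ 0) : σ (zpw ζ x) ≠ zpw ζ x := fun h => by
  rw [sigma_zpw hs hζ, zpw_add hζ] at h
  exact zpw_ne_one hζ hx (mul_right_cancel₀ (zpw_ne hζ x) (h.trans (one_mul _).symm))

/-- An axial scalar moves a subgroup of order four with products in the prime field. -/
theorem axial_moves {ζ : F} (hζ : IsCubeRoot ζ) {W : AddSubgroup (Fin 2 → F)} (hW : Nat.card W = 4)
    (hprod : ∀ w ∈ W, ∀ w' ∈ W, σ (Cfsg.hermForm 2 F 2 w w') = Cfsg.hermForm 2 F 2 w w')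
    {μ : Fin 2 → F} {i j : Fin 2} (hij : i ≠ j) {x : ZMod 3} (hx : x ≠ 0) (hi : μ i = zpw ζ x) (hj : μ j = 1) :
    dmul μ W ≠ W := by
  intro hfix
  have hform : ∀ y z : Fin 2 → F, y j = 0 → Cfsg.hermForm 2 F 2 y z = y i * σ (z i) := by
    intro y z hy
    rw [hermForm_eq hs.frob, Finset.sum_eq_single i (fun k _ hk => ?_) (fun h => absurd (Finset.mem_univ i) h)]
    rw [(show ∀ i j k : Fin 2, i ≠ j → k ≠ i → k = j by decide) i j k hij hk, hy, zero_mul]
  by_cases hex : ∃ w ∈ W, w i ≠ (0 : F)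
  · obtain ⟨w, hw, hwi⟩ := hex
    have hy : μ * w - w ∈ W := sub_mem (hfix ▸ mem_dmul.2 ⟨w, hw, rfl⟩) hw
    obtain ⟨y, hydef⟩ : ∃ y, y = μ * w - w := ⟨_, rfl⟩
    rw [← hydef] at hy
    have hyj : y j = 0 := by rw [hydef, Pi.sub_apply, Pi.mul_apply, hj, one_mul, sub_self]
    have hyi : y i ≠ 0 := by
      rw [hydef, Pi.sub_apply, Pi.mul_apply, hi, show zpw ζ x * w i - w i = (zpw ζ x - 1) * w i by ring]
      exact mul_ne_zero (sub_ne_zero.2 (zpw_ne_one hζ hx)) hwi
    have h := hprod y hy (μ * y) (hfix ▸ mem_dmul.2 ⟨y, hy, rfl⟩)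
    rw [hform _ _ hyj, Pi.mul_apply, hi,
      show y i * σ (zpw ζ x * y i) = σ (zpw ζ x) by
        rw [map_mul]; linear_combination σ (zpw ζ x) * norm_eq_one hs hyi, hs.inv] at h
    exact fixed_ne hs hζ hx h.symm
  · push Not at hex
    have hinj : Function.Injective fun w : W => w.1 j := fun w w' e => Subtype.ext (funext fun k => by
      rcases (show ∀ i j k : Fin 2, i ≠ j → k = i ∨ k = j by decide) i j k hij with rfl | rfl
      · rw [hex _ w.2, hex _ w'.2]
      · exact e)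
    have hsurj : Function.Surjective fun w : W => w.1 j :=
      (Nat.bijective_iff_injective_and_card _ |>.2 ⟨hinj, by rw [hW, Nat.card_eq_fintype_card, hs.card]; rfl⟩).2
    obtain ⟨w₁, h1⟩ := hsurj 1
    obtain ⟨w₂, h2⟩ := hsurj (zpw ζ x)
    have h := hprod _ w₁.2 _ w₂.2
    rw [hermForm_eq hs.frob, Finset.sum_eq_single j (fun k _ hk => ?_) (fun h => absurd (Finset.mem_univ j) h)] at h
    · simp only at h1 h2
      rw [h1, h2, one_mul, hs.inv] at h
      exact fixed_ne hs hζ hx h.symm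
    · rw [(show ∀ i j k : Fin 2, i ≠ j → k ≠ j → k = i by decide) i j k hij hk, hex _ w₁.2, zero_mul]

namespace Fr

variable (fr : Fr F 2 2) {X : Type*} [MulAction (transvGroup σ (Cfsg.hermForm (2 + 2) F 2)) X] [Finite X]

theorem two_A {ν : X} {t : F} (ht : t ∈ skew σ) (htA : t ∉ fr.Aof hs le_rfl ν) : fr.Aof hs le_rfl ν = ⊥ := by
  rw [eq_bot_iff]
  intro c hc
  rcases skew_cases hs (fr.Aof_le hs le_rfl ν hc) with rfl | rfl
  · exact zero_mem _
  · rcases skew_cases hs ht with rfl | rfl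
    · exact absurd (zero_mem _) htA
    · exact absurd hc htA

theorem two_prod {ν : X} (hA : fr.Aof hs le_rfl ν = ⊥) :
    ∀ w ∈ fr.Wof hs le_rfl ν, ∀ w' ∈ fr.Wof hs le_rfl ν,
      σ (Cfsg.hermForm 2 F 2 w w') = Cfsg.hermForm 2 F 2 w w' := by
  intro w hw w' hw'
  have h := fr.imB_mem_Aof hs le_rfl ν hw hw'
  rw [hA, AddSubgroup.mem_bot, imB, (hs.form 2).herm w' w] at h
  exact (sub_eq_zero.1 h).symm

/-- Coordinate scalars permute the realised invariants. -/
theorem two_trans {w : ℕ} {W : AddSubgroup (Fin 2 → F)} (hW : W ∈ fr.PW hs le_rfl X ⊥ w) {μ : Fin 2 → F}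
    (hμ : ∀ i, μ i ≠ 0) : dmul μ W ∈ fr.PW hs le_rfl X ⊥ w := by
  obtain ⟨a, ha⟩ : ∃ a, a = (μ 0 * μ 1) ^ 2 := ⟨_, rfl⟩
  have hp : μ 0 * μ 1 ≠ 0 := mul_ne_zero (hμ 0) (hμ 1)
  have ha0 : a ≠ 0 := ha ▸ pow_ne_zero _ hp
  have hn := norm_eq_one hs ha0
  have hl : ∀ i, μ i * a ≠ 0 := fun i => mul_ne_zero (hμ i) ha0
  have h := fr.moveW_mem_PW hs le_rfl (X := X) ha0 (γ := diagU (fun i => μ i * a) hl)
    (iso_diagU hs hl fun i => norm_eq_one hs (hl i)) (by
      show (diagonal fun i => μ i * a).det = _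
      rw [det_diagonal, Fin.prod_univ_two, hs.frob, pow_two, mul_div_assoc, div_self ha0, mul_one, ha]
      linear_combination (μ 0 * μ 1) ^ 2 * cube_eq_one hs hp) hW
  rw [moveA, AddSubgroup.map_bot] at h
  convert h using 1
  ext z
  rw [mem_dmul, mem_moveW]
  refine exists_congr fun v => and_congr_right fun _ => ?_
  have e : σ a • ((diagU (fun i => μ i * a) hl : Matrix (Fin 2) (Fin 2) F) *ᵥ v) = μ * v := funext fun i => by
    rw [Pi.smul_apply, diagU_mulVec, Pi.mul_apply, smul_eq_mul]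
    linear_combination (μ i * v i) * hn
  rw [e]

/-- The second invariant of a point moved by the central elements. -/
theorem two_shape {ζ : F} (hζ : IsCubeRoot ζ) (hlt : Nat.card X < 27) {ν : X} (hA : fr.Aof hs le_rfl ν = ⊥) :
    Nat.card (fr.Wof hs le_rfl ν) = 4 ∧ fr.Wof hs le_rfl ν ∈ fr.PW hs le_rfl X ⊥ 4 ∧
      (fr.PW hs le_rfl X ⊥ 4).card ≤ 3 := by
  classical
  obtain ⟨W, hWdef⟩ : ∃ W, W = fr.Wof hs le_rfl ν := ⟨_, rfl⟩
  rw [← hWdef]
  have hineq : ∀ w : ℕ, 2 * (fr.PW hs le_rfl X ⊥ w).card * 2 ^ (2 * 2) ≤ w * Nat.card X := fun w =>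
    fr.main_ineq hs le_rfl (X := X) ⊥ w 2 (by
      rw [AddSubgroup.card_bot, mul_one]
      exact Nat.le_mul_of_pos_left _ (Finset.card_pos.2 ⟨_, oaSet_nonempty ⊥⟩))
  have hmem : W ∈ fr.PW hs le_rfl X ⊥ (Nat.card W) :=
    (fr.mem_PW hs le_rfl).2 ⟨rfl, ν, Prod.ext hA hWdef.symm⟩
  have h1A : (1 : F) ∉ fr.Aof hs le_rfl ν := by rw [hA, AddSubgroup.mem_bot]; exact one_ne_zero
  have h1 : (1 : F) ∈ skew σ := mem_skew.2 (by rw [map_one]; linear_combination two_eq_zero hs)
  obtain ⟨ψ, hψA, hψ⟩ := exists_char (fr.Aof hs le_rfl ν) h1A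
  obtain ⟨P, hP⟩ : ∃ P : Pairing 2 F, P = imPair (m := 2) hs ψ ⟨1, h1, hψ⟩ := ⟨_, rfl⟩
  have hWP : W ≤ P.perp W := fun z hz => hP ▸ fun z' hz' =>
    hψA _ (fr.imB_mem_Aof hs le_rfl ν (hWdef ▸ hz) (hWdef ▸ hz'))
  have hprod : Nat.card W * Nat.card (P.perp W) = 16 := by
    rw [P.card_mul_perp W, hs.card]; norm_num
  have hle : Nat.card W * Nat.card W ≤ 16 := (Nat.mul_le_mul_left _
    (Nat.card_le_card_of_injective (AddSubgroup.inclusion hWP) (AddSubgroup.inclusion_injective hWP))).trans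
    (le_of_eq hprod)
  have hdvd : Nat.card W ∣ 16 := ⟨_, hprod.symm⟩
  have h4 : Nat.card W ≤ 4 := Nat.mul_self_le_mul_self_iff.1 hle
  have hcases : Nat.card W = 1 ∨ Nat.card W = 2 ∨ Nat.card W = 4 := by
    have : 0 < Nat.card W := Nat.card_pos
    interval_cases hc : Nat.card W <;> omega
  rcases hcases with hw | hw | hw <;> rw [hw] at hmem
  · have h := hineq 1
    have := Finset.card_pos.2 ⟨W, hmem⟩
    omega
  · exfalso
    obtain ⟨v, hv, hv0⟩ : ∃ v ∈ W, v ≠ (0 : Fin 2 → F) := by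
      by_contra hcon
      push Not at hcon
      rw [(AddSubgroup.eq_bot_iff_forall W).2 hcon, AddSubgroup.card_bot] at hw
      omega
    have hne : dmul (fun _ => ζ) W ≠ W := by
      intro hfix
      have hζv : (fun _ => ζ) * v ∈ W := hfix ▸ mem_dmul.2 ⟨v, hv, rfl⟩
      have hζ0 : ζ ≠ 0 := zpw_one (ζ := ζ) ▸ zpw_ne hζ 1
      have hn1 : (fun _ => ζ) * v ≠ v := fun e => hv0 (funext fun i => by
        have := congrFun e i
        rw [Pi.mul_apply] at this
        exact (mul_eq_zero.1 (show (ζ - 1) * v i = 0 by linear_combination this)).resolve_left (sub_ne_zero.2 hζ.2))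
      have hn0 : (fun _ => ζ) * v ≠ 0 := fun e => hv0 (funext fun i =>
        (mul_eq_zero.1 (show ζ * v i = 0 from congrFun e i)).resolve_left hζ0)
      have h3 : ({0, v, (fun _ => ζ) * v} : Finset (Fin 2 → F)).card = 3 := by
        rw [Finset.card_insert_of_notMem (by simp [hv0.symm, hn0.symm]), Finset.card_pair hn1.symm]
      have hle3 := Nat.card_le_card_of_injective
        (fun y : ({0, v, (fun _ => ζ) * v} : Finset (Fin 2 → F)) => (⟨y.1, by
          have := y.2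
          simp only [Finset.mem_insert, Finset.mem_singleton] at this
          rcases this with e | e | e <;> rw [e]
          · exact zero_mem W
          · exact hv
          · exact hζv⟩ : W))
        (fun y y' e => Subtype.ext (congrArg (fun z : W => z.1) e))
      rw [Nat.card_eq_fintype_card, Fintype.card_coe, h3, hw] at hle3
      omega
    have h2 : 1 < (fr.PW hs le_rfl X ⊥ 2).card := Finset.one_lt_card.2
      ⟨_, fr.two_trans hs hmem (fun _ => zpw_one (ζ := ζ) ▸ zpw_ne hζ 1), W, hmem, hne⟩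
    have h := hineq 2
    omega
  · refine ⟨hw, hmem, ?_⟩
    have h := hineq 4
    omega

/-- The stabiliser of the second invariant in the coordinate torus, uniformly in the point. -/
theorem two_torus {ζ : F} (hζ : IsCubeRoot ζ) (hlt : Nat.card X < 27) {ω : X}
    (hA : fr.Aof hs le_rfl ω = ⊥) :
    (fr.PW hs le_rfl X ⊥ 4).card = 3 ∧ ∃ s : ZMod 3, s ≠ 0 ∧ ∀ ν : X, fr.Aof hs le_rfl ν = ⊥ → ∀ e,
      dmul (epair ζ e) (fr.Wof hs le_rfl ν) = fr.Wof hs le_rfl ν → e.2 = s * e.1 := by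
  classical
  obtain ⟨hW4, hWmem, hP3⟩ := fr.two_shape hs hζ hlt hA
  obtain ⟨W, hWdef⟩ : ∃ W, W = fr.Wof hs le_rfl ω := ⟨_, rfl⟩
  rw [← hWdef] at hW4 hWmem
  have hprod := fr.two_prod hs hA
  rw [← hWdef] at hprod
  let img : ZMod 3 × ZMod 3 → AddSubgroup (Fin 2 → F) := fun e => dmul (epair ζ e) W
  have hcomp : ∀ e e', dmul (epair ζ e) (img e') = img (e + e') := fun e e' => by
    show dmul _ (dmul _ W) = dmul _ W
    rw [dmul_mul, epair_add hζ]
  have himg : ∀ e, img e ∈ fr.PW hs le_rfl X ⊥ 4 := fun e =>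
    fr.two_trans hs hWmem fun i => by fin_cases i <;> simp [epair, zpw_ne hζ]
  have hax : ∀ x : ZMod 3, x ≠ 0 → img (x, 0) ≠ W ∧ img (0, x) ≠ W := fun x hx =>
    ⟨axial_moves hs hζ hW4 hprod (i := 0) (j := 1) (by decide) hx (by simp [epair]) (by simp [epair, zpw_zero]),
      axial_moves hs hζ hW4 hprod (i := 1) (j := 0) (by decide) hx (by simp [epair]) (by simp [epair, zpw_zero])⟩
  have hsame : ∀ e e', img e = img e' → img (e' - e) = W := fun e e' h => by
    have h' := congrArg (dmul (epair ζ (-e))) h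
    rw [hcomp, hcomp, neg_add_cancel, neg_add_eq_sub] at h'
    rw [← h']
    exact dmul_zero ζ W
  -- the three translates along the first axis
  have hinj : Function.Injective fun x : ZMod 3 => img (x, 0) := by
    intro x y h
    by_contra hne
    have := hsame _ _ h
    rw [Prod.mk_sub_mk, sub_zero] at this
    exact (hax (y - x) (sub_ne_zero.2 (Ne.symm hne))).1 this
  have himg3 : (Finset.univ.image fun x : ZMod 3 => img (x, 0)) = fr.PW hs le_rfl X ⊥ 4 := by
    refine Finset.eq_of_subset_of_card_le (fun y hy => ?_) ?_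
    · obtain ⟨x, -, rfl⟩ := Finset.mem_image.1 hy
      exact himg _
    · rw [Finset.card_image_of_injective _ hinj]
      exact hP3
  have hcard : (fr.PW hs le_rfl X ⊥ 4).card = 3 := by
    rw [← himg3, Finset.card_image_of_injective _ hinj]; rfl
  obtain ⟨x₁, hx₁⟩ : ∃ x, img (x, 0) = img (0, 1) := by
    have := himg (0, 1)
    rw [← himg3] at this
    obtain ⟨x, -, hx⟩ := Finset.mem_image.1 this
    exact ⟨x, hx⟩
  have hd := hsame _ _ hx₁
  rw [Prod.mk_sub_mk, sub_zero, zero_sub] at hd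
  have hx₁0 : x₁ ≠ 0 := fun h => by
    rw [h, neg_zero] at hd
    exact (hax 1 (by decide)).2 hd
  refine ⟨hcard, -x₁, neg_ne_zero.2 hx₁0, fun ν hAν e he => ?_⟩
  obtain ⟨-, hνmem, -⟩ := fr.two_shape hs hζ hlt hAν
  rw [← himg3] at hνmem
  obtain ⟨x, -, hx⟩ := Finset.mem_image.1 hνmem
  rw [← hx, hcomp] at he
  have he' : img e = W := by
    have := hsame _ _ he.symm
    rwa [add_sub_cancel_right] at this
  -- subtract a multiple of the generator
  have hgen : ∀ k : ZMod 3, img (k * -x₁, k) = W := by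
    have h0 : img (0, 0) = W := dmul_zero ζ W
    have h2 : img ((-x₁, 1) + (-x₁, 1)) = W := by rw [← hcomp, hd]; exact hd
    intro k
    rcases (by revert k; decide : k = 0 ∨ k = 1 ∨ k = 1 + 1) with rfl | rfl | rfl
    · rwa [zero_mul]
    · rwa [one_mul]
    · rw [add_mul, one_mul]; exact h2
  by_contra hne
  have h := hsame _ _ ((hgen e.2).trans he'.symm)
  rw [show e - (e.2 * -x₁, e.2) = (e.1 - e.2 * -x₁, 0) from Prod.ext rfl (sub_self _)] at h
  refine (hax _ fun hz => hne ?_).1 h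
  have hx : x₁ * x₁ = 1 := (show ∀ y : ZMod 3, y ≠ 0 → y * y = 1 by decide) x₁ hx₁0
  linear_combination x₁ * sub_eq_zero.1 hz - e.2 * hx

end Fr

/-- The standard frame. -/
theorem exists_frame_two {ζ : F} (hζ : IsCubeRoot ζ) : ∃ fr : Fr F 2 2,
    (∃ y₀ y₁ : F, fr.x = ![1, 1, 0, 0] ∧ fr.y = ![y₀, y₁, 0, 0]) ∧ ∀ u, fr.φ.toLin u = ![0, 0, u 0, u 1] := by
  have hζ1 : ζ ^ 2 + ζ + 1 = 0 :=
    (mul_eq_zero.1 (show (ζ - 1) * (ζ ^ 2 + ζ + 1) = 0 by linear_combination hζ.1)).resolve_left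
      (sub_ne_zero.2 hζ.2)
  have h2 := two_eq_zero hs
  have hh : ∀ (v w : Fin (2 + 2) → F), Cfsg.hermForm (2 + 2) F 2 v w =
      v 0 * σ (w 0) + v 1 * σ (w 1) + v 2 * σ (w 2) + v 3 * σ (w 3) := fun v w => by
    rw [hermForm_eq hs.frob]; exact Fin.sum_univ_four _
  let L : (Fin 2 → F) →ₗ[F] (Fin (2 + 2) → F) :=
    { toFun := fun u => ![0, 0, u 0, u 1]
      map_add' := fun a b => by funext i; fin_cases i <;> simp
      map_smul' := fun c a => by funext i; fin_cases i <;> simp }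
  let φ : Emb F 2 (2 + 2) 2 := ⟨L, fun u v => by
    show Cfsg.hermForm (2 + 2) F 2 ![0, 0, u 0, u 1] ![0, 0, v 0, v 1] = _
    rw [hh, hermForm_eq hs.frob, Fin.sum_univ_two]; simp⟩
  have hproj : ∀ z, φ.proj z = ![z 2, z 3] := fun z => by
    funext i
    show Cfsg.hermForm (2 + 2) F 2 z ![0, 0, (Pi.single i 1 : Fin 2 → F) 0, (Pi.single i 1 : Fin 2 → F) 1] = _
    rw [hh]; fin_cases i <;> simp
  have hz4 : (ζ ^ 2) ^ 2 = ζ := by linear_combination ζ * hζ.1
  refine ⟨⟨![1, 1, 0, 0], ![ζ, ζ ^ 2, 0, 0], φ, ?_, ?_, ?_, fun u => ?_, fun u => ?_, fun z => ?_⟩,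
    ⟨ζ, ζ ^ 2, rfl, rfl⟩, fun u => rfl⟩
  · rw [hh]; simp; linear_combination h2
  · rw [hh]; simp [hs.frob, hz4]; linear_combination ζ ^ 3 * h2
  · rw [hh]; simp [hs.frob, hz4]; linear_combination hζ1 - h2
  · show Cfsg.hermForm (2 + 2) F 2 ![0, 0, u 0, u 1] _ = 0
    rw [hh]; simp
  · show Cfsg.hermForm (2 + 2) F 2 ![0, 0, u 0, u 1] _ = 0
    rw [hh]; simp
  · show _ + ![0, 0, φ.proj z 0, φ.proj z 1] = z
    rw [hproj, hh, hh]
    funext i
    fin_cases i <;> simp [hs.frob, hz4] <;>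
      first
        | linear_combination (z 0) * hζ1 - z 0 * h2 + z 1 * ζ * h2
        | linear_combination (z 1) * hζ1 - z 1 * h2 + z 0 * ζ ^ 2 * h2

/-- The exponent tuples tested against a point. -/
def goodExp (s : ZMod 3) (e : Fin 4 → ZMod 3) : Bool :=
  ([![0, 1, 2, 3], ![0, 2, 1, 3], ![0, 3, 1, 2], ![1, 2, 0, 3], ![1, 3, 0, 2], ![2, 3, 0, 1]] :
    List (Fin 4 → Fin 4)).all fun f =>
      !(decide (e (f 0) = e (f 1))) || decide (e (f 0) + e (f 0) + e (f 3) = s * (e (f 0) + e (f 0) + e (f 2)))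

/-- The exponents of a parameter. -/
def dexp (d : ZMod 3 × ZMod 3 × ZMod 3) : Fin 4 → ZMod 3 := ![d.1, d.2.1, d.2.2, -(d.1 + d.2.1 + d.2.2)]

set_option synthInstance.maxHeartbeats 400000 in
set_option synthInstance.maxSize 1000 in
omit [Fintype F] hs in
theorem good_small : ∀ s : ZMod 3, s ≠ 0 → ∀ d d' : ZMod 3 × ZMod 3 × ZMod 3, d ≠ 0 →
    goodExp s (dexp d) = true → goodExp s (dexp d') = true → goodExp s (dexp (d + d')) = true →
      goodExp s (dexp (d - d')) = true → d' = 0 ∨ d' = d ∨ d' = -d := by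
  decide +kernel

set_option maxHeartbeats 1000000 in
set_option synthInstance.maxHeartbeats 200000 in
/-- A transitive action of degree below `27` is trivial. -/
theorem action_trivial_two {X : Type*}
    [MulAction (transvGroup σ (Cfsg.hermForm (2 + 2) F 2)) X] [Finite X]
    [MulAction.IsPretransitive (transvGroup σ (Cfsg.hermForm (2 + 2) F 2)) X]
    (hlt : Nat.card X < 27) (ω : X)
    (g : transvGroup σ (Cfsg.hermForm (2 + 2) F 2)) : g • ω = ω := by
  classical
  obtain ⟨ζ, hζ⟩ := exists_cubeRoot hs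
  obtain ⟨fr, ⟨y₀, y₁, hfx, hfy⟩, hfφ⟩ := exists_frame_two hs hζ
  by_cases hA : ∀ ω : X, skew σ ≤ fr.Aof hs le_rfl ω
  · exact fr.fix_all_of_full hs le_rfl hA ω g
  push Not at hA
  obtain ⟨ω₀, hω₀⟩ := hA
  obtain ⟨t₀, ht₀, ht₀A⟩ := SetLike.not_le_iff_exists.1 hω₀
  have hA₀ := fr.two_A hs ht₀ ht₀A
  obtain ⟨hP3, s, hs0, hstab⟩ := fr.two_torus hs hζ hlt hA₀
  exfalso
  have hf := hs.form (2 + 2)
  have h1 : (1 : F) ∈ skew σ := mem_skew.2 (by rw [map_one]; linear_combination two_eq_zero hs)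
  obtain ⟨P, hPdef⟩ : ∃ P, P = fr.PW hs le_rfl X ⊥ 4 := ⟨_, rfl⟩
  have hsel : ∀ W' : {W' // W' ∈ P}, ∃ ν : X, fr.Aof hs le_rfl ν = ⊥ ∧ fr.Wof hs le_rfl ν = W'.1 ∧
      Nat.card W'.1 = 4 := by
    intro W'
    obtain ⟨h1, ν, hν⟩ := (fr.mem_PW hs le_rfl).1 (by rw [← hPdef]; exact W'.2)
    exact ⟨ν, (Prod.ext_iff.1 hν).1, (Prod.ext_iff.1 hν).2, h1⟩
  choose pt hptA hptW hptc using hsel
  have hmoved : 24 ≤ Nat.card {ν : X // fr.rad hs le_rfl (Rad.zr hs h1) • ν ≠ ν} := by
    have h := fr.orbits_moved hs le_rfl pt hptA (fun W' => by rw [hptW, hptc]) (fun i j r hr => Subtype.ext (by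
      rw [← hptW i, ← hptW j, ← hr]
      exact (Prod.ext_iff.1 (fr.inv_rad hs le_rfl r (pt i))).2.symm)) h1 one_ne_zero
    rw [Nat.card_eq_fintype_card, Fintype.card_coe, hPdef, hP3] at h
    rw [show (2 : ℕ) ^ (2 * 2 + 1) = 32 from rfl] at h
    omega
  obtain ⟨nf, hnf⟩ : ∃ nf, nf = Nat.card {ν : X // fr.rad hs le_rfl (Rad.zr hs h1) • ν = ν} := ⟨_, rfl⟩
  have hcompl : nf + Nat.card {ν : X // fr.rad hs le_rfl (Rad.zr hs h1) • ν ≠ ν} = Nat.card X := by
    rw [hnf, ← Nat.card_sum]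
    exact Nat.card_congr (Equiv.sumCompl _)
  have hdvd := fix_total hs (X := X) h1 (f := nf) fun v hv0 hv g hg => by
    rw [hnf]; exact fix_conj hs le_rfl hv hv0 fr.hxx (fr.x_ne hs) hg (fr.rad_zero hs le_rfl _ rfl)
  have hS : sCount F 2 (2 + 2) = 135 := by
    have := sCount_even hs (j := 3) (by decide)
    norm_num at this
    exact_mod_cast this
  rw [hS] at hdvd
  by_cases hnf0 : nf = 0
  swap
  · obtain ⟨cnt, hcnt⟩ := hdvd
    have hM : Nat.card X = 25 ∨ Nat.card X = 26 := by omega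
    have hn : nf = 1 ∨ nf = 2 := by omega
    rcases hM with e | e <;> rcases hn with e' | e' <;> rw [e, e'] at hcnt <;> omega
  -- every point has trivial first invariant
  have hbot : ∀ ν : X, fr.Aof hs le_rfl ν = ⊥ := by
    intro ν
    refine fr.two_A hs h1 fun hin => ?_
    obtain ⟨hc, hfix⟩ := hin
    have : IsEmpty {ν : X // fr.rad hs le_rfl (Rad.zr hs h1) • ν = ν} :=
      (Nat.card_eq_zero.1 (hnf ▸ hnf0)).resolve_right (not_infinite_iff_finite.2 inferInstance)
    exact this.false ⟨ν, hfix⟩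
  -- the diagonal elements
  let dg : (Fin 4 → ZMod 3) → GL (Fin (2 + 2)) F := fun e => diagU (fun i => zpw ζ (e i)) fun _ => zpw_ne hζ _
  have hdgv : ∀ e (v : Fin (2 + 2) → F) (i : Fin (2 + 2)),
      ((dg e : Matrix (Fin (2 + 2)) (Fin (2 + 2)) F) *ᵥ v) i = zpw ζ (e i) * v i := fun e v i => diagU_mulVec _ _ v i
  have hdgmem : ∀ e : Fin 4 → ZMod 3, e 0 + e 1 + e 2 + e 3 = 0 → dg e ∈ transvGroup σ (Cfsg.hermForm (2 + 2) F 2) := by
    intro e he
    refine mem_transvGroup_short hf (by simp) (Or.inl (by simp)) (hermForm_basis hs.frob)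
      (iso_diagU hs _ fun i => norm_eq_one hs (zpw_ne hζ _)) ?_
    show (diagonal fun i => zpw ζ (e i)).det = 1
    rw [det_diagonal]
    refine (Fin.prod_univ_four (fun i => zpw ζ (e i))).trans ?_
    rw [← zpw_add hζ, ← zpw_add hζ, ← zpw_add hζ, he, zpw_zero]
  -- a tuple fixing a point is good
  have hgood : ∀ (e : Fin 4 → ZMod 3) (he : e 0 + e 1 + e 2 + e 3 = 0) (ν : X),
      (⟨dg e, hdgmem e he⟩ : transvGroup σ (Cfsg.hermForm (2 + 2) F 2)) • ν = ν → e 0 = e 1 →
        e 0 + e 0 + e 3 = s * (e 0 + e 0 + e 2) := by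
    intro e he ν hν he01
    obtain ⟨a, ha⟩ : ∃ a, a = zpw ζ (e 0) := ⟨_, rfl⟩
    have ha0 : a ≠ 0 := ha ▸ zpw_ne hζ _
    have hainv : (σ a)⁻¹ = a := inv_eq_of_mul_eq_one_left (norm_eq_one hs ha0)
    obtain ⟨γ, hγ⟩ : ∃ γ : GL (Fin 2) F,
        γ = diagU ![zpw ζ (e 2), zpw ζ (e 3)] (fun i => by fin_cases i <;> simp [zpw_ne hζ]) := ⟨_, rfl⟩
    have hmov : fr.Mov (σ := σ) (dg e) a γ := by
      refine ⟨ha0, hγ ▸ iso_diagU hs _ (fun i => norm_eq_one hs (by fin_cases i <;> simp [zpw_ne hζ])), ?_, ?_, fun u => ?_⟩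
      · funext i; rw [hdgv, hfx]; fin_cases i <;> simp [ha, he01]
      · funext i; rw [hdgv, hfy, hainv]; fin_cases i <;> simp [ha, he01]
      · funext i
        rw [hdgv, hfφ, hfφ, hγ]
        fin_cases i <;> simp [diagU_mulVec]
    refine hstab ν (hbot ν) (e 0 + e 0 + e 2, e 0 + e 0 + e 3) ?_
    have hle : dmul (epair ζ (e 0 + e 0 + e 2, e 0 + e 0 + e 3)) (fr.Wof hs le_rfl ν) ≤ fr.Wof hs le_rfl ν := by
      intro z hz
      obtain ⟨w, hw, rfl⟩ := mem_dmul.1 hz
      have h := (fr.Wof_mov hs le_rfl (g := ⟨dg e, hdgmem e he⟩) hmov ν w).2 hw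
      rw [hν] at h
      convert h using 1
      funext i
      rw [Pi.smul_apply, hγ, diagU_mulVec, ha, sigma_zpw hs hζ, smul_eq_mul, ← mul_assoc]
      fin_cases i <;> simp [epair, zpw_add hζ]
    refine SetLike.coe_injective (Set.Finite.eq_of_subset_of_card_le (Set.toFinite _) hle ?_)
    refine Nat.card_le_card_of_injective
      (fun w : fr.Wof hs le_rfl ν => (⟨_, mem_dmul.2 ⟨w.1, w.2, rfl⟩⟩ :
        dmul (epair ζ (e 0 + e 0 + e 2, e 0 + e 0 + e 3)) (fr.Wof hs le_rfl ν))) fun w w' h => ?_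
    refine Subtype.ext (funext fun i => ?_)
    have := congrFun (congrArg Subtype.val h) i
    simp only [Pi.mul_apply] at this
    exact mul_left_cancel₀ (by fin_cases i <;> simp [epair, zpw_ne hζ]) this
  -- the action of the diagonal group
  have hdsum : ∀ d : ZMod 3 × ZMod 3 × ZMod 3, dexp d 0 + dexp d 1 + dexp d 2 + dexp d 3 = 0 := by decide +kernel
  let D := Multiplicative (ZMod 3 × ZMod 3 × ZMod 3)
  let ι : D →* transvGroup σ (Cfsg.hermForm (2 + 2) F 2) :=
    { toFun := fun d => ⟨dg (dexp (Multiplicative.toAdd d)), hdgmem _ (hdsum _)⟩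
      map_one' := Subtype.ext (gl_ext fun v => funext fun i => by
        show ((dg (dexp 0) : Matrix (Fin (2 + 2)) (Fin (2 + 2)) F) *ᵥ v) i = _
        rw [hdgv, show dexp 0 i = 0 by revert i; decide, zpw_zero, one_mul, Subgroup.coe_one, Units.val_one,
          one_mulVec])
      map_mul' := fun d d' => Subtype.ext (gl_ext fun v => funext fun i => by
        show ((dg (dexp (Multiplicative.toAdd d + Multiplicative.toAdd d')) :
          Matrix (Fin (2 + 2)) (Fin (2 + 2)) F) *ᵥ v) i = _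
        rw [hdgv, Subgroup.coe_mul, mul_mulVec, hdgv, hdgv, ← mul_assoc, ← zpw_add hζ]
        congr 2
        generalize Multiplicative.toAdd d = x
        generalize Multiplicative.toAdd d' = y
        revert x y i
        decide +kernel) }
  letI : MulAction D X := MulAction.compHom X ι
  have hstabgood : ∀ (ν : X) (d : D), d • ν = ν → goodExp s (dexp (Multiplicative.toAdd d)) = true := by
    intro ν d hd
    rw [goodExp, List.all_eq_true]
    intro f hf'
    rw [Bool.or_eq_true, Bool.not_eq_true', decide_eq_false_iff_not, decide_eq_true_eq, or_iff_not_imp_left, not_not]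
    intro h01
    have hbij : Function.Bijective f := by
      simp only [List.mem_cons, List.not_mem_nil, or_false] at hf'
      rcases hf' with rfl | rfl | rfl | rfl | rfl | rfl <;> decide
    obtain ⟨p, hp⟩ : ∃ p : Equiv.Perm (Fin (2 + 2)), ∀ i, p i = f i := ⟨Equiv.ofBijective f hbij, fun i => rfl⟩
    obtain ⟨π, hπ⟩ : ∃ π : GL (Fin (2 + 2)) F, ∀ v i, ((π : Matrix (Fin (2 + 2)) (Fin (2 + 2)) F) *ᵥ v) i = v (p i) :=
      ⟨⟨p.permMatrix F, p⁻¹.permMatrix F, by rw [← Matrix.permMatrix_mul, inv_mul_cancel, Matrix.permMatrix_one],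
        by rw [← Matrix.permMatrix_mul, mul_inv_cancel, Matrix.permMatrix_one]⟩, fun v i => by
        show (p.permMatrix F *ᵥ v) i = _
        rw [Matrix.permMatrix_mulVec]; rfl⟩
    have hiso : Iso (Cfsg.hermForm (2 + 2) F 2) π := fun v w => by
      rw [hermForm_eq hs.frob, hermForm_eq hs.frob]
      simp only [hπ]
      exact Equiv.sum_comp p fun i => v i * σ (w i)
    have hdet : (π : Matrix (Fin (2 + 2)) (Fin (2 + 2)) F).det = 1 := by
      have hval : (π : Matrix (Fin (2 + 2)) (Fin (2 + 2)) F) = p.permMatrix F :=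
        Matrix.ext_of_mulVec_single fun j => funext fun i => by rw [hπ, Matrix.permMatrix_mulVec]; rfl
      rw [hval, Matrix.det_permutation]
      rcases Int.units_eq_one_or (Equiv.Perm.sign p) with e | e <;> rw [e]
      · simp
      · push_cast
        linear_combination -(two_eq_zero hs)
    let πT : transvGroup σ (Cfsg.hermForm (2 + 2) F 2) :=
      ⟨π, mem_transvGroup_short hf (by simp) (Or.inl (by simp)) (hermForm_basis hs.frob) hiso hdet⟩
    obtain ⟨e', he'⟩ : ∃ e', e' = fun i => dexp (Multiplicative.toAdd d) (f i) := ⟨_, rfl⟩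
    have hsum : e' 0 + e' 1 + e' 2 + e' 3 = 0 := by
      simp only [List.mem_cons, List.not_mem_nil, or_false] at hf'
      subst he'
      generalize Multiplicative.toAdd d = x
      rcases hf' with rfl | rfl | rfl | rfl | rfl | rfl <;> revert x <;> decide +kernel
    have hconj : (⟨dg e', hdgmem e' hsum⟩ : transvGroup σ (Cfsg.hermForm (2 + 2) F 2)) * πT = πT * ι d :=
      Subtype.ext (gl_ext fun v => funext fun i => by
        show (((dg e' * π : GL (Fin (2 + 2)) F) : Matrix (Fin (2 + 2)) (Fin (2 + 2)) F) *ᵥ v) i =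
          (((π * dg (dexp (Multiplicative.toAdd d)) : GL (Fin (2 + 2)) F) : Matrix (Fin (2 + 2)) (Fin (2 + 2)) F) *ᵥ v) i
        rw [mul_mulVec, mul_mulVec, hdgv, hπ, hπ, hdgv, he', hp])
    have h := hgood e' hsum (πT • ν) (by rw [← mul_smul, hconj, mul_smul]; exact congrArg _ hd) (by rw [he']; exact h01)
    rw [he'] at h
    exact h
  have h9 : ∀ ν : X, 9 ∣ Nat.card (MulAction.orbit D ν) := by
    intro ν
    have hcard : Nat.card D = 27 := by
      rw [Nat.card_congr Multiplicative.toAdd, Nat.card_prod, Nat.card_prod, Nat.card_zmod]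
    have horb : Nat.card (MulAction.orbit D ν) * Nat.card (MulAction.stabilizer D ν) = 27 := by
      rw [← hcard, ← Nat.card_prod]
      exact Nat.card_congr (MulAction.orbitProdStabilizerEquivGroup D ν)
    have hle : Nat.card (MulAction.stabilizer D ν) ≤ 3 := by
      by_cases hex : ∃ d : D, d • ν = ν ∧ d ≠ 1
      · obtain ⟨d, hd, hd1⟩ := hex
        have hmem : ∀ d' : MulAction.stabilizer D ν, d'.1 ∈ ({1, d, d⁻¹} : Finset D) := by
          intro d'
          have hd' : d'.1 • ν = ν := d'.2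
          have h := good_small s hs0 (Multiplicative.toAdd d) (Multiplicative.toAdd d'.1)
            (fun e => hd1 (Multiplicative.toAdd.injective e)) (hstabgood ν d hd) (hstabgood ν _ hd')
            (hstabgood ν (d * d'.1) (by rw [mul_smul, hd', hd]))
            (hstabgood ν (d / d'.1) (by rw [div_eq_mul_inv, mul_smul, inv_smul_eq_iff.2 hd'.symm, hd]))
          simp only [Finset.mem_insert, Finset.mem_singleton]
          exact h
        refine (Nat.card_le_card_of_injective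
          (fun d' : MulAction.stabilizer D ν => (⟨d'.1, hmem d'⟩ : ({1, d, d⁻¹} : Finset D)))
          (fun a b e => Subtype.ext (congrArg (fun x : ({1, d, d⁻¹} : Finset D) => x.1) e))).trans ?_
        rw [Nat.card_eq_fintype_card, Fintype.card_coe]
        exact Finset.card_le_three
      · push Not at hex
        haveI : Subsingleton (MulAction.stabilizer D ν) :=
          ⟨fun a b => Subtype.ext ((hex _ a.2).trans (hex _ b.2).symm)⟩
        exact le_trans (le_of_eq (Nat.card_of_subsingleton ⟨1, one_mem _⟩)) (by norm_num)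
    have hdvd' : Nat.card (MulAction.stabilizer D ν) ∣ 27 := ⟨_, by rw [mul_comm, horb]⟩
    have hpos : 0 < Nat.card (MulAction.stabilizer D ν) := Nat.card_pos
    interval_cases hc : Nat.card (MulAction.stabilizer D ν) <;> omega
  haveI : Fintype X := Fintype.ofFinite X
  haveI : Fintype (Quotient (MulAction.orbitRel D X)) := Fintype.ofFinite _
  have h9X : 9 ∣ Nat.card X := by
    rw [Nat.card_congr (MulAction.selfEquivSigmaOrbits D X), Nat.card_sigma]
    exact Finset.dvd_sum fun ω _ => h9 _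
  omega

/-- A subgroup of index below `27` of the transvection group is everything. -/
theorem eq_top_of_index_two (H : Subgroup (transvGroup σ (Cfsg.hermForm (2 + 2) F 2)))
    (hlt : H.index < 27) : H = ⊤ := by
  refine eq_top_iff.2 fun g _ => ?_
  have h := action_trivial_two hs (X := transvGroup σ (Cfsg.hermForm (2 + 2) F 2) ⧸ H) hlt (QuotientGroup.mk 1) g
  have := QuotientGroup.eq.1 h.symm
  simpa using this

end CfsgLib.UnMinIndex
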