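/-
The minimal index of a proper subgroup of `PSU_n(q)`, `n ≥ 5`.
-/
import Cfsg.Agent.Lib.UnMinIndex.Final

set_option autoImplicit false

namespace CfsgLib.UnMinIndex

open Matrix CfsgLib.Transvec CfsgLib.Transvec.Unitary CfsgLib.Classical.Unitary

variable {F : Type*} [Field F] [Fintype F] {q : ℕ} {σ : F ≃+* F} {m : ℕ}

/-- The singular lines. -/
abbrev SLine (F : Type*) [Field F] (q n : ℕ) : Type _ :=
  {L : Submodule F (Fin n → F) // ∃ v, v ≠ 0 ∧ Cfsg.hermForm n F q v v = 0 ∧ L = Submodule.span F {v}}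

variable (hs : Setup F q σ)
include hs

/-- Counting singular vectors line by line. -/
theorem card_sline (n : ℕ) : Nat.card (SLine F q n) * (q ^ 2 - 1) = sCount F q n := by
  classical
  have hrep : ∀ L : SLine F q n, ∃ v, v ≠ 0 ∧ Cfsg.hermForm n F q v v = 0 ∧ L.1 = Submodule.span F {v} := fun L => L.2
  choose rep hrep0 hrepi hreps using hrep
  let f : SLine F q n × {a : F // a ≠ 0} → {v : Fin n → F // v ≠ 0 ∧ Cfsg.hermForm n F q v v = 0} := fun p =>
    ⟨p.2.1 • rep p.1, smul_ne_zero p.2.2 (hrep0 p.1),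
      by rw [(hs.form n).smul_left, smul_right' (hs.form n), hrepi, mul_zero, mul_zero]⟩
  have hf : Function.Bijective f := by
    refine ⟨fun p p' h => ?_, fun v => ?_⟩
    · have h' : p.2.1 • rep p.1 = p'.2.1 • rep p'.1 := congrArg Subtype.val h
      have hL : p.1 = p'.1 := Subtype.ext (by
        rw [hreps, hreps, ← Submodule.span_singleton_smul_eq (IsUnit.mk0 _ p.2.2) (rep p.1), h',
          Submodule.span_singleton_smul_eq (IsUnit.mk0 _ p'.2.2)])
      rw [hL] at h'
      exact Prod.ext hL (Subtype.ext (smul_left_injective F (hrep0 p'.1) h'))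
    · let L : SLine F q n := ⟨_, v.1, v.2.1, v.2.2, rfl⟩
      have hv : v.1 ∈ L.1 := Submodule.mem_span_singleton_self _
      rw [hreps] at hv
      obtain ⟨a, ha⟩ := Submodule.mem_span_singleton.1 hv
      exact ⟨(L, ⟨a, fun h => v.2.1 (by rw [← ha, h, zero_smul])⟩), Subtype.ext ha⟩
  rw [sCount, ← Nat.card_congr (Equiv.ofBijective f hf), Nat.card_prod, Nat.card_eq_fintype_card (α := {a : F // a ≠ 0}),
    Fintype.card_subtype_compl, Fintype.card_subtype_eq, hs.card]

/-- A subgroup containing the centre whose index is the number of singular lines. -/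
theorem exists_point_subgroup (hm : 2 ≤ m) :
    ∃ P : Subgroup (transvGroup σ (Cfsg.hermForm (m + 2) F q)),
      Subgroup.center (transvGroup σ (Cfsg.hermForm (m + 2) F q)) ≤ P ∧ P.index = Nat.card (SLine F q (m + 2)) := by
  classical
  have hf := hs.form (m + 2)
  obtain ⟨x, hx, hne⟩ := exists_singular_test hs (by omega : 2 ≤ m + 2) (r := Pi.single 0 1)
    (fun h => one_ne_zero (α := F) (by simpa using congrFun h 0))
  have hx0 : x ≠ 0 := fun h => hne (by rw [h, zero_right' hf])
  let line : transvGroup σ (Cfsg.hermForm (m + 2) F q) → SLine F q (m + 2) := fun g =>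
    ⟨Submodule.span F {(g.1 : Matrix (Fin (m + 2)) (Fin (m + 2)) F) *ᵥ x}, _, mulVec_ne_zero g.1 hx0,
      by rw [transvGroup_iso hf g, hx], rfl⟩
  have hline : ∀ (k g g' : transvGroup σ (Cfsg.hermForm (m + 2) F q)), line g = line g' → line (k * g) = line (k * g') := by
    intro k g g' h
    have h' := congrArg (fun L => Submodule.map (Matrix.toLin' (k.1 : Matrix (Fin (m + 2)) (Fin (m + 2)) F)) L.1) h
    simp only [line, Submodule.map_span, Set.image_singleton, Matrix.toLin'_apply] at h'
    refine Subtype.ext ?_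
    show Submodule.span F _ = Submodule.span F _
    rw [Subgroup.coe_mul, Subgroup.coe_mul, mul_mulVec, mul_mulVec]
    exact h'
  let P : Subgroup (transvGroup σ (Cfsg.hermForm (m + 2) F q)) :=
    { carrier := {g | line g = line 1}
      one_mem' := rfl
      mul_mem' := fun {g g'} hg hg' => by
        have h := hline g g' 1 hg'
        rw [mul_one] at h
        exact h.trans hg
      inv_mem' := fun {g} hg => by
        have h := hline g⁻¹ g 1 hg
        rw [inv_mul_cancel, mul_one] at h
        exact h.symm }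
  refine ⟨P, fun z hz => ?_, ?_⟩
  · obtain ⟨c₀, hc₀0, hc₀⟩ := exists_skew hs.ne_refl hs.inv
    obtain ⟨y, -, hyx⟩ := exists_iso_partner hf hx hx0
    obtain ⟨z', hz'⟩ : ∃ z', z' = (z.1 : Matrix (Fin (m + 2)) (Fin (m + 2)) F) *ᵥ x := ⟨_, rfl⟩
    have hz'z' : Cfsg.hermForm (m + 2) F q z' z' = 0 := by rw [hz', transvGroup_iso hf z, hx]
    have hcomm := Subgroup.mem_center_iff.1 hz
      ⟨uT (Cfsg.hermForm (m + 2) F q) x c₀, uT_mem hf hx hc₀⟩
    have hconj : uT (Cfsg.hermForm (m + 2) F q) z' c₀ = uT (Cfsg.hermForm (m + 2) F q) x c₀ := by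
      rw [hz', ← conj_uT hf (transvGroup_iso hf z) hx, mul_inv_eq_iff_eq_mul]
      exact (congrArg Subtype.val hcomm).symm
    have h := congrArg (fun g : GL (Fin (m + 2)) F => (g : Matrix (Fin (m + 2)) (Fin (m + 2)) F) *ᵥ y) hconj
    simp only [uT_mulVec hf hz'z', uT_mulVec hf hx, add_right_inj, hyx, mul_one] at h
    have hne' : c₀ * Cfsg.hermForm (m + 2) F q y z' ≠ 0 := fun e => by
      rw [e, zero_smul] at h
      exact smul_ne_zero hc₀0 hx0 h.symm
    show line z = line 1
    refine Subtype.ext ?_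
    show Submodule.span F _ = Submodule.span F _
    rw [Subgroup.coe_one, Units.val_one, one_mulVec, ← hz', ← Submodule.span_singleton_smul_eq (IsUnit.mk0 _ hne') z',
      h, Submodule.span_singleton_smul_eq (IsUnit.mk0 _ hc₀0) x]
  · have hwd : ∀ g g' : transvGroup σ (Cfsg.hermForm (m + 2) F q), g⁻¹ * g' ∈ P ↔ line g = line g' := by
      intro g g'
      constructor
      · intro h
        have h' := hline g _ _ h
        rwa [mul_inv_cancel_left, mul_one, eq_comm] at h'
      · intro h
        have h' := hline g⁻¹ _ _ h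
        rw [inv_mul_cancel] at h'
        exact h'.symm
    refine Nat.card_congr (Equiv.ofBijective (Quotient.lift line fun g g' h => ?_) ⟨?_, ?_⟩)
    · exact (hwd g g').1 (QuotientGroup.leftRel_apply.1 h)
    · rintro ⟨g⟩ ⟨g'⟩ h
      exact QuotientGroup.eq.2 ((hwd g g').2 h)
    · intro L
      obtain ⟨v, hv0, hv, hL⟩ := L.2
      obtain ⟨g, hg⟩ := move_singular hs hm hx hx0 hv hv0
      exact ⟨QuotientGroup.mk g, Subtype.ext (by
        show Submodule.span F _ = L.1
        rw [hg, hL])⟩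

omit σ hs in
/-- The minimal index in `PSU_n(q)`, in terms of the number of singular vectors. -/
theorem psu_min_index (hF : Fintype.card F = q ^ 2) (hm3 : 3 ≤ m) (hmq : q = 2 → Odd m) :
    (∀ H : Subgroup (Cfsg.PSU (m + 2) F q), H ≠ ⊤ → sCount F q (m + 2) / (q ^ 2 - 1) ≤ H.index) ∧
      ∃ H : Subgroup (Cfsg.PSU (m + 2) F q), H.index = sCount F q (m + 2) / (q ^ 2 - 1) := by
  obtain ⟨τ, hτ, hinv, hne⟩ := exists_frob hF
  have hs : Setup F q τ := ⟨hF, hτ⟩
  have hq := hs.two_le
  have hpos : 0 < q ^ 2 - 1 := by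
    have := Nat.pow_le_pow_left hq 2
    omega
  let e := suEquiv (n := m + 2) hF hτ hinv hne (by omega) (by omega)
  let π : Cfsg.SU (m + 2) F q →* Cfsg.PSU (m + 2) F q := QuotientGroup.mk' _
  have hπ : Function.Surjective π := QuotientGroup.mk'_surjective _
  refine ⟨fun H hH => ?_, ?_⟩
  · by_contra hlt
    push Not at hlt
    refine hH ?_
    have hidx : ((H.comap π).map e.toMonoidHom).index = H.index := by
      rw [← Subgroup.index_comap_of_surjective H hπ]
      exact Subgroup.index_map_equiv _ e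
    have htop := eq_top_of_index hs hm3 hmq ((H.comap π).map e.toMonoidHom) (by
      rw [hidx]
      have h := (Nat.le_div_iff_mul_le hpos).1 (Nat.succ_le_of_lt hlt)
      rw [Nat.succ_mul] at h
      omega)
    rw [← Subgroup.index_eq_one, ← hidx, htop, Subgroup.index_top]
  · obtain ⟨P, hPc, hP⟩ := exists_point_subgroup hs (m := m) (by omega)
    refine ⟨(P.comap e.toMonoidHom).map π, ?_⟩
    rw [Subgroup.index_map_eq _ hπ, Subgroup.index_comap_of_surjective _ e.surjective, hP, ← card_sline hs,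
      Nat.mul_div_cancel _ hpos]
    rw [QuotientGroup.ker_mk']
    intro a ha
    exact hPc (Subgroup.mem_center_iff.2 fun y => e.symm.injective (by
      simpa using Subgroup.mem_center_iff.1 ha (e.symm y)))

omit σ hs in
/-- Singular vectors in odd dimension. -/
theorem sCount_odd (hF : Fintype.card F = q ^ 2) {n : ℕ} (hn : Odd n) :
    sCount F q n = (q ^ n + 1) * (q ^ (n - 1) - 1) := by
  obtain ⟨τ, hτ, -, -⟩ := exists_frob hF
  have hs : Setup F q τ := ⟨hF, hτ⟩
  obtain ⟨k, rfl⟩ := hn
  rw [Nat.add_sub_cancel, ← @Nat.cast_inj ℤ, sCount_formula hs, (odd_two_mul_add_one k).neg_one_pow]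
  have h1 : 1 ≤ q ^ (2 * k) := Nat.one_le_pow _ _ (by have := hs.two_le; omega)
  push_cast [h1]
  ring

omit σ hs in
/-- Singular vectors in even dimension. -/
theorem sCount_even' (hF : Fintype.card F = q ^ 2) {n : ℕ} (hn1 : 1 ≤ n) (hn : Even n) :
    sCount F q n = (q ^ n - 1) * (q ^ (n - 1) + 1) := by
  obtain ⟨τ, hτ, -, -⟩ := exists_frob hF
  have hs : Setup F q τ := ⟨hF, hτ⟩
  obtain ⟨k, rfl⟩ : ∃ k, n = k + 1 := ⟨n - 1, by omega⟩
  rw [Nat.add_sub_cancel, ← @Nat.cast_inj ℤ, sCount_even hs hn]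
  have h1 : 1 ≤ q ^ (k + 1) := Nat.one_le_pow _ _ (by have := hs.two_le; omega)
  push_cast [h1]
  ring

end CfsgLib.UnMinIndex
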