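/-
The minimal index of a proper subgroup of `PSU_4(q)`: the totally isotropic lines.
-/
import Cfsg.Agent.Lib.UnMinIndex.FourTwo
import Cfsg.Agent.Lib.UnMinIndex.Main

set_option autoImplicit false

namespace CfsgLib.UnMinIndex

open Matrix CfsgLib.Transvec CfsgLib.Transvec.Unitary CfsgLib.Classical.Unitary

variable {F : Type*} [Field F] [Fintype F] {q : ℕ} {σ : F ≃+* F}

/-- The totally isotropic lines of the four-dimensional space. -/
abbrev TLine (F : Type*) [Field F] (q : ℕ) : Type _ :=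
  {L : Submodule F (Fin (2 + 2) → F) //
    Module.finrank F L = 2 ∧ ∀ z ∈ L, ∀ z' ∈ L, Cfsg.hermForm (2 + 2) F q z z' = 0}

variable (hs : Setup F q σ)
include hs

/-- A central element maps each singular vector to a multiple of itself. -/
theorem center_singular {z : transvGroup σ (Cfsg.hermForm (2 + 2) F q)}
    (hz : z ∈ Subgroup.center (transvGroup σ (Cfsg.hermForm (2 + 2) F q))) {x : Fin (2 + 2) → F}
    (hx : Cfsg.hermForm (2 + 2) F q x x = 0) (hx0 : x ≠ 0) :
    (z.1 : Matrix (Fin (2 + 2)) (Fin (2 + 2)) F) *ᵥ x ∈ Submodule.span F {x} := by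
  have hf := hs.form (2 + 2)
  obtain ⟨c₀, hc₀0, hc₀⟩ := exists_skew hs.ne_refl hs.inv
  obtain ⟨y, -, hyx⟩ := exists_iso_partner hf hx hx0
  obtain ⟨z', hz'⟩ : ∃ z', z' = (z.1 : Matrix (Fin (2 + 2)) (Fin (2 + 2)) F) *ᵥ x := ⟨_, rfl⟩
  have hz'z' : Cfsg.hermForm (2 + 2) F q z' z' = 0 := by rw [hz', transvGroup_iso hf z, hx]
  have hcomm := Subgroup.mem_center_iff.1 hz ⟨uT (Cfsg.hermForm (2 + 2) F q) x c₀, uT_mem hf hx hc₀⟩
  have hconj : uT (Cfsg.hermForm (2 + 2) F q) z' c₀ = uT (Cfsg.hermForm (2 + 2) F q) x c₀ := by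
    rw [hz', ← conj_uT hf (transvGroup_iso hf z) hx, mul_inv_eq_iff_eq_mul]
    exact (congrArg Subtype.val hcomm).symm
  have h := congrArg (fun g : GL (Fin (2 + 2)) F => (g : Matrix (Fin (2 + 2)) (Fin (2 + 2)) F) *ᵥ y) hconj
  simp only [uT_mulVec hf hz'z', uT_mulVec hf hx, add_right_inj, hyx, mul_one] at h
  have hne' : c₀ * Cfsg.hermForm (2 + 2) F q y z' ≠ 0 := fun e => by
    rw [e, zero_smul] at h
    exact smul_ne_zero hc₀0 hx0 h.symm
  rw [← hz']
  refine (Submodule.smul_mem_iff _ hne').1 ?_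
  rw [h]
  exact Submodule.smul_mem _ _ (Submodule.mem_span_singleton_self x)

namespace Fr

variable (fr : Fr F q 2)

/-- The totally isotropic line through the first frame vector over a singular vector of the middle space. -/
theorem tline_span {s : Fin 2 → F} (hs0 : s ≠ 0) (hss : Cfsg.hermForm 2 F q s s = 0) :
    Module.finrank F (Submodule.span F ({fr.x, fr.φ.toLin s} : Set (Fin (2 + 2) → F))) = 2 ∧
      ∀ z ∈ Submodule.span F ({fr.x, fr.φ.toLin s} : Set (Fin (2 + 2) → F)),
        ∀ z' ∈ Submodule.span F ({fr.x, fr.φ.toLin s} : Set (Fin (2 + 2) → F)),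
          Cfsg.hermForm (2 + 2) F q z z' = 0 := by
  have hf := hs.form (2 + 2)
  constructor
  · have hli : LinearIndependent F ![fr.x, fr.φ.toLin s] := by
      rw [LinearIndependent.pair_iff]
      intro a b hab
      have h := congrArg fr.φ.proj hab
      rw [fr.φ.proj_add hs, fr.φ.proj_smul hs, fr.φ.proj_smul hs, fr.proj_x hs, fr.φ.proj_toLin hs, smul_zero,
        zero_add, fr.φ.proj_zero hs] at h
      have hb : b = 0 := (smul_eq_zero.1 h).resolve_right hs0
      rw [hb, zero_smul, add_zero] at hab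
      exact ⟨(smul_eq_zero.1 hab).resolve_right (fr.x_ne hs), hb⟩
    have h := finrank_span_eq_card hli
    rwa [Matrix.range_cons_cons_empty, Fintype.card_fin] at h
  · intro z hz z' hz'
    obtain ⟨a, b, rfl⟩ := Submodule.mem_span_pair.1 hz
    obtain ⟨a', b', rfl⟩ := Submodule.mem_span_pair.1 hz'
    simp only [hf.add_left, add_right' hf, hf.smul_left, smul_right' hf, fr.hxx, fr.φx, fr.xφ hs, fr.φ.iso', hss]
    ring

/-- A totally isotropic line through the first frame vector comes from a singular vector of the middle space. -/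
theorem tline_cases (L : TLine F q) (hxL : fr.x ∈ L.1) :
    ∃ s, s ≠ 0 ∧ Cfsg.hermForm 2 F q s s = 0 ∧
      L.1 = Submodule.span F ({fr.x, fr.φ.toLin s} : Set (Fin (2 + 2) → F)) := by
  obtain ⟨z, hz, hznot⟩ : ∃ z ∈ L.1, z ∉ Submodule.span F ({fr.x} : Set (Fin (2 + 2) → F)) := by
    by_contra hcon
    push Not at hcon
    have h := Submodule.finrank_mono (show L.1 ≤ Submodule.span F ({fr.x} : Set (Fin (2 + 2) → F)) from hcon)
    rw [L.2.1, finrank_span_singleton (fr.x_ne hs)] at h
    omega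
  have hdec := fr.decomp z
  rw [L.2.2 z hz fr.x hxL, zero_smul, add_zero] at hdec
  have hφL : fr.φ.toLin (fr.φ.proj z) ∈ L.1 := by
    rw [show fr.φ.toLin (fr.φ.proj z) = z - Cfsg.hermForm (2 + 2) F q z fr.y • fr.x by
      nth_rewrite 2 [← hdec]; abel]
    exact sub_mem hz (Submodule.smul_mem _ _ hxL)
  have hs0 : fr.φ.proj z ≠ 0 := fun h => hznot (by
    rw [← hdec, h, map_zero, add_zero]
    exact Submodule.smul_mem _ _ (Submodule.mem_span_singleton_self _))
  have hss : Cfsg.hermForm 2 F q (fr.φ.proj z) (fr.φ.proj z) = 0 := by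
    rw [← fr.φ.iso']; exact L.2.2 _ hφL _ hφL
  refine ⟨_, hs0, hss, (Submodule.eq_of_le_of_finrank_eq ?_ ?_).symm⟩
  · refine Submodule.span_le.2 ?_
    rintro y (rfl | hy)
    · exact hxL
    · rw [Set.mem_singleton_iff.1 hy]; exact hφL
  · rw [(fr.tline_span hs hs0 hss).1, L.2.1]

/-- The totally isotropic lines through the first frame vector. -/
theorem card_tline_x : Nat.card {L : TLine F q // fr.x ∈ L.1} = Nat.card (SLine F q 2) := by
  classical
  have hcomap : ∀ {s : Fin 2 → F}, Submodule.comap fr.φ.toLin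
      (Submodule.span F ({fr.x, fr.φ.toLin s} : Set (Fin (2 + 2) → F))) = Submodule.span F {s} := by
    intro s
    ext u
    rw [Submodule.mem_comap, Submodule.mem_span_pair, Submodule.mem_span_singleton]
    constructor
    · rintro ⟨a, b, hab⟩
      have h := congrArg fr.φ.proj hab
      rw [fr.φ.proj_add hs, fr.φ.proj_smul hs, fr.φ.proj_smul hs, fr.proj_x hs, fr.φ.proj_toLin hs,
        fr.φ.proj_toLin hs, smul_zero, zero_add] at h
      exact ⟨b, h⟩
    · rintro ⟨b, rfl⟩
      exact ⟨0, b, by rw [zero_smul, zero_add, map_smul]⟩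
  have hcase := fun L : {L : TLine F q // fr.x ∈ L.1} => fr.tline_cases hs L.1 L.2
  choose s hs0 hss hL using hcase
  let f : {L : TLine F q // fr.x ∈ L.1} → SLine F q 2 := fun L =>
    ⟨Submodule.comap fr.φ.toLin L.1.1, s L, hs0 L, hss L, by rw [hL L]; exact hcomap⟩
  refine Nat.card_congr (Equiv.ofBijective f ⟨fun L L' h => ?_, fun S => ?_⟩)
  · have h' : Submodule.comap fr.φ.toLin L.1.1 = Submodule.comap fr.φ.toLin L'.1.1 := congrArg Subtype.val h
    rw [hL L, hL L', hcomap, hcomap] at h'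
    refine Subtype.ext (Subtype.ext ?_)
    rw [hL L, hL L', Submodule.span_insert, Submodule.span_insert]
    congr 1
    have h'' := congrArg (Submodule.map fr.φ.toLin) h'
    rwa [Submodule.map_span, Submodule.map_span, Set.image_singleton, Set.image_singleton] at h''
  · obtain ⟨v, hv0, hvv, hS⟩ := S.2
    refine ⟨⟨⟨_, fr.tline_span hs hv0 hvv⟩, Submodule.subset_span (Set.mem_insert _ _)⟩, Subtype.ext ?_⟩
    show Submodule.comap _ (Submodule.span F _) = S.1
    rw [hcomap, hS]

end Fr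

/-- A frame at any singular vector. -/
theorem exists_fr_at {v : Fin (2 + 2) → F} (hv : Cfsg.hermForm (2 + 2) F q v v = 0) (hv0 : v ≠ 0) :
    ∃ fr : Fr F q 2, fr.x = v := by
  have hf := hs.form (2 + 2)
  obtain ⟨y, hy, hyv⟩ := exists_iso_partner hf hv hv0
  obtain ⟨fr, h, -⟩ := exists_fr hs hv hy (by rw [hf.herm, hyv, map_one])
  exact ⟨fr, h⟩

/-- The number of totally isotropic lines. -/
theorem card_tline : Nat.card (TLine F q) = (q + 1) * (q ^ 3 + 1) := by
  classical
  have hq := hs.two_le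
  have hq2 : 0 < q ^ 2 - 1 := by
    have := Nat.pow_le_pow_left hq 2
    omega
  have hS2 : Nat.card (SLine F q 2) = q + 1 := by
    have h := card_sline hs 2
    rw [sCount_two hs] at h
    exact Nat.eq_of_mul_eq_mul_right hq2 h
  let V := {v : Fin (2 + 2) → F // v ≠ 0 ∧ Cfsg.hermForm (2 + 2) F q v v = 0}
  have hA : ∀ v : V, Nat.card {L : TLine F q // v.1 ∈ L.1} = q + 1 := by
    intro v
    obtain ⟨fr, hfr⟩ := exists_fr_at hs v.2.2 v.2.1
    rw [← hS2, ← fr.card_tline_x hs, hfr]
  have hB : ∀ L : TLine F q, Nat.card {v : V // v.1 ∈ L.1} = q ^ 4 - 1 := by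
    intro L
    haveI : Fintype L.1 := Fintype.ofFinite _
    have e : {v : V // v.1 ∈ L.1} ≃ {z : L.1 // z ≠ 0} :=
      { toFun := fun v => ⟨⟨v.1.1, v.2⟩, fun h => v.1.2.1 (congrArg (fun z : L.1 => z.1) h)⟩
        invFun := fun z => ⟨⟨z.1.1, fun h => z.2 (Subtype.ext h), L.2.2 _ z.1.2 _ z.1.2⟩, z.1.2⟩
        left_inv := fun _ => rfl
        right_inv := fun _ => rfl }
    rw [Nat.card_congr e, Nat.card_eq_fintype_card, Fintype.card_subtype_compl, Fintype.card_subtype_eq,
      ← Nat.card_eq_fintype_card, Module.natCard_eq_pow_finrank (K := F), L.2.1, Nat.card_eq_fintype_card, hs.card,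
      ← pow_mul]
  haveI : Fintype V := Fintype.ofFinite _
  haveI : Fintype (TLine F q) := Fintype.ofFinite _
  have h : ∑ v : V, Nat.card {L : TLine F q // v.1 ∈ L.1} = ∑ L : TLine F q, Nat.card {v : V // v.1 ∈ L.1} := by
    rw [← Nat.card_sigma, ← Nat.card_sigma]
    exact Nat.card_congr
      { toFun := fun p => ⟨p.2.1, p.1, p.2.2⟩
        invFun := fun p => ⟨p.2.1, p.1, p.2.2⟩
        left_inv := fun _ => rfl
        right_inv := fun _ => rfl }
  rw [Finset.sum_congr rfl fun v _ => hA v, Finset.sum_congr rfl fun L _ => hB L, Finset.sum_const, Finset.sum_const,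
    smul_eq_mul, smul_eq_mul, Finset.card_univ, Finset.card_univ, ← Nat.card_eq_fintype_card,
    ← Nat.card_eq_fintype_card] at h
  have hS : Nat.card V = (q ^ 4 - 1) * (q ^ 3 + 1) := sCount_even' (F := F) hs.card (by norm_num) (by decide)
  rw [hS] at h
  have hpos : 0 < q ^ 4 - 1 := by
    have := Nat.pow_le_pow_left hq 4
    omega
  refine (Nat.eq_of_mul_eq_mul_right hpos ?_).symm
  rw [← h]
  ring

set_option maxHeartbeats 1000000 in
set_option synthInstance.maxHeartbeats 200000 in
/-- A subgroup containing the centre whose index is the number of totally isotropic lines. -/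
theorem exists_line_subgroup :
    ∃ P : Subgroup (transvGroup σ (Cfsg.hermForm (2 + 2) F q)),
      Subgroup.center (transvGroup σ (Cfsg.hermForm (2 + 2) F q)) ≤ P ∧ P.index = Nat.card (TLine F q) := by
  classical
  have hf := hs.form (2 + 2)
  letI act : MulAction (transvGroup σ (Cfsg.hermForm (2 + 2) F q)) (TLine F q) :=
    { smul := fun g L => ⟨L.1.map (Matrix.mulVecLin (g.1 : Matrix (Fin (2 + 2)) (Fin (2 + 2)) F)),
        (LinearEquiv.finrank_eq (Submodule.equivMapOfInjective _ (fun a b h => by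
            have e := congrArg (fun v => ((g.1⁻¹ : GL (Fin (2 + 2)) F) : Matrix (Fin (2 + 2)) (Fin (2 + 2)) F) *ᵥ v) h
            simpa [Matrix.mulVec_mulVec] using e) _)).symm.trans L.2.1,
        by
          rintro _ ⟨z, hz, rfl⟩ _ ⟨z', hz', rfl⟩
          exact (transvGroup_iso hf g z z').trans (L.2.2 z hz z' hz')⟩
      one_smul := fun L => Subtype.ext (by
        show L.1.map _ = L.1
        rw [Subgroup.coe_one, Units.val_one, Matrix.mulVecLin_one, Submodule.map_id])
      mul_smul := fun g h L => Subtype.ext (by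
        show L.1.map _ = (L.1.map _).map _
        rw [Subgroup.coe_mul, Units.val_mul, Matrix.mulVecLin_mul, Submodule.map_comp]) }
  have hsmul : ∀ (g : transvGroup σ (Cfsg.hermForm (2 + 2) F q)) (L : TLine F q),
      (g • L).1 = L.1.map (Matrix.mulVecLin (g.1 : Matrix (Fin (2 + 2)) (Fin (2 + 2)) F)) := fun _ _ => rfl
  obtain ⟨x, hx, hne⟩ := exists_singular_test hs (by omega : 2 ≤ 2 + 2) (r := Pi.single 0 1)
    (fun h => one_ne_zero (α := F) (by simpa using congrFun h 0))
  have hx0 : x ≠ 0 := fun h => hne (by rw [h, zero_right' hf])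
  obtain ⟨fr, hfr⟩ := exists_fr_at hs hx hx0
  obtain ⟨s₀, hs₀, hne₀⟩ := exists_singular_test hs le_rfl (r := Pi.single 0 1)
    (fun h => one_ne_zero (α := F) (by simpa using congrFun h 0))
  have hs₀0 : s₀ ≠ 0 := fun h => hne₀ (by rw [h, zero_right' (hs.form 2)])
  let L₀ : TLine F q := ⟨_, fr.tline_span hs hs₀0 hs₀⟩
  haveI : MulAction.IsPretransitive (transvGroup σ (Cfsg.hermForm (2 + 2) F q)) (TLine F q) := by
    have hto : ∀ L : TLine F q, ∃ g : transvGroup σ (Cfsg.hermForm (2 + 2) F q), g • L = L₀ := by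
      intro L
      obtain ⟨v, hv, hv0⟩ : ∃ v ∈ L.1, v ≠ 0 := Submodule.exists_mem_ne_zero_of_ne_bot fun h => by
        have := L.2.1
        rw [h, finrank_bot] at this
        omega
      obtain ⟨k, hk⟩ := move_singular hs le_rfl (L.2.2 v hv v hv) hv0 fr.hxx (fr.x_ne hs)
      obtain ⟨s, hs0, hss, hL⟩ := fr.tline_cases hs (k • L) (by
        rw [hsmul]; exact ⟨v, hv, hk⟩)
      obtain ⟨γ, hγ, hdet, c, hc, hγs⟩ := exists_line_move hs hss hs0 hs₀ hs₀0
      obtain ⟨g, hg⟩ := fr.exists_mov hs (by norm_num) (by omega) one_ne_zero hγ (by rw [hdet, map_one, div_one])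
      refine ⟨g * k, Subtype.ext ?_⟩
      rw [mul_smul, hsmul, hL, Submodule.map_span, Set.image_pair, Matrix.mulVecLin_apply, Matrix.mulVecLin_apply,
        hg.hx, hg.hφ, hγs, map_smul, one_smul, Submodule.span_insert, Submodule.span_singleton_smul_eq (IsUnit.mk0 _ hc),
        ← Submodule.span_insert]
    refine ⟨fun L L' => ?_⟩
    obtain ⟨g, hg⟩ := hto L
    obtain ⟨g', hg'⟩ := hto L'
    exact ⟨g'⁻¹ * g, by rw [mul_smul, hg, ← hg', inv_smul_smul]⟩
  refine ⟨MulAction.stabilizer _ L₀, fun z hz => ?_, MulAction.index_stabilizer_of_transitive _ L₀⟩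
  rw [MulAction.mem_stabilizer_iff]
  refine Subtype.ext (Submodule.eq_of_le_of_finrank_eq ?_ ((z • L₀).2.1.trans L₀.2.1.symm))
  rw [hsmul, Submodule.map_le_iff_le_comap]
  refine Submodule.span_le.2 ?_
  rintro y hy
  have hyy : Cfsg.hermForm (2 + 2) F q y y = 0 ∧ y ≠ 0 := by
    rcases hy with rfl | hy
    · exact ⟨fr.hxx, fr.x_ne hs⟩
    · rw [Set.mem_singleton_iff.1 hy]
      exact ⟨by rw [fr.φ.iso', hs₀], fun h => hs₀0 (fr.φ.toLin_injective hs (h.trans (map_zero _).symm))⟩
  exact Submodule.span_mono (Set.singleton_subset_iff.2 hy) (center_singular hs hz hyy.1 hyy.2)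

omit σ hs in
/-- The minimal index in `PSU_4(q)`. -/
theorem psu_four_min_index (hF : Fintype.card F = q ^ 2) :
    (∀ H : Subgroup (Cfsg.PSU (2 + 2) F q), H ≠ ⊤ → (q + 1) * (q ^ 3 + 1) ≤ H.index) ∧
      ∃ H : Subgroup (Cfsg.PSU (2 + 2) F q), H.index = (q + 1) * (q ^ 3 + 1) := by
  obtain ⟨τ, hτ, hinv, hne⟩ := exists_frob hF
  have hs : Setup F q τ := ⟨hF, hτ⟩
  have hq := hs.two_le
  let e := suEquiv (n := 2 + 2) hF hτ hinv hne (by omega) (by omega)
  let π : Cfsg.SU (2 + 2) F q →* Cfsg.PSU (2 + 2) F q := QuotientGroup.mk' _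
  have hπ : Function.Surjective π := QuotientGroup.mk'_surjective _
  refine ⟨fun H hH => ?_, ?_⟩
  · by_contra hlt
    push Not at hlt
    refine hH ?_
    have hidx : ((H.comap π).map e.toMonoidHom).index = H.index := by
      rw [← Subgroup.index_comap_of_surjective H hπ]
      exact Subgroup.index_map_equiv _ e
    have htop : (H.comap π).map e.toMonoidHom = ⊤ := by
      rcases (show q = 2 ∨ 3 ≤ q by omega) with rfl | h3
      · exact eq_top_of_index_two hs _ (by rw [hidx]; simpa using hlt)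
      · exact eq_top_of_index_four hs h3 _ (by rw [hidx]; exact hlt)
    rw [← Subgroup.index_eq_one, ← hidx, htop, Subgroup.index_top]
  · obtain ⟨P, hPc, hP⟩ := exists_line_subgroup hs
    refine ⟨(P.comap e.toMonoidHom).map π, ?_⟩
    rw [Subgroup.index_map_eq _ hπ, Subgroup.index_comap_of_surjective _ e.surjective, hP, card_tline hs]
    rw [QuotientGroup.ker_mk']
    intro a ha
    exact hPc (Subgroup.mem_center_iff.2 fun y => e.symm.injective (by
      simpa using Subgroup.mem_center_iff.1 ha (e.symm y)))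

end CfsgLib.UnMinIndex
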