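/-
Dimension six over the field of four elements: no transitive action of degree between `2` and `671`.
-/
import Cfsg.Agent.Lib.UnMinIndex.FourTwo

set_option autoImplicit false

namespace CfsgLib.UnMinIndex

open Matrix CfsgLib.Transvec CfsgLib.Transvec.Unitary CfsgLib.Classical.Unitary

variable {F : Type*} [Field F] [Fintype F] {σ : F ≃+* F}

variable (hs : Setup F 2 σ)
include hs

/-- A diagonal product of two transvections on a coordinate pair, in dimension three. -/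
theorem exists_pair_torus {ζ : F} (hζ : IsCubeRoot ζ) {i j : Fin 3} (hij : i ≠ j) :
    ∃ d : transvGroup σ (Cfsg.hermForm 3 F 2), ∀ (v : Fin 3 → F) (k : Fin 3),
      ((d.1 : Matrix (Fin 3) (Fin 3) F) *ᵥ v) k = (if k = i then ζ ^ 2 else if k = j then ζ else 1) * v k := by
  have hf := hs.form 3
  have h2 := two_eq_zero hs
  have h1 : (1 : F) + σ 1 = 0 := by rw [map_one]; linear_combination h2
  have hζn : ζ * σ ζ = 1 := norm_eq_one hs (zpw_one (ζ := ζ) ▸ zpw_ne hζ 1)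
  have hpair : ∀ α : F, α * σ α = 1 → Cfsg.hermForm 3 F 2 (Pi.single i 1 + α • Pi.single j 1)
      (Pi.single i 1 + α • Pi.single j 1) = 0 := by
    intro α hα
    simp only [hf.add_left, add_right' hf, hf.smul_left, smul_right' hf, hermForm_basis hs.frob, if_true, if_neg hij,
      if_neg hij.symm]
    linear_combination hα + h2
  have hv1 := hpair 1 (by rw [map_one, one_mul])
  have hv2 := hpair ζ hζn
  refine ⟨⟨_, uT_mem hf hv2 h1⟩ * ⟨_, uT_mem hf hv1 h1⟩, fun v k => ?_⟩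
  have hval : ∀ (u : Fin 3 → F) (l : Fin 3), Cfsg.hermForm 3 F 2 u (Pi.single l 1) = u l := fun u l => by
    rw [hf.herm, hermForm_single hs.frob, hs.inv]
  rw [Subgroup.coe_mul, mul_mulVec, uT_mulVec hf hv1, uT_mulVec hf hv2]
  simp only [hf.add_left, add_right' hf, hf.smul_left, smul_right' hf, map_one, one_mul, hval, hermForm_basis hs.frob,
    if_true, if_neg hij, if_neg hij.symm, Pi.add_apply, Pi.smul_apply, smul_eq_mul, Pi.single_eq_same,
    Pi.single_eq_of_ne hij, Pi.single_eq_of_ne hij.symm]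
  by_cases hki : k = i
  · subst hki
    rw [if_pos rfl, Pi.single_eq_same, Pi.single_eq_of_ne hij]
    rw [show σ ζ = ζ ^ 2 from hs.frob ζ]
    linear_combination (2 * v k + v j + v j * ζ ^ 2) * h2
  by_cases hkj : k = j
  · subst hkj
    rw [if_neg hki, if_pos rfl, Pi.single_eq_of_ne hki, Pi.single_eq_same]
    rw [show σ ζ = ζ ^ 2 from hs.frob ζ]
    linear_combination (2 * v k + ζ * v i + v i) * h2 + (v i + 2 * v k) * hζ.1
  · rw [if_neg hki, if_neg hkj, Pi.single_eq_of_ne hki, Pi.single_eq_of_ne hkj]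
    ring

namespace Fr

variable (fr : Fr F 2 4) {X : Type*} [MulAction (transvGroup σ (Cfsg.hermForm (4 + 2) F 2)) X] [Finite X]

theorem six_hlt (hlt : Nat.card X < 672) : Nat.card X * (2 ^ 2 - 1) < sCount F 2 (4 + 2) := by
  have h := sCount_even hs (j := 5) (by decide)
  norm_num at h
  have h' : sCount F 2 (4 + 2) = 2079 := by exact_mod_cast h
  omega

/-- A point moved by the central elements is regular. -/
theorem six_regular (hlt : Nat.card X < 672) {ω : X} {t₀ : F} (ht₀ : t₀ ∈ skew σ)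
    (ht₀A : t₀ ∉ fr.Aof hs (by norm_num) ω) :
    fr.Aof hs (by norm_num) ω = ⊥ ∧ fr.Wof hs (by norm_num) ω = ⊥ := by
  classical
  have hm : 2 ≤ 4 := by norm_num
  have hlt' := six_hlt hs hlt
  obtain ⟨A, hAdef⟩ : ∃ A, A = fr.Aof hs hm ω := ⟨_, rfl⟩
  have hbot : A = ⊥ := by
    rw [eq_bot_iff]
    intro c hc
    rw [hAdef] at hc
    rcases skew_cases hs (fr.Aof_le hs hm ω hc) with rfl | rfl
    · exact zero_mem _
    · rcases skew_cases hs ht₀ with rfl | rfl
      · exact absurd (zero_mem _) ht₀A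
      · exact absurd hc ht₀A
  refine ⟨hAdef ▸ hbot, ?_⟩
  by_contra hne
  obtain ⟨W, hWdef⟩ : ∃ W, W = fr.Wof hs hm ω := ⟨_, rfl⟩
  rw [← hWdef] at hne
  rw [← hAdef] at ht₀A
  have hA : A ≤ skew σ := hAdef ▸ fr.Aof_le hs hm ω
  have hW0 : ∃ z ∈ W, z ≠ 0 := by
    obtain ⟨z, hz⟩ := AddSubgroup.ne_bot_iff_exists_ne_zero.1 hne
    exact ⟨z.1, z.2, fun e => hz (Subtype.ext e)⟩
  have hiso : ∀ z ∈ W, ∀ z' ∈ W, imB 4 2 z z' ∈ A := fun z hz z' hz' =>
    hAdef ▸ fr.imB_mem_Aof hs hm ω (hWdef ▸ hz) (hWdef ▸ hz')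
  have hW : W ∈ fr.PW hs hm X A (Nat.card W) :=
    (fr.mem_PW hs hm).2 ⟨rfl, ω, Prod.ext hAdef.symm hWdef.symm⟩
  obtain ⟨ψ, hψA, hψ⟩ := exists_char A ht₀A
  have hWP : W ≤ (imPair (m := 4) hs ψ ⟨t₀, ht₀, hψ⟩).perp W := fun z hz z' hz' => hψA _ (hiso z hz z' hz')
  have hprod := (imPair (m := 4) hs ψ ⟨t₀, ht₀, hψ⟩).card_mul_perp W
  rw [hs.card, ← pow_mul] at hprod
  have hWle : Nat.card W ≤ Nat.card ((imPair (m := 4) hs ψ ⟨t₀, ht₀, hψ⟩).perp W) :=
    Nat.card_le_card_of_injective (AddSubgroup.inclusion hWP) (AddSubgroup.inclusion_injective hWP)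
  have hf := hs.form 4
  by_cases hns : ∃ v ∈ (imPair (m := 4) hs ψ ⟨t₀, ht₀, hψ⟩).perp W, Cfsg.hermForm 4 F 2 v v ≠ 0
  · obtain ⟨v, hvE, hvv, u, huu, huv, c, hc, z₀, hz₀, hmove⟩ := exists_moved hs (by norm_num) A ht₀ ht₀A W
      ((imPair (m := 4) hs ψ ⟨t₀, ht₀, hψ⟩).perp W) hWP hiso (fun y hy z hz => by
        show ψ (imB 4 2 y z) = 1
        rw [imB, hy z hz, (eq_zero_comm hf).mp (hy z hz), sub_zero, AddChar.map_zero_eq_one]) hW0 hns
    obtain ⟨φv, hφv, hφv'⟩ : ∃ ψ : Emb F 2 4 3, (∀ u, Cfsg.hermForm 4 F 2 (ψ.toLin u) v = 0) ∧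
        ∀ z, Cfsg.hermForm 4 F 2 z v = 0 → ψ.toLin (ψ.proj z) = z := exists_perp_emb hs hvv
    let Γ := transvGroup σ (Cfsg.hermForm 3 F 2)
    let ρ : Γ →* GL (Fin 4) F := (φv.extGL hs).comp Γ.subtype
    have hρmem : ∀ g : Γ, ρ g ∈ transvGroup σ (Cfsg.hermForm 4 F 2) := fun g => φv.extGL_mem hs g.2
    have hρv : ∀ g : Γ, (ρ g : Matrix (Fin 4) (Fin 4) F) *ᵥ v = v := fun g =>
      φv.extGL_perp hs g.1 (funext fun i => (eq_zero_comm hf).mp (hφv _))
    letI := mapAct ρ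
    have hk : 3 ≤ Nat.card (MulAction.orbit Γ W) := by
      by_contra hk
      push Not at hk
      obtain ⟨ζ, hζ⟩ := exists_cubeRoot hs
      have hζ0 : ζ ≠ 0 := zpw_one (ζ := ζ) ▸ zpw_ne hζ 1
      -- elements of order three fix the invariant
      have hfix : ∀ d : Γ, d ^ 3 = 1 → d • W = W := by
        intro d hd
        by_contra hdW
        have h2 : ∀ y ∈ MulAction.orbit Γ W, y = W ∨ y = d • W := by
          intro y hy
          by_contra hy'
          push Not at hy'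
          have h3 : ({W, d • W, y} : Finset (AddSubgroup (Fin 4 → F))).card = 3 := by
            rw [Finset.card_insert_of_notMem (by simp [Ne.symm hdW, hy'.1.symm]), Finset.card_pair hy'.2.symm]
          have hle := Nat.card_le_card_of_injective
            (fun z : ({W, d • W, y} : Finset (AddSubgroup (Fin 4 → F))) => (⟨z.1, by
              have := z.2
              simp only [Finset.mem_insert, Finset.mem_singleton] at this
              rcases this with e | e | e <;> rw [e]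
              · exact MulAction.mem_orbit_self W
              · exact MulAction.mem_orbit W d
              · exact hy⟩ : MulAction.orbit Γ W))
            (fun z z' e => Subtype.ext (congrArg (fun t : MulAction.orbit Γ W => t.1) e))
          rw [Nat.card_eq_fintype_card, Fintype.card_coe, h3] at hle
          exact absurd (lt_of_le_of_lt hle hk) (lt_irrefl 3)
        have hd2 : d • d • W = W := (h2 _ (by rw [← mul_smul]; exact MulAction.mem_orbit W _)).resolve_right fun e =>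
          hdW (smul_left_cancel d e)
        have e3 : d • d • d • W = W := by rw [← mul_smul, ← mul_smul, ← pow_two, ← pow_succ, hd, one_smul]
        exact hdW (by rw [hd2] at e3; exact e3)
      let S : AddSubgroup (Fin 3 → F) := W.comap φv.toLin.toAddMonoidHom
      have hstep : ∀ (d : Γ), d ^ 3 = 1 → ∀ w ∈ W,
          φv.toLin ((d.1 : Matrix (Fin 3) (Fin 3) F) *ᵥ φv.proj w - φv.proj w) ∈ W := by
        intro d hd w hw
        have hdw : (ρ d : Matrix (Fin 4) (Fin 4) F) *ᵥ w ∈ W := by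
          have h' : (ρ d : Matrix (Fin 4) (Fin 4) F) *ᵥ w ∈ d • W := ⟨w, hw, rfl⟩
          rwa [hfix d hd] at h'
        have h := sub_mem hdw hw
        rwa [show (ρ d : Matrix (Fin 4) (Fin 4) F) *ᵥ w - w =
          φv.toLin ((d.1 : Matrix (Fin 3) (Fin 3) F) *ᵥ φv.proj w - φv.proj w) by
            show ((φv.extGL hs d.1 : GL (Fin 4) F) : Matrix (Fin 4) (Fin 4) F) *ᵥ w - w = _
            rw [φv.extGL_mulVec hs, add_sub_cancel_left]] at h
      obtain ⟨w, hw, hwπ⟩ : ∃ w ∈ W, φv.proj w ≠ 0 := by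
        by_contra hall
        push Not at hall
        have hu' : Cfsg.hermForm 3 F 2 (φv.proj u) (φv.proj u) = 0 := by
          rw [← φv.form_toLin hs u (φv.proj u), hφv' u huv, huu]
        refine hmove ?_
        have e : z₀ + (c * Cfsg.hermForm 4 F 2 z₀ u) • u = z₀ := by
          rw [← hφv' u huv, φv.form_toLin hs, hall z₀ hz₀, zero_left' (hs.form 3), mul_zero, zero_smul, add_zero]
        rw [e]
        exact hz₀
      obtain ⟨k, hk'⟩ := Function.ne_iff.1 hwπ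
      obtain ⟨i, j, hki, hkj, hij⟩ : ∃ i j, k ≠ i ∧ k ≠ j ∧ i ≠ j := by clear hk'; revert k; decide
      obtain ⟨d₁, hd₁⟩ := exists_pair_torus hs hζ hki
      obtain ⟨d₂, hd₂⟩ := exists_pair_torus hs hζ hkj
      have hcube : ∀ (d : Γ) (l : Fin 3 → F), (∀ v a, ((d.1 : Matrix (Fin 3) (Fin 3) F) *ᵥ v) a = l a * v a) →
          (∀ a, l a ^ 3 = 1) → d ^ 3 = 1 := by
        intro d l hd hl
        refine Subtype.ext (gl_ext fun v => funext fun a => ?_)
        rw [show d ^ 3 = d * d * d by rw [pow_succ, pow_two], Subgroup.coe_mul, Subgroup.coe_mul, mul_mulVec,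
          mul_mulVec, hd, hd, hd, ← mul_assoc, ← mul_assoc, ← pow_two, ← pow_succ, hl, one_mul, Subgroup.coe_one,
          Units.val_one, one_mulVec]
      have hl3 : ∀ (p r a : Fin 3), (if a = p then ζ ^ 2 else if a = r then ζ else 1) ^ 3 = 1 := by
        intro p r a
        split_ifs
        · linear_combination (ζ ^ 3 + 1) * hζ.1
        · exact hζ.1
        · exact one_pow 3
      have hne1 : ζ ^ 2 - 1 ≠ 0 := fun e => hζ.2 (by linear_combination hζ.1 - ζ * e)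
      obtain ⟨t₁, ht₁⟩ : ∃ t, t = (d₁.1 : Matrix (Fin 3) (Fin 3) F) *ᵥ φv.proj w - φv.proj w := ⟨_, rfl⟩
      have ht₁W : φv.toLin t₁ ∈ W := ht₁ ▸ hstep d₁ (hcube d₁ _ hd₁ fun a => hl3 _ _ a) w hw
      have ht₁j : t₁ j = 0 := by
        rw [ht₁, Pi.sub_apply, hd₁, if_neg hkj.symm, if_neg hij.symm, one_mul, sub_self]
      have ht₁k : t₁ k ≠ 0 := by
        rw [ht₁, Pi.sub_apply, hd₁, if_pos rfl, show ζ ^ 2 * φv.proj w k - φv.proj w k = (ζ ^ 2 - 1) * φv.proj w k by ring]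
        exact mul_ne_zero hne1 hk'
      obtain ⟨t₂, ht₂⟩ : ∃ t, t = (d₂.1 : Matrix (Fin 3) (Fin 3) F) *ᵥ t₁ - t₁ := ⟨_, rfl⟩
      have ht₂W : φv.toLin t₂ ∈ W := by
        have h := hstep d₂ (hcube d₂ _ hd₂ fun a => hl3 _ _ a) _ ht₁W
        rwa [φv.proj_toLin hs, ← ht₂] at h
      have ht₂k : t₂ k ≠ 0 := by
        rw [ht₂, Pi.sub_apply, hd₂, if_pos rfl, show ζ ^ 2 * t₁ k - t₁ k = (ζ ^ 2 - 1) * t₁ k by ring]
        exact mul_ne_zero hne1 ht₁k
      have ht₂0 : ∀ a, a ≠ k → t₂ a = 0 := by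
        intro a ha
        rw [ht₂, Pi.sub_apply, hd₂, if_neg ha]
        by_cases haj : a = j
        · rw [haj, ht₁j, mul_zero, sub_zero]
        · rw [if_neg haj, one_mul, sub_self]
      have ht₃W : φv.toLin ((d₂.1 : Matrix (Fin 3) (Fin 3) F) *ᵥ t₂) ∈ W := by
        have h := add_mem (hstep d₂ (hcube d₂ _ hd₂ fun a => hl3 _ _ a) _ ht₂W) ht₂W
        rwa [φv.proj_toLin hs, ← map_add, sub_add_cancel] at h
      have h := hiso _ ht₂W _ ht₃W
      rw [hbot, AddSubgroup.mem_bot, imB, φv.iso', φv.iso', (hs.form 3).herm ((d₂.1 : Matrix _ _ F) *ᵥ t₂) t₂,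
        hermForm_eq hs.frob, Finset.sum_eq_single k (fun a _ ha => by rw [ht₂0 a ha, zero_mul])
          (fun h => absurd (Finset.mem_univ k) h), hd₂, if_pos rfl, map_mul,
        show t₂ k * (σ (ζ ^ 2) * σ (t₂ k)) = σ (ζ ^ 2) * (t₂ k * σ (t₂ k)) by ring, norm_eq_one hs ht₂k, mul_one,
        hs.inv, hs.frob, sub_eq_zero] at h
      exact hne1 (mul_left_cancel₀ (pow_ne_zero 2 hζ0) (by linear_combination h))
    have h4 := fr.norm_count hs hm hA ht₀ ht₀A (hψ := hψ) hW hvE hvv ρ hρmem hρv 3 hk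
    have hTc : (120 : ℤ) ≤ ((Finset.univ.filter fun y : Fin 4 → F =>
        Cfsg.hermForm 4 F 2 y y = Cfsg.hermForm 4 F 2 v v).card : ℤ) := by
      have h := norm_count_lower hs 3
      rw [← hermCount_eq_one_of hs (self_fixed hf v) hvv, CfsgLib.Classical.hermCount, Nat.card_eq_fintype_card,
        Fintype.card_subtype] at h
      norm_num at h
      exact Int.ofNat_le.2 h
    have hTc' := Int.ofNat_le.1 hTc
    have : 2 * 3 * 120 ≤ Nat.card X := le_trans (Nat.mul_le_mul_left _ hTc') h4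
    omega
  · push Not at hns
    have hle := card_singular_sq_le hs hns
    have hw' : Nat.card W ≤ 2 ^ 4 := hWle.trans hle
    have hWc : Nat.card W = 2 ^ 4 := by
      refine le_antisymm hw' ?_
      by_contra hlt''
      push Not at hlt''
      have h := Nat.mul_lt_mul_of_lt_of_le hlt'' hle (by norm_num)
      rw [hprod, ← pow_add] at h
      exact lt_irrefl _ h
    have hsing : ∀ z ∈ W, Cfsg.hermForm 4 F 2 z z = 0 := fun z hz => hns z (hWP hz)
    by_cases hz : ∀ z ∈ W, ∀ z' ∈ W, Cfsg.hermForm 4 F 2 z z' = 0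
    · exact fr.wzero_isotropic hs hm le_rfl (by decide) hlt' hA ht₀ ht₀A (hWc ▸ hW) hz
    · push Not at hz
      obtain ⟨v, hv, z, hz', hvz⟩ := hz
      exact fr.wzero_singular_pairs_two hs hm le_rfl (by decide) rfl hlt' hA ht₀ ht₀A (ω := ω)
        (Prod.ext hAdef.symm hWdef.symm) hWc hsing hv hz' hvz

/-- The moved points form the regular orbit. -/
theorem six_moved (hlt : Nat.card X < 672) {ω : X} {t₀ : F} (ht₀ : t₀ ∈ skew σ)
    (ht₀A : t₀ ∉ fr.Aof hs (by norm_num) ω) {h1 : (1 : F) ∈ skew σ} :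
    Nat.card {ν : X // fr.rad hs (by norm_num) (Rad.zr hs h1) • ν ≠ ν} = 512 := by
  have hm : 2 ≤ 4 := by norm_num
  obtain ⟨hA, hW⟩ := fr.six_regular hs hlt ht₀ ht₀A
  have hmovd : ∀ ν : X, fr.Aof hs hm ν = ⊥ → fr.rad hs hm (Rad.zr hs h1) • ν ≠ ν := fun ν hν h =>
    one_ne_zero (α := F) (fr.eq_zero_of_fix hs hm hν rfl h)
  let f : Rad σ 2 4 → {ν : X // fr.rad hs hm (Rad.zr hs h1) • ν ≠ ν} := fun p =>
    ⟨fr.rad hs hm p • ω, hmovd _ ((Prod.ext_iff.1 (fr.inv_rad hs hm p ω)).1.trans hA)⟩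
  have hf : Function.Bijective f := by
    refine ⟨fun p p' e => fr.rad_smul_inj hs hm hA hW (congrArg Subtype.val e), fun ν => ?_⟩
    obtain ⟨hA', hW'⟩ := fr.six_regular hs hlt (ω := ν.1) h1 fun h => ν.2 h.2
    obtain ⟨r, hr⟩ := fr.regular_unique hs hm (by norm_num) (six_hlt hs hlt) hA hW hA' hW'
    exact ⟨r, Subtype.ext hr⟩
  rw [← Nat.card_congr (Equiv.ofBijective f hf), Rad.card_eq hs]
  rfl

end Fr

omit [Fintype F] hs in
theorem six_candidates : ∀ k : ℕ, k < 160 → 512 + k ∣ 512 * 2079 → k < 128 := by decide +kernel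

/-- The points fixed by the transvection at a vector. -/
def FixSet (F : Type*) [Field F] (σ : F ≃+* F) (X : Type*) [MulAction (transvGroup σ (Cfsg.hermForm (4 + 2) F 2)) X]
    (v : Fin (4 + 2) → F) : Set X :=
  {ν | ∀ g : transvGroup σ (Cfsg.hermForm (4 + 2) F 2), g.1 = uT (Cfsg.hermForm (4 + 2) F 2) v 1 → g • ν = ν}

set_option maxHeartbeats 2000000 in
set_option synthInstance.maxHeartbeats 400000 in
/-- A transitive action of small degree: the central elements fix no point. -/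
theorem six_no_fixed {X : Type*} [MulAction (transvGroup σ (Cfsg.hermForm (4 + 2) F 2)) X] [Finite X]
    [MulAction.IsPretransitive (transvGroup σ (Cfsg.hermForm (4 + 2) F 2)) X] (hlt : Nat.card X < 672)
    (fr : Fr F 2 4) {h1 : (1 : F) ∈ skew σ} {ω₀ : X} (hω₀ : (1 : F) ∉ fr.Aof hs (by norm_num) ω₀) (ν : X) :
    fr.rad hs (by norm_num) (Rad.zr hs h1) • ν ≠ ν := by
  classical
  have hm : 2 ≤ 4 := by norm_num
  have hf := hs.form (4 + 2)
  have hT : ∀ {v : Fin (4 + 2) → F}, Cfsg.hermForm (4 + 2) F 2 v v = 0 →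
      ∃ g : transvGroup σ (Cfsg.hermForm (4 + 2) F 2), g.1 = uT (Cfsg.hermForm (4 + 2) F 2) v 1 :=
    fun hv => ⟨⟨_, uT_mem hf hv (mem_skew.1 h1)⟩, rfl⟩
  have hxc : (fr.rad hs hm (Rad.zr hs h1)).1 = uT (Cfsg.hermForm (4 + 2) F 2) fr.x 1 := fr.rad_zero hs hm _ rfl
  have hmem : ∀ {v : Fin (4 + 2) → F} {g : transvGroup σ (Cfsg.hermForm (4 + 2) F 2)},
      g.1 = uT (Cfsg.hermForm (4 + 2) F 2) v 1 → ∀ ν : X, ν ∈ FixSet F σ X v ↔ g • ν = ν := fun {v g} hg ν =>
    ⟨fun h => h g hg, fun h g' hg' => by rwa [show g' = g from Subtype.ext (hg'.trans hg.symm)]⟩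
  obtain ⟨f, hfdef⟩ : ∃ f, f = Nat.card {ν : X // fr.rad hs hm (Rad.zr hs h1) • ν = ν} := ⟨_, rfl⟩
  have hM : Nat.card X = f + 512 := by
    rw [hfdef, ← fr.six_moved hs hlt h1 hω₀ (h1 := h1), ← Nat.card_sum]
    exact Nat.card_congr (Equiv.sumCompl _).symm
  have hcard : ∀ {v : Fin (4 + 2) → F}, Cfsg.hermForm (4 + 2) F 2 v v = 0 → v ≠ 0 →
      Nat.card (FixSet F σ X v) = f := by
    intro v hv hv0
    obtain ⟨g, hg⟩ := hT hv
    rw [hfdef, ← fix_conj hs hm hv hv0 fr.hxx (fr.x_ne hs) hg hxc]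
    exact Nat.card_congr (Equiv.subtypeEquivRight (hmem hg))
  have hf128 : f < 128 := by
    have h := fix_total hs (X := X) h1 (f := f) fun v hv0 hv g hg => by
      rw [hfdef]; exact fix_conj hs hm hv hv0 fr.hxx (fr.x_ne hs) hg hxc
    have hS : sCount F 2 (4 + 2) = 2079 := by
      have h := sCount_even hs (j := 5) (by decide)
      norm_num at h
      exact_mod_cast h
    rw [hS, hM, add_comm f] at h
    refine six_candidates f (by omega) ?_
    have e : 512 * 2079 = 2079 * (512 + f) - 2079 * f := by rw [← Nat.mul_sub, Nat.add_sub_cancel, mul_comm]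
    rw [e]
    exact Nat.dvd_sub (dvd_mul_left _ _) h
  -- a middle transvection moves the whole regular orbit
  have hmid : ∀ (fr' : Fr F 2 4) {u : Fin 4 → F}, Cfsg.hermForm 4 F 2 u u = 0 → u ≠ 0 →
      FixSet F σ X (fr'.φ.toLin u) = FixSet F σ X fr'.x := by
    intro fr' u hu hu0
    have hφu : Cfsg.hermForm (4 + 2) F 2 (fr'.φ.toLin u) (fr'.φ.toLin u) = 0 := by rw [fr'.φ.iso', hu]
    have hφu0 : fr'.φ.toLin u ≠ 0 := fun h => hu0 (fr'.φ.toLin_injective hs (h.trans (map_zero _).symm))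
    refine Set.eq_of_subset_of_ncard_le (fun ν hν => ?_) ?_ (Set.toFinite _)
    · rw [hmem (fr'.rad_zero hs hm (Rad.zr hs h1) rfl)]
      by_contra hmove
      obtain ⟨hA, hW⟩ := fr'.six_regular hs hlt (ω := ν) h1 fun h => hmove h.2
      obtain ⟨g₀, hg₀⟩ := hT hφu
      have hg₀ν := (hmem hg₀ ν).1 hν
      have hcomm : ∀ p : Rad σ 2 4, Cfsg.hermForm 4 F 2 p.1.1 u = 0 →
          g₀ * fr'.rad hs hm p = fr'.rad hs hm p * g₀ := by
        intro p hp
        refine mul_inv_eq_iff_eq_mul.1 (Subtype.ext ?_)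
        show g₀.1 * eu (Cfsg.hermForm (4 + 2) F 2) fr'.x (fr'.φ.toLin p.1.1) p.1.2 * (g₀.1)⁻¹ =
          eu (Cfsg.hermForm (4 + 2) F 2) fr'.x (fr'.φ.toLin p.1.1) p.1.2
        rw [conj_eu hf (transvGroup_iso hf g₀) fr'.hxx (fr'.φx _), hg₀, uT_mulVec hf hφu, uT_mulVec hf hφu,
          fr'.xφ hs, fr'.φ.iso', hp]
        simp
      have h : Nat.card {p : Rad σ 2 4 // Cfsg.hermForm 4 F 2 p.1.1 u = 0} ≤ f := by
        rw [← hcard hφu hφu0]
        refine Nat.card_le_card_of_injective (fun p => ⟨fr'.rad hs hm p.1 • ν, (hmem hg₀ _).2 ?_⟩) fun p p' e =>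
          Subtype.ext (fr'.rad_smul_inj hs hm hA hW (congrArg Subtype.val e))
        rw [← mul_smul, hcomm p.1 p.2, mul_smul, hg₀ν]
      rw [card_rad_perp hs (by norm_num) hu0] at h
      norm_num at h
      omega
    · rw [← Nat.card_coe_set_eq, ← Nat.card_coe_set_eq, hcard hφu hφu0, hcard fr'.hxx (fr'.x_ne hs)]
  -- orthogonal centres
  have horth : ∀ {v w : Fin (4 + 2) → F}, Cfsg.hermForm (4 + 2) F 2 v v = 0 → v ≠ 0 →
      Cfsg.hermForm (4 + 2) F 2 w w = 0 → w ≠ 0 → Cfsg.hermForm (4 + 2) F 2 w v = 0 →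
      FixSet F σ X w = FixSet F σ X v := by
    intro v w hv hv0 hw hw0 hwv
    obtain ⟨y, hy, hyv⟩ := exists_iso_partner hf hv hv0
    obtain ⟨f', hfx, -⟩ := exists_fr hs (m := 4) hv hy (by rw [hf.herm, hyv, map_one])
    subst hfx
    have hdec := f'.decomp w
    rw [hwv, zero_smul, add_zero] at hdec
    obtain ⟨r, hr⟩ : ∃ r, r = f'.φ.proj w := ⟨_, rfl⟩
    obtain ⟨l, hl⟩ : ∃ l, l = Cfsg.hermForm (4 + 2) F 2 w f'.y := ⟨_, rfl⟩
    rw [← hr, ← hl] at hdec
    by_cases hr0 : r = 0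
    · rw [hr0, map_zero, add_zero] at hdec
      have hl0 : l ≠ 0 := fun e => hw0 (by rw [← hdec, e, zero_smul])
      have e : uT (Cfsg.hermForm (4 + 2) F 2) w 1 = uT (Cfsg.hermForm (4 + 2) F 2) f'.x 1 := by
        rw [← hdec, uT_smul_vec hs f'.hxx, norm_eq_one hs hl0, one_mul]
      simp only [FixSet, e]
    -- a partner orthogonal to both
    obtain ⟨t, ht⟩ := exists_form_eq hs hr0 (-l)
    obtain ⟨α, hα⟩ := exists_trace_eq hs.ne_refl hs.inv (b := -Cfsg.hermForm 4 F 2 t t)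
      (by rw [map_neg, self_fixed (hs.form 4)])
    obtain ⟨y', hy'⟩ : ∃ y', y' = α • f'.x + f'.y + f'.φ.toLin t := ⟨_, rfl⟩
    obtain ⟨f'', hfx'', hfy''⟩ := exists_fr hs (m := 4) f'.hxx (y := y') (by
        simp only [hy', hf.add_left, add_right' hf, hf.smul_left, smul_right' hf, f'.hxx, f'.hyy, f'.hxy, f'.hyx hs,
          f'.φx, f'.φy, f'.xφ hs, f'.yφ hs, f'.φ.iso']
        linear_combination hα)
      (by
        simp only [hy', add_right' hf, smul_right' hf, f'.hxx, f'.hxy, f'.xφ hs]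
        ring)
    have hwy : Cfsg.hermForm (4 + 2) F 2 w y' = 0 := by
      rw [← hdec]
      simp only [hy', hf.add_left, add_right' hf, hf.smul_left, smul_right' hf, f'.hxx, f'.hxy, f'.xφ hs, f'.φx,
        f'.φy, f'.φ.iso']
      rw [ht]
      ring
    have hd2 := f''.decomp w
    rw [hfy'', hwy, hfx'', hwv, zero_smul, zero_smul, zero_add, zero_add] at hd2
    have hr'' : Cfsg.hermForm 4 F 2 (f''.φ.proj w) (f''.φ.proj w) = 0 := by rw [← f''.φ.iso', hd2, hw]
    rw [← hd2, ← hfx'']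
    exact hmid f'' hr'' fun e => hw0 (by rw [← hd2, e, map_zero])
  intro hfix
  have hall : ∀ w, Cfsg.hermForm (4 + 2) F 2 w w = 0 → w ≠ 0 → ν ∈ FixSet F σ X w := by
    intro w hw hw0
    have hνx : ν ∈ FixSet F σ X fr.x := (hmem hxc ν).2 hfix
    by_cases hwx : Cfsg.hermForm (4 + 2) F 2 w fr.x = 0
    · rwa [horth fr.hxx (fr.x_ne hs) hw hw0 hwx]
    obtain ⟨u, hu, hu0, hur⟩ : ∃ u, Cfsg.hermForm 4 F 2 u u = 0 ∧ u ≠ 0 ∧
        Cfsg.hermForm 4 F 2 u (fr.φ.proj w) = 0 := by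
      by_cases hrr : Cfsg.hermForm 4 F 2 (fr.φ.proj w) (fr.φ.proj w) = 0
      · by_cases hr0 : fr.φ.proj w = 0
        · obtain ⟨u, hu, hne⟩ := exists_singular_test hs (by norm_num : 2 ≤ 4) (r := Pi.single 0 1)
            (fun h => one_ne_zero (α := F) (by simpa using congrFun h 0))
          exact ⟨u, hu, fun h => hne (by rw [h, zero_right' (hs.form 4)]), by rw [hr0, zero_right' (hs.form 4)]⟩
        · exact ⟨_, hrr, hr0, hrr⟩
      · obtain ⟨y, hy0, hyv, -⟩ := exists_perp_two' (hs.form 4) (by rw [Fintype.card_fin]; norm_num)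
          (fr.φ.proj w) (fr.φ.proj w)
        obtain ⟨u, hu, huv, hyu⟩ := exists_singular_test_perp hs (by norm_num : 3 ≤ 4) hrr hy0 hyv
        exact ⟨u, hu, fun h => one_ne_zero (α := F) (by rw [← hyu, h, zero_right' (hs.form 4)]), huv⟩
    have hφu : Cfsg.hermForm (4 + 2) F 2 (fr.φ.toLin u) (fr.φ.toLin u) = 0 := by rw [fr.φ.iso', hu]
    have hφu0 : fr.φ.toLin u ≠ 0 := fun h => hu0 (fr.φ.toLin_injective hs (h.trans (map_zero _).symm))
    have hwu : Cfsg.hermForm (4 + 2) F 2 w (fr.φ.toLin u) = 0 := by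
      rw [fr.φ.form_toLin hs]; exact (eq_zero_comm (hs.form 4)).mp hur
    rwa [horth hφu hφu0 hw hw0 hwu, hmid fr hu hu0]
  have htop : MulAction.stabilizer (transvGroup σ (Cfsg.hermForm (4 + 2) F 2)) ν = ⊤ := by
    refine eq_top_of_full hs fun v hv c hc g hg => ?_
    rw [MulAction.mem_stabilizer_iff]
    by_cases hv0 : v = 0
    · subst hv0
      exact MulAction.mem_stabilizer_iff.1 (full_zero hs c hc g hg)
    rcases skew_cases hs hc with rfl | rfl
    · rw [show g = 1 from Subtype.ext (hg.trans (gl_ext fun z => by rw [uT_mulVec hf hv]; simp)), one_smul]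
    · exact hall v hv hv0 g hg
  have hω : ∀ μ : X, μ = ν := fun μ => by
    obtain ⟨k, hk⟩ := MulAction.exists_smul_eq (transvGroup σ (Cfsg.hermForm (4 + 2) F 2)) ν μ
    rw [← hk]
    exact MulAction.mem_stabilizer_iff.1 (htop ▸ Subgroup.mem_top k)
  haveI : Subsingleton X := ⟨fun a b => (hω a).trans (hω b).symm⟩
  have := Finite.card_le_one_iff_subsingleton.2 (inferInstance : Subsingleton X)
  omega

/-- The standard frame in dimension six. -/
theorem exists_frame_six {ζ : F} (hζ : IsCubeRoot ζ) : ∃ fr : Fr F 2 4,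
    (∃ y₀ y₁ : F, fr.x = ![1, 1, 0, 0, 0, 0] ∧ fr.y = ![y₀, y₁, 0, 0, 0, 0]) ∧
      ∀ u, fr.φ.toLin u = ![0, 0, u 0, u 1, u 2, u 3] := by
  have hζ1 : ζ ^ 2 + ζ + 1 = 0 :=
    (mul_eq_zero.1 (show (ζ - 1) * (ζ ^ 2 + ζ + 1) = 0 by linear_combination hζ.1)).resolve_left
      (sub_ne_zero.2 hζ.2)
  have h2 := two_eq_zero hs
  have hh : ∀ (v w : Fin (4 + 2) → F), Cfsg.hermForm (4 + 2) F 2 v w =
      v 0 * σ (w 0) + v 1 * σ (w 1) + v 2 * σ (w 2) + v 3 * σ (w 3) + v 4 * σ (w 4) + v 5 * σ (w 5) := fun v w => by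
    rw [hermForm_eq hs.frob]; exact Fin.sum_univ_six _
  let L : (Fin 4 → F) →ₗ[F] (Fin (4 + 2) → F) :=
    { toFun := fun u => ![0, 0, u 0, u 1, u 2, u 3]
      map_add' := fun a b => by funext i; fin_cases i <;> simp
      map_smul' := fun c a => by funext i; fin_cases i <;> simp }
  let φ : Emb F 2 (4 + 2) 4 := ⟨L, fun u v => by
    show Cfsg.hermForm (4 + 2) F 2 ![0, 0, u 0, u 1, u 2, u 3] ![0, 0, v 0, v 1, v 2, v 3] = _
    rw [hh, hermForm_eq hs.frob, Fin.sum_univ_four]; simp⟩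
  have hproj : ∀ z, φ.proj z = ![z 2, z 3, z 4, z 5] := fun z => by
    funext i
    show Cfsg.hermForm (4 + 2) F 2 z ![0, 0, (Pi.single i 1 : Fin 4 → F) 0, (Pi.single i 1 : Fin 4 → F) 1,
      (Pi.single i 1 : Fin 4 → F) 2, (Pi.single i 1 : Fin 4 → F) 3] = _
    rw [hh]; fin_cases i <;> simp
  have hz4 : (ζ ^ 2) ^ 2 = ζ := by linear_combination ζ * hζ.1
  refine ⟨⟨![1, 1, 0, 0, 0, 0], ![ζ, ζ ^ 2, 0, 0, 0, 0], φ, ?_, ?_, ?_, fun u => ?_, fun u => ?_, fun z => ?_⟩,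
    ⟨ζ, ζ ^ 2, rfl, rfl⟩, fun u => rfl⟩
  · rw [hh]; simp; linear_combination h2
  · rw [hh]; simp [hs.frob, hz4]; linear_combination ζ ^ 3 * h2
  · rw [hh]; simp [hs.frob, hz4]; linear_combination hζ1 - h2
  · show Cfsg.hermForm (4 + 2) F 2 ![0, 0, u 0, u 1, u 2, u 3] _ = 0
    rw [hh]; simp
  · show Cfsg.hermForm (4 + 2) F 2 ![0, 0, u 0, u 1, u 2, u 3] _ = 0
    rw [hh]; simp
  · show _ + ![0, 0, φ.proj z 0, φ.proj z 1, φ.proj z 2, φ.proj z 3] = z
    rw [hproj, hh, hh]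
    funext i
    fin_cases i <;> simp [hs.frob, hz4] <;>
      first
        | linear_combination (z 0) * hζ1 - z 0 * h2 + z 1 * ζ * h2
        | linear_combination (z 1) * hζ1 - z 1 * h2 + z 0 * ζ ^ 2 * h2

set_option maxHeartbeats 2000000 in
set_option synthInstance.maxHeartbeats 400000 in
/-- A transitive action of degree below `672` is trivial. -/
theorem action_trivial_six {X : Type*}
    [MulAction (transvGroup σ (Cfsg.hermForm (4 + 2) F 2)) X] [Finite X]
    [MulAction.IsPretransitive (transvGroup σ (Cfsg.hermForm (4 + 2) F 2)) X]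
    (hlt : Nat.card X < 672) (ω : X)
    (g : transvGroup σ (Cfsg.hermForm (4 + 2) F 2)) : g • ω = ω := by
  classical
  obtain ⟨ζ, hζ⟩ := exists_cubeRoot hs
  obtain ⟨fr, ⟨y₀, y₁, hfx, hfy⟩, hfφ⟩ := exists_frame_six hs hζ
  have hm : 2 ≤ 4 := by norm_num
  by_cases hA : ∀ ω : X, skew σ ≤ fr.Aof hs hm ω
  · exact fr.fix_all_of_full hs hm hA ω g
  push Not at hA
  obtain ⟨ω₀, hω₀⟩ := hA
  obtain ⟨t₀, ht₀, ht₀A⟩ := SetLike.not_le_iff_exists.1 hω₀
  obtain ⟨hA₀, hW₀⟩ := fr.six_regular hs hlt ht₀ ht₀A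
  exfalso
  have hf := hs.form (4 + 2)
  have h2 := two_eq_zero hs
  have h1 : (1 : F) ∈ skew σ := mem_skew.2 (by rw [map_one]; linear_combination h2)
  have h1A : (1 : F) ∉ fr.Aof hs hm ω₀ := by rw [hA₀, AddSubgroup.mem_bot]; exact one_ne_zero
  have hmoves := six_no_fixed hs hlt fr (h1 := h1) h1A
  have hreg : ∀ ν : X, fr.Aof hs hm ν = ⊥ ∧ fr.Wof hs hm ν = ⊥ := fun ν =>
    fr.six_regular hs hlt h1 fun h => hmoves ν h.2
  -- diagonal elements
  let dg : (Fin (4 + 2) → ZMod 3) → GL (Fin (4 + 2)) F := fun e => diagU (fun i => zpw ζ (e i)) fun _ => zpw_ne hζ _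
  have hdgv : ∀ e (v : Fin (4 + 2) → F) (i : Fin (4 + 2)),
      ((dg e : Matrix (Fin (4 + 2)) (Fin (4 + 2)) F) *ᵥ v) i = zpw ζ (e i) * v i := fun e v i => diagU_mulVec _ _ v i
  have hdgmem : ∀ e : Fin (4 + 2) → ZMod 3, e 0 + e 1 + e 2 + e 3 + e 4 + e 5 = 0 →
      dg e ∈ transvGroup σ (Cfsg.hermForm (4 + 2) F 2) := by
    intro e he
    refine mem_transvGroup_short hf (by simp) (Or.inl (by simp)) (hermForm_basis hs.frob)
      (iso_diagU hs _ fun i => norm_eq_one hs (zpw_ne hζ _)) ?_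
    show (diagonal fun i => zpw ζ (e i)).det = 1
    rw [det_diagonal]
    refine (Fin.prod_univ_six (fun i => zpw ζ (e i))).trans ?_
    rw [← zpw_add hζ, ← zpw_add hζ, ← zpw_add hζ, ← zpw_add hζ, ← zpw_add hζ, he, zpw_zero]
  let el : {e : Fin (4 + 2) → ZMod 3 // e 0 + e 1 + e 2 + e 3 + e 4 + e 5 = 0} →
      transvGroup σ (Cfsg.hermForm (4 + 2) F 2) := fun e => ⟨dg e.1, hdgmem e.1 e.2⟩
  have hel : ∀ e (v : Fin (4 + 2) → F) (i : Fin (4 + 2)),
      (((el e).1 : Matrix (Fin (4 + 2)) (Fin (4 + 2)) F) *ᵥ v) i = zpw ζ (e.1 i) * v i := fun e v i => hdgv e.1 v i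
  have hcomm : ∀ e e', el e * el e' = el e' * el e := fun e e' => Subtype.ext (gl_ext fun v => funext fun i => by
    rw [Subgroup.coe_mul, Subgroup.coe_mul, mul_mulVec, mul_mulVec, hel, hel, hel, hel]; ring)
  have hcube : ∀ e, el e ^ 3 = 1 := fun e => Subtype.ext (gl_ext fun v => funext fun i => by
    rw [show el e ^ 3 = el e * el e * el e by rw [pow_succ, pow_two], Subgroup.coe_mul, Subgroup.coe_mul, mul_mulVec,
      mul_mulVec, hel, hel, hel, ← mul_assoc, ← mul_assoc, ← zpw_add hζ, ← zpw_add hζ,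
      (show ∀ x : ZMod 3, x + x + x = 0 by decide) (e.1 i), zpw_zero, one_mul, Subgroup.coe_one, Units.val_one,
      one_mulVec])
  -- elements of frame form
  have hmov : ∀ e, e.1 0 = e.1 1 → ∃ (γ : GL (Fin 4) F) (hg : fr.Mov (σ := σ) (el e).1 (zpw ζ (e.1 0)) γ),
      ∀ p : Rad σ 2 4, (fr.tr hs hg p).1.2 = p.1.2 ∧
        (fr.tr hs hg p).1.1 = fun i => zpw ζ (e.1 0 + e.1 0 + ![e.1 2, e.1 3, e.1 4, e.1 5] i) * p.1.1 i := by
    intro e he01
    obtain ⟨γ, hγ⟩ : ∃ γ : GL (Fin 4) F,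
        γ = diagU (fun i => zpw ζ (![e.1 2, e.1 3, e.1 4, e.1 5] i)) (fun i => zpw_ne hζ _) := ⟨_, rfl⟩
    have hainv : (σ (zpw ζ (e.1 0)))⁻¹ = zpw ζ (e.1 0) :=
      inv_eq_of_mul_eq_one_left (norm_eq_one hs (zpw_ne hζ _))
    have hm' : fr.Mov (σ := σ) (el e).1 (zpw ζ (e.1 0)) γ := by
      refine ⟨zpw_ne hζ _, hγ ▸ iso_diagU hs _ (fun i => norm_eq_one hs (zpw_ne hζ _)), ?_, ?_, fun u => ?_⟩
      · funext i; rw [hel, hfx]; fin_cases i <;> simp [he01]
      · funext i; rw [hel, hfy, hainv]; fin_cases i <;> simp [he01]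
      · funext i
        rw [hel, hfφ, hfφ, hγ]
        fin_cases i <;> simp [diagU_mulVec]
    refine ⟨γ, hm', fun p => ⟨?_, ?_⟩⟩
    · show zpw ζ (e.1 0) * σ (zpw ζ (e.1 0)) * p.1.2 = p.1.2
      rw [norm_eq_one hs (zpw_ne hζ _), one_mul]
    · show σ (zpw ζ (e.1 0)) • ((γ : Matrix (Fin 4) (Fin 4) F) *ᵥ p.1.1) = _
      funext i
      rw [Pi.smul_apply, hγ, diagU_mulVec, sigma_zpw hs hζ, smul_eq_mul, ← mul_assoc, ← zpw_add hζ]
  -- the basic element
  let e₀ : {e : Fin (4 + 2) → ZMod 3 // e 0 + e 1 + e 2 + e 3 + e 4 + e 5 = 0} := ⟨![0, 0, 1, 1, 2, 2], by decide⟩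
  obtain ⟨γ₀, hg₀, htr₀⟩ := hmov e₀ rfl
  obtain ⟨ω', hfix', hA', hW', huniq⟩ := fr.fixed_point hs hm (by norm_num) (Fr.six_hlt hs hlt) hA₀ hW₀ hg₀
    (fun w hw => by
      funext i
      obtain ⟨b, hb⟩ := exists_trace_eq hs.ne_refl hs.inv (b := -Cfsg.hermForm 4 F 2 w w)
        (by rw [map_neg, self_fixed (hs.form 4)])
      have h := congrFun ((htr₀ ⟨(w, b), by linear_combination hb⟩).2.symm.trans hw) i
      have hne : zpw ζ ((0 : ZMod 3) + 0 + ![(1 : ZMod 3), 1, 2, 2] i) ≠ 1 :=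
        zpw_ne_one hζ ((show ∀ i : Fin 4, (0 : ZMod 3) + 0 + ![(1 : ZMod 3), 1, 2, 2] i ≠ 0 by decide) i)
      exact (mul_eq_zero.1 (show (zpw ζ ((0 : ZMod 3) + 0 + ![(1 : ZMod 3), 1, 2, 2] i) - 1) * w i = 0 by
        have h' : zpw ζ ((0 : ZMod 3) + 0 + ![(1 : ZMod 3), 1, 2, 2] i) * w i = w i := h
        linear_combination h')).resolve_left (sub_ne_zero.2 hne))
    (Or.inr ⟨3, hcube e₀, by
      push_cast
      intro h3
      exact one_ne_zero (show (1 : F) = 0 by linear_combination h3 - h2)⟩)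
  obtain ⟨Z, hZ⟩ : ∃ Z, Z = fr.rad hs hm (Rad.zr hs h1) := ⟨_, rfl⟩
  have hpair : ∀ ν : X, el e₀ • ν = ν ↔ ν = ω' ∨ ν = Z • ω' := by
    intro ν
    constructor
    · intro hν
      obtain ⟨c, hc, e⟩ := huniq ν hν (hreg ν).1 (hreg ν).2
      rcases skew_cases hs hc with rfl | rfl
      · exact Or.inl (by rw [← e, fr.rad_one hs hm, one_smul])
      · exact Or.inr (by rw [← e, hZ])
    · rintro (rfl | rfl)
      · exact hfix'
      · have h1' : zpw ζ (e₀.1 0) * σ (zpw ζ (e₀.1 0)) * 1 ∈ skew σ := by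
          rw [norm_eq_one hs (zpw_ne hζ _), one_mul]; exact h1
        rw [hZ, fr.mov_zr hs hm hg₀ h1 h1', hfix']
        congr 2
        exact Subtype.ext (Prod.ext rfl (by
          show zpw ζ (e₀.1 0) * σ (zpw ζ (e₀.1 0)) * 1 = 1
          rw [norm_eq_one hs (zpw_ne hζ _), one_mul]))
  have hZne : Z • ω' ≠ ω' := hZ ▸ hmoves ω'
  have htwo : Nat.card {ν : X // el e₀ • ν = ν} = 2 := by
    rw [Nat.card_congr (Equiv.subtypeEquivRight hpair)]
    have e : {ν : X // ν = ω' ∨ ν = Z • ω'} ≃ ({ω', Z • ω'} : Finset X) :=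
      Equiv.subtypeEquivRight fun ν => by simp
    rw [Nat.card_congr e, Nat.card_eq_fintype_card, Fintype.card_coe, Finset.card_pair hZne.symm]
  -- every diagonal element fixes both points
  have hfixall : ∀ e, el e • ω' = ω' ∧ el e • Z • ω' = Z • ω' := by
    intro e
    have hpres : ∀ ν : X, el e₀ • ν = ν → el e₀ • el e • ν = el e • ν := fun ν hν => by
      rw [← mul_smul, hcomm e₀ e, mul_smul, hν]
    have h3 : el e • el e • el e • ω' = ω' := by
      rw [← mul_smul, ← mul_smul, ← pow_two, ← pow_succ, hcube, one_smul]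
    have hω : el e • ω' = ω' := by
      rcases (hpair _).1 (hpres ω' ((hpair _).2 (Or.inl rfl))) with h | h
      · exact h
      · exfalso
        rcases (hpair _).1 (hpres _ ((hpair _).2 (Or.inr rfl))) with h' | h'
        · rw [h, h', h] at h3
          exact hZne h3
        · exact hZne (smul_left_cancel (el e) (h'.trans h.symm))
    refine ⟨hω, ?_⟩
    rcases (hpair _).1 (hpres _ ((hpair _).2 (Or.inr rfl))) with h' | h'
    · exact absurd (smul_left_cancel (el e) (h'.trans hω.symm)) hZne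
    · exact h'
  -- permuted tuples fix only those
  have honly : ∀ (e : {e : Fin (4 + 2) → ZMod 3 // e 0 + e 1 + e 2 + e 3 + e 4 + e 5 = 0})
      (p : Equiv.Perm (Fin (4 + 2))), (∀ i, e.1 i = e₀.1 (p i)) → ∀ ν, el e • ν = ν → ν = ω' ∨ ν = Z • ω' := by
    intro e p hp ν hν
    obtain ⟨π, hπ⟩ : ∃ π : GL (Fin (4 + 2)) F, ∀ v i, ((π : Matrix (Fin (4 + 2)) (Fin (4 + 2)) F) *ᵥ v) i = v (p i) :=
      ⟨⟨p.permMatrix F, p⁻¹.permMatrix F, by rw [← Matrix.permMatrix_mul, inv_mul_cancel, Matrix.permMatrix_one],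
        by rw [← Matrix.permMatrix_mul, mul_inv_cancel, Matrix.permMatrix_one]⟩, fun v i => by
        show (p.permMatrix F *ᵥ v) i = _
        rw [Matrix.permMatrix_mulVec]; rfl⟩
    have hiso : Iso (Cfsg.hermForm (4 + 2) F 2) π := fun v w => by
      rw [hermForm_eq hs.frob, hermForm_eq hs.frob]
      simp only [hπ]
      exact Equiv.sum_comp p fun i => v i * σ (w i)
    have hdet : (π : Matrix (Fin (4 + 2)) (Fin (4 + 2)) F).det = 1 := by
      have hval : (π : Matrix (Fin (4 + 2)) (Fin (4 + 2)) F) = p.permMatrix F :=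
        Matrix.ext_of_mulVec_single fun j => funext fun i => by rw [hπ, Matrix.permMatrix_mulVec]; rfl
      rw [hval, Matrix.det_permutation]
      rcases Int.units_eq_one_or (Equiv.Perm.sign p) with e | e <;> rw [e]
      · simp
      · push_cast
        linear_combination -h2
    let πT : transvGroup σ (Cfsg.hermForm (4 + 2) F 2) :=
      ⟨π, mem_transvGroup_short hf (by simp) (Or.inl (by simp)) (hermForm_basis hs.frob) hiso hdet⟩
    have hconj : el e * πT = πT * el e₀ :=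
      Subtype.ext (gl_ext fun v => funext fun i => by
        show (((dg e.1 * π : GL (Fin (4 + 2)) F) : Matrix (Fin (4 + 2)) (Fin (4 + 2)) F) *ᵥ v) i =
          (((π * dg e₀.1 : GL (Fin (4 + 2)) F) : Matrix (Fin (4 + 2)) (Fin (4 + 2)) F) *ᵥ v) i
        rw [mul_mulVec, mul_mulVec, hdgv, hπ, hπ, hdgv, hp])
    by_contra hν'
    push Not at hν'
    have hcard : Nat.card {μ : X // el e • μ = μ} = 2 := by
      refine (Nat.card_congr (Equiv.subtypeEquiv (MulAction.toPerm πT) fun μ => ?_)).symm.trans htwo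
      rw [MulAction.toPerm_apply, ← mul_smul, hconj, mul_smul, smul_left_cancel_iff]
    have h3 : ({ω', Z • ω', ν} : Finset X).card = 3 := by
      rw [Finset.card_insert_of_notMem (by simp [hZne.symm, hν'.1.symm]), Finset.card_pair hν'.2.symm]
    have hle := Nat.card_le_card_of_injective
      (fun y : ({ω', Z • ω', ν} : Finset X) => (⟨y.1, by
        have := y.2
        simp only [Finset.mem_insert, Finset.mem_singleton] at this
        rcases this with h | h | h <;> rw [h]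
        · exact (hfixall e).1
        · exact (hfixall e).2
        · exact hν⟩ : {μ : X // el e • μ = μ}))
      (fun y y' h => Subtype.ext (congrArg (fun t : {μ : X // el e • μ = μ} => t.1) h))
    rw [Nat.card_eq_fintype_card, Fintype.card_coe, h3, hcard] at hle
    omega
  have hall : ∀ ν : X, ∃ p, fr.rad hs hm p • ω' = ν := fun ν =>
    fr.regular_unique hs hm (by norm_num) (Fr.six_hlt hs hlt) hA' hW' (hreg ν).1 (hreg ν).2
  -- the three elements agreeing on the fixed points of a fourth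
  let g₁ : {e : Fin (4 + 2) → ZMod 3 // e 0 + e 1 + e 2 + e 3 + e 4 + e 5 = 0} := ⟨![0, 1, 2, 0, 1, 2], by decide⟩
  let g₂ : {e : Fin (4 + 2) → ZMod 3 // e 0 + e 1 + e 2 + e 3 + e 4 + e 5 = 0} := ⟨![0, 1, 0, 1, 2, 2], by decide⟩
  let g₃ : {e : Fin (4 + 2) → ZMod 3 // e 0 + e 1 + e 2 + e 3 + e 4 + e 5 = 0} := ⟨![0, 1, 1, 0, 2, 2], by decide⟩
  let h₁ : {e : Fin (4 + 2) → ZMod 3 // e 0 + e 1 + e 2 + e 3 + e 4 + e 5 = 0} := ⟨![0, 0, 1, 1, 1, 0], by decide⟩
  let h₂ : {e : Fin (4 + 2) → ZMod 3 // e 0 + e 1 + e 2 + e 3 + e 4 + e 5 = 0} := ⟨![0, 0, 2, 0, 1, 0], by decide⟩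
  let k₀ : {e : Fin (4 + 2) → ZMod 3 // e 0 + e 1 + e 2 + e 3 + e 4 + e 5 = 0} := ⟨![0, 0, 0, 1, 1, 1], by decide⟩
  have hfix1 := honly g₁ (Equiv.ofBijective ![0, 2, 4, 1, 3, 5] (by decide)) (by decide)
  have hfix2 := honly g₂ (Equiv.ofBijective ![0, 2, 1, 3, 4, 5] (by decide)) (by decide)
  have hfix3 := honly g₃ (Equiv.ofBijective ![0, 2, 3, 1, 4, 5] (by decide)) (by decide)
  have hsum : ∀ e e' e'' : {e : Fin (4 + 2) → ZMod 3 // e 0 + e 1 + e 2 + e 3 + e 4 + e 5 = 0},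
      (∀ i, e''.1 i = e'.1 i + e.1 i) → el e'' = el e' * el e := fun e e' e'' h =>
    Subtype.ext (gl_ext fun v => funext fun i => by
      rw [Subgroup.coe_mul, mul_mulVec, hel, hel, hel, h, zpw_add hζ, mul_assoc])
  have hact : ∀ e (he : e.1 0 = e.1 1) (p p' : Rad σ 2 4),
      p'.1.1 = (fun i => zpw ζ (e.1 0 + e.1 0 + ![e.1 2, e.1 3, e.1 4, e.1 5] i) * p.1.1 i) → p'.1.2 = p.1.2 →
        el e • fr.rad hs hm p • ω' = fr.rad hs hm p' • ω' := by
    intro e he p p' e1 e2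
    obtain ⟨γ, hg, htr⟩ := hmov e he
    rw [fr.mov_rad hs hm hg, (hfixall e).1]
    congr 2
    exact Subtype.ext (Prod.ext ((htr p).2.trans e1.symm) ((htr p).1.trans e2.symm))
  have hzero : ∀ p : Rad σ 2 4, p.1.1 = 0 → fr.rad hs hm p • ω' = ω' ∨ fr.rad hs hm p • ω' = Z • ω' := by
    intro p hp
    have hc : p.1.2 ∈ skew σ := by
      have := p.2
      rw [hp, zero_left' (hs.form 4), add_zero] at this
      exact this
    rcases skew_cases hs hc with hb | hb
    · left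
      rw [show p = Rad.zr hs (zero_mem (skew σ)) from Subtype.ext (Prod.ext hp hb), fr.rad_one hs hm, one_smul]
    · right
      rw [show p = Rad.zr hs h1 from Subtype.ext (Prod.ext hp hb), hZ]
  have hnotpair : ∀ (p : Rad σ 2 4), p.1.1 ≠ 0 → fr.rad hs hm p • ω' ≠ ω' ∧ fr.rad hs hm p • ω' ≠ Z • ω' := by
    intro p hp
    refine ⟨fun e => hp ?_, fun e => hp ?_⟩
    · have e' : fr.rad hs hm p • ω' = fr.rad hs hm (Rad.zr hs (zero_mem (skew σ))) • ω' := by
        rw [fr.rad_one hs hm, one_smul]; exact e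
      exact congrArg (fun r : Rad σ 2 4 => r.1.1) (fr.rad_smul_inj hs hm hA' hW' e')
    · rw [hZ] at e
      exact congrArg (fun r : Rad σ 2 4 => r.1.1) (fr.rad_smul_inj hs hm hA' hW' e)
  -- a step changes the second coordinate
  have hstep : ∀ p : Rad σ 2 4, (p.1.1 0 ≠ 0 ∧ ∀ i, i ≠ 0 → p.1.1 i = 0) →
      ∃ p' : Rad σ 2 4, (p'.1.1 0 ≠ 0 ∧ ∀ i, i ≠ 0 → p'.1.1 i = 0) ∧ p'.1.2 ≠ p.1.2 ∧
        el g₁ • fr.rad hs hm p • ω' = fr.rad hs hm p' • ω' := by
    rintro p ⟨hp0, hp⟩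
    have hpne : p.1.1 ≠ 0 := fun h => hp0 (by rw [h]; rfl)
    obtain ⟨p', hp'⟩ := hall (el g₁ • fr.rad hs hm p • ω')
    have hk : el k₀ • fr.rad hs hm p • ω' = fr.rad hs hm p • ω' := hact k₀ rfl p p (funext fun i => by
      by_cases hi : i = 0
      · subst hi
        show _ = zpw ζ ((0 : ZMod 3) + 0 + 0) * p.1.1 0
        rw [add_zero, add_zero, zpw_zero, one_mul]
      · rw [hp i hi, mul_zero]) rfl
    have hp'0 : ∀ i, i ≠ 0 → p'.1.1 i = 0 := by
      intro i hi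
      have hk' : el k₀ • fr.rad hs hm p' • ω' = fr.rad hs hm p' • ω' := by
        rw [hp', ← mul_smul (el k₀), hcomm, mul_smul, hk]
      obtain ⟨γ, hg, htr⟩ := hmov k₀ rfl
      rw [fr.mov_rad hs hm hg, (hfixall k₀).1] at hk'
      have h := congrArg (fun r : Rad σ 2 4 => r.1.1 i) (fr.rad_smul_inj hs hm hA' hW' hk')
      simp only [(htr p').2] at h
      have hne : zpw ζ ((0 : ZMod 3) + 0 + ![(0 : ZMod 3), 1, 1, 1] i) ≠ 1 :=
        zpw_ne_one hζ ((show ∀ i : Fin 4, i ≠ 0 → (0 : ZMod 3) + 0 + ![(0 : ZMod 3), 1, 1, 1] i ≠ 0 by decide) i hi)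
      exact (mul_eq_zero.1 (show (zpw ζ ((0 : ZMod 3) + 0 + ![(0 : ZMod 3), 1, 1, 1] i) - 1) * p'.1.1 i = 0 by
        have h' : zpw ζ ((0 : ZMod 3) + 0 + ![(0 : ZMod 3), 1, 1, 1] i) * p'.1.1 i = p'.1.1 i := h
        linear_combination h')).resolve_left (sub_ne_zero.2 hne)
    have hp'00 : p'.1.1 0 ≠ 0 := by
      intro h0
      have hw : p'.1.1 = 0 := funext fun i => by
        by_cases hi : i = 0
        · rw [hi]; exact h0
        · exact hp'0 i hi
      rcases hzero p' hw with h | h <;> rw [hp'] at h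
      · exact (hnotpair p hpne).1 (smul_left_cancel (el g₁) (h.trans (hfixall g₁).1.symm))
      · exact (hnotpair p hpne).2 (smul_left_cancel (el g₁) (h.trans (hfixall g₁).2.symm))
    refine ⟨p', ⟨hp'00, hp'0⟩, fun hb => ?_, hp'.symm⟩
    -- otherwise one of the three elements would fix the point
    have hmem : ∀ x : F, x ≠ 0 → ∃ j : ZMod 3, zpw ζ j = x := by
      intro x hx
      have h : (x - 1) * ((x - ζ) * (x - ζ ^ 2)) = 0 := by
        have hζ1 : ζ ^ 2 + ζ + 1 = 0 :=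
          (mul_eq_zero.1 (show (ζ - 1) * (ζ ^ 2 + ζ + 1) = 0 by linear_combination hζ.1)).resolve_left
            (sub_ne_zero.2 hζ.2)
        linear_combination cube_eq_one hs hx - hζ.1 + (ζ * x - x ^ 2) * hζ1
      rcases mul_eq_zero.1 h with h | h
      · exact ⟨0, by rw [zpw_zero, sub_eq_zero.1 h]⟩
      rcases mul_eq_zero.1 h with h | h
      · exact ⟨1, by rw [zpw_one, sub_eq_zero.1 h]⟩
      · exact ⟨2, by rw [sub_eq_zero.1 h]; rfl⟩
    obtain ⟨j, hj⟩ := hmem (p.1.1 0 / p'.1.1 0) (div_ne_zero hp0 hp'00)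
    have hback : ∀ e, e.1 0 = 0 → e.1 1 = 0 → e.1 2 = j → el e • fr.rad hs hm p' • ω' = fr.rad hs hm p • ω' :=
      fun e h0 h1 h2 => hact e (h0.trans h1.symm) p' p (funext fun i => by
        by_cases hi : i = 0
        · subst hi
          show _ = zpw ζ (e.1 0 + e.1 0 + e.1 2) * p'.1.1 0
          rw [h0, h2, add_zero, zero_add, hj, div_mul_cancel₀ _ hp'00]
        · rw [hp i hi, hp'0 i hi, mul_zero]) hb.symm
    have hout := hnotpair p hpne
    rcases (show ∀ j : ZMod 3, j = 0 ∨ j = 1 ∨ j = 2 by decide) j with rfl | rfl | rfl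
    · have h := hback k₀ rfl rfl rfl
      rw [hp', ← mul_smul (el k₀), hcomm, mul_smul, hk] at h
      rcases hfix1 _ h with h' | h'
      · exact hout.1 h'
      · exact hout.2 h'
    · have h := hback h₁ rfl rfl rfl
      rw [hp', ← mul_smul (el h₁), ← hsum g₁ h₁ g₂ (by decide)] at h
      rcases hfix2 _ h with h' | h'
      · exact hout.1 h'
      · exact hout.2 h'
    · have h := hback h₂ rfl rfl rfl
      rw [hp', ← mul_smul (el h₂), ← hsum g₁ h₂ g₃ (by decide)] at h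
      rcases hfix3 _ h with h' | h'
      · exact hout.1 h'
      · exact hout.2 h'
  -- two values only
  have hbval : ∀ p : Rad σ 2 4, (p.1.1 0 ≠ 0 ∧ ∀ i, i ≠ 0 → p.1.1 i = 0) → p.1.2 ^ 2 + p.1.2 + 1 = 0 := by
    rintro p ⟨hp0, hp⟩
    have h := p.2
    rw [hermForm_eq hs.frob, Finset.sum_eq_single 0 (fun i _ hi => by rw [hp i hi, zero_mul])
      (fun h => absurd (Finset.mem_univ _) h), norm_eq_one hs hp0] at h
    rw [← hs.frob]
    linear_combination h
  obtain ⟨p, hp⟩ : ∃ p : Rad σ 2 4, p.1.1 0 ≠ 0 ∧ ∀ i, i ≠ 0 → p.1.1 i = 0 := by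
    obtain ⟨b, hb⟩ := exists_trace_eq hs.ne_refl hs.inv
      (b := -Cfsg.hermForm 4 F 2 (Pi.single 0 1) (Pi.single 0 1)) (by rw [map_neg, self_fixed (hs.form 4)])
    refine ⟨⟨(Pi.single 0 1, b), by linear_combination hb⟩, ?_, fun i hi => ?_⟩
    · simp
    · exact Pi.single_eq_of_ne hi _
  obtain ⟨p₁, hp₁, hb₁, e₁⟩ := hstep p hp
  obtain ⟨p₂, hp₂, hb₂, e₂⟩ := hstep p₁ hp₁
  obtain ⟨p₃, hp₃, hb₃, e₃⟩ := hstep p₂ hp₂
  have hpp : p₃ = p := fr.rad_smul_inj hs hm hA' hW' (by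
    rw [← e₃, ← e₂, ← e₁, ← mul_smul, ← mul_smul, ← pow_two, ← pow_succ, hcube, one_smul])
  subst hpp
  have hsum' : ∀ {a b : Rad σ 2 4}, (a.1.1 0 ≠ 0 ∧ ∀ i, i ≠ 0 → a.1.1 i = 0) →
      (b.1.1 0 ≠ 0 ∧ ∀ i, i ≠ 0 → b.1.1 i = 0) → b.1.2 ≠ a.1.2 → b.1.2 + a.1.2 + 1 = 0 := fun {a b} ha hb hne =>
    (mul_eq_zero.1 (show (b.1.2 - a.1.2) * (b.1.2 + a.1.2 + 1) = 0 by
      linear_combination hbval b hb - hbval a ha)).resolve_left (sub_ne_zero.2 hne)
  exact hb₃ (by linear_combination hsum' hp₁ hp₂ hb₂ * (-1) + hsum' hp hp₁ hb₁)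

/-- A subgroup of index below `672` of the transvection group is everything. -/
theorem eq_top_of_index_six (H : Subgroup (transvGroup σ (Cfsg.hermForm (4 + 2) F 2)))
    (hlt : H.index < 672) : H = ⊤ := by
  refine eq_top_iff.2 fun g _ => ?_
  have h := action_trivial_six hs (X := transvGroup σ (Cfsg.hermForm (4 + 2) F 2) ⧸ H) hlt (QuotientGroup.mk 1) g
  rw [MulAction.Quotient.smul_mk, QuotientGroup.eq] at h
  simpa using h

end CfsgLib.UnMinIndex
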