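/-
The minimal index of a proper subgroup of `PSU_n(2)` for `n` a multiple of six.
-/
import Cfsg.Agent.Lib.UnMinIndex.SixTwo
import Cfsg.Agent.Lib.UnMinIndex.Main

set_option autoImplicit false

namespace CfsgLib.UnMinIndex

open Matrix CfsgLib.Transvec CfsgLib.Transvec.Unitary CfsgLib.Classical.Unitary

variable {F : Type*} [Field F] [Fintype F] {σ : F ≃+* F} {m : ℕ}

/-- The nonsingular lines. -/
abbrev NLine (F : Type*) [Field F] (n : ℕ) : Type _ :=
  {L : Submodule F (Fin n → F) // ∃ v, Cfsg.hermForm n F 2 v v ≠ 0 ∧ L = Submodule.span F {v}}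

variable (hs : Setup F 2 σ)
include hs

theorem form_eq_one {n : ℕ} {v : Fin n → F} (hv : Cfsg.hermForm n F 2 v v ≠ 0) :
    Cfsg.hermForm n F 2 v v = 1 := by
  refine (skew_cases hs (mem_skew.2 ?_)).resolve_left hv
  rw [self_fixed (hs.form n)]
  linear_combination Cfsg.hermForm n F 2 v v * two_eq_zero hs

/-- Counting nonsingular vectors line by line. -/
theorem card_nline (n : ℕ) : Nat.card (NLine F n) * 3 + sCount F 2 n + 1 = 2 ^ (2 * n) := by
  classical
  have hf := hs.form n
  have hne : ∀ {v : Fin n → F}, Cfsg.hermForm n F 2 v v ≠ 0 → v ≠ 0 := fun h e => h (by rw [e, zero_left' hf])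
  have hrep : ∀ L : NLine F n, ∃ v, Cfsg.hermForm n F 2 v v ≠ 0 ∧ L.1 = Submodule.span F {v} := fun L => L.2
  choose rep hrepi hreps using hrep
  let f : NLine F n × {a : F // a ≠ 0} → {v : Fin n → F // Cfsg.hermForm n F 2 v v ≠ 0} := fun p =>
    ⟨p.2.1 • rep p.1, by
      rw [hf.smul_left, smul_right' hf]
      exact mul_ne_zero p.2.2 (mul_ne_zero ((map_ne_zero_iff _ σ.injective).2 p.2.2) (hrepi p.1))⟩
  have hf' : Function.Bijective f := by
    refine ⟨fun p p' h => ?_, fun v => ?_⟩
    · have h' : p.2.1 • rep p.1 = p'.2.1 • rep p'.1 := congrArg Subtype.val h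
      have hL : p.1 = p'.1 := Subtype.ext (by
        rw [hreps, hreps, ← Submodule.span_singleton_smul_eq (IsUnit.mk0 _ p.2.2) (rep p.1), h',
          Submodule.span_singleton_smul_eq (IsUnit.mk0 _ p'.2.2)])
      rw [hL] at h'
      exact Prod.ext hL (Subtype.ext (smul_left_injective F (hne (hrepi p'.1)) h'))
    · let L : NLine F n := ⟨_, v.1, v.2, rfl⟩
      have hv : v.1 ∈ L.1 := Submodule.mem_span_singleton_self _
      rw [hreps] at hv
      obtain ⟨a, ha⟩ := Submodule.mem_span_singleton.1 hv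
      exact ⟨(L, ⟨a, fun h => hne v.2 (by rw [← ha, h, zero_smul])⟩), Subtype.ext ha⟩
  have h := card_nonsingular hs n
  rw [← Fintype.card_subtype, ← Nat.card_eq_fintype_card, ← Nat.card_congr (Equiv.ofBijective f hf'), Nat.card_prod,
    Nat.card_eq_fintype_card (α := {a : F // a ≠ 0}), Fintype.card_subtype_compl, Fintype.card_subtype_eq,
    hs.card] at h
  norm_num at h
  rw [Nat.card_eq_fintype_card]
  exact h

/-- A subgroup containing the centre whose index is the number of nonsingular lines. -/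
theorem exists_nline_subgroup (hm : 2 ≤ m) :
    ∃ P : Subgroup (transvGroup σ (Cfsg.hermForm (m + 2) F 2)),
      Subgroup.center (transvGroup σ (Cfsg.hermForm (m + 2) F 2)) ≤ P ∧ P.index = Nat.card (NLine F (m + 2)) := by
  classical
  have hf := hs.form (m + 2)
  obtain ⟨x, hxx⟩ : ∃ x : Fin (m + 2) → F, Cfsg.hermForm (m + 2) F 2 x x ≠ 0 :=
    ⟨Pi.single 0 1, by rw [hermForm_basis hs.frob, if_pos rfl]; exact one_ne_zero⟩
  have hx0 : x ≠ 0 := fun h => hxx (by rw [h, zero_left' hf])
  let line : transvGroup σ (Cfsg.hermForm (m + 2) F 2) → NLine F (m + 2) := fun g =>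
    ⟨Submodule.span F {(g.1 : Matrix (Fin (m + 2)) (Fin (m + 2)) F) *ᵥ x}, _,
      by rw [transvGroup_iso hf g]; exact hxx, rfl⟩
  have hline : ∀ (k g g' : transvGroup σ (Cfsg.hermForm (m + 2) F 2)), line g = line g' →
      line (k * g) = line (k * g') := by
    intro k g g' h
    have h' := congrArg (fun L => Submodule.map (Matrix.toLin' (k.1 : Matrix (Fin (m + 2)) (Fin (m + 2)) F)) L.1) h
    simp only [line, Submodule.map_span, Set.image_singleton, Matrix.toLin'_apply] at h'
    refine Subtype.ext ?_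
    show Submodule.span F _ = Submodule.span F _
    rw [Subgroup.coe_mul, Subgroup.coe_mul, mul_mulVec, mul_mulVec]
    exact h'
  let P : Subgroup (transvGroup σ (Cfsg.hermForm (m + 2) F 2)) :=
    { carrier := {g | line g = line 1}
      one_mem' := rfl
      mul_mem' := fun {g g'} hg hg' => by
        have h := hline g g' 1 hg'
        rw [mul_one] at h
        exact h.trans hg
      inv_mem' := fun {g} hg => by
        have h := hline g⁻¹ g 1 hg
        rw [inv_mul_cancel, mul_one] at h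
        exact h.symm }
  refine ⟨P, fun z hz => ?_, ?_⟩
  · obtain ⟨c₀, hc₀0, hc₀⟩ := exists_skew hs.ne_refl hs.inv
    -- singular lines are fixed
    have hsing : ∀ u, Cfsg.hermForm (m + 2) F 2 u u = 0 →
        ∃ a : F, a ≠ 0 ∧ a • ((z.1 : Matrix (Fin (m + 2)) (Fin (m + 2)) F) *ᵥ u) = c₀ • u := by
      intro u hu
      by_cases hu0 : u = 0
      · exact ⟨1, one_ne_zero, by rw [hu0, mulVec_zero, smul_zero, smul_zero]⟩
      obtain ⟨y, -, hyu⟩ := exists_iso_partner hf hu hu0
      obtain ⟨z', hz'⟩ : ∃ z', z' = (z.1 : Matrix (Fin (m + 2)) (Fin (m + 2)) F) *ᵥ u := ⟨_, rfl⟩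
      have hz'z' : Cfsg.hermForm (m + 2) F 2 z' z' = 0 := by rw [hz', transvGroup_iso hf z, hu]
      have hcomm := Subgroup.mem_center_iff.1 hz
        ⟨uT (Cfsg.hermForm (m + 2) F 2) u c₀, uT_mem hf hu hc₀⟩
      have hconj : uT (Cfsg.hermForm (m + 2) F 2) z' c₀ = uT (Cfsg.hermForm (m + 2) F 2) u c₀ := by
        rw [hz', ← conj_uT hf (transvGroup_iso hf z) hu, mul_inv_eq_iff_eq_mul]
        exact (congrArg Subtype.val hcomm).symm
      have h := congrArg (fun g : GL (Fin (m + 2)) F => (g : Matrix (Fin (m + 2)) (Fin (m + 2)) F) *ᵥ y) hconj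
      simp only [uT_mulVec hf hz'z', uT_mulVec hf hu, add_right_inj, hyu, mul_one] at h
      refine ⟨c₀ * Cfsg.hermForm (m + 2) F 2 y z', fun e => ?_, hz' ▸ h⟩
      rw [e, zero_smul] at h
      exact smul_ne_zero hc₀0 hu0 h.symm
    obtain ⟨w, hw⟩ : ∃ w, w = (z.1 : Matrix (Fin (m + 2)) (Fin (m + 2)) F) *ᵥ x := ⟨_, rfl⟩
    obtain ⟨r, hr⟩ : ∃ r, r = w - Cfsg.hermForm (m + 2) F 2 w x • x := ⟨_, rfl⟩
    have hrx : Cfsg.hermForm (m + 2) F 2 r x = 0 := by
      rw [hr, sub_left' hf, hf.smul_left, form_eq_one hs hxx, mul_one, sub_self]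
    have hr0 : r = 0 := by
      by_contra hr0
      obtain ⟨u, hu, hux, hru⟩ := exists_singular_test_perp hs (by omega : 3 ≤ m + 2) hxx hr0 hrx
      obtain ⟨a, ha0, ha⟩ := hsing u hu
      have hwu : Cfsg.hermForm (m + 2) F 2 w u = 0 := by
        have h1 : Cfsg.hermForm (m + 2) F 2 w (c₀ • u) = 0 := by
          rw [← ha, smul_right' hf, hw, transvGroup_iso hf z, (eq_zero_comm hf).mp hux, mul_zero]
        rw [smul_right' hf] at h1
        exact (mul_eq_zero.1 h1).resolve_left ((map_ne_zero_iff _ σ.injective).2 hc₀0)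
      rw [hr, sub_left' hf, hf.smul_left, hwu, (eq_zero_comm hf).mp hux, mul_zero, sub_zero] at hru
      exact zero_ne_one hru
    have hwx : w = Cfsg.hermForm (m + 2) F 2 w x • x := sub_eq_zero.1 (hr.symm.trans hr0)
    have hwx0 : Cfsg.hermForm (m + 2) F 2 w x ≠ 0 := fun e => by
      rw [e, zero_smul] at hwx
      exact mulVec_ne_zero z.1 hx0 (hw.symm.trans hwx)
    show line z = line 1
    refine Subtype.ext ?_
    show Submodule.span F _ = Submodule.span F _
    rw [Subgroup.coe_one, Units.val_one, one_mulVec, ← hw, hwx,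
      Submodule.span_singleton_smul_eq (IsUnit.mk0 _ hwx0) x]
  · have hwd : ∀ g g' : transvGroup σ (Cfsg.hermForm (m + 2) F 2), g⁻¹ * g' ∈ P ↔ line g = line g' := by
      intro g g'
      constructor
      · intro h
        have h' := hline g _ _ h
        rwa [mul_inv_cancel_left, mul_one, eq_comm] at h'
      · intro h
        have h' := hline g⁻¹ _ _ h
        rw [inv_mul_cancel] at h'
        exact h'.symm
    refine Nat.card_congr (Equiv.ofBijective (Quotient.lift line fun g g' h => ?_) ⟨?_, ?_⟩)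
    · exact (hwd g g').1 (QuotientGroup.leftRel_apply.1 h)
    · rintro ⟨g⟩ ⟨g'⟩ h
      exact QuotientGroup.eq.2 ((hwd g g').2 h)
    · intro L
      obtain ⟨v, hv, hL⟩ := L.2
      obtain ⟨g, hg⟩ := exists_move_nonsingular hs (by omega : 4 ≤ m + 2) hxx
        ((form_eq_one hs hv).trans (form_eq_one hs hxx).symm)
      exact ⟨QuotientGroup.mk g, Subtype.ext (by
        show Submodule.span F _ = L.1
        rw [hg, hL])⟩

omit σ hs in
/-- The minimal index in `PSU_n(2)` for `n` a multiple of six. -/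
theorem psu_two_min_index (hF : Fintype.card F = 4) (hm : m = 4 ∨ (7 ≤ m ∧ Even m)) :
    (∀ H : Subgroup (Cfsg.PSU (m + 2) F 2), H ≠ ⊤ → 2 ^ (m + 1) * (2 ^ (m + 2) - 1) / 3 ≤ H.index) ∧
      ∃ H : Subgroup (Cfsg.PSU (m + 2) F 2), H.index = 2 ^ (m + 1) * (2 ^ (m + 2) - 1) / 3 := by
  obtain ⟨τ, hτ, hinv, hne⟩ := exists_frob (q := 2) (show Fintype.card F = 2 ^ 2 by rw [hF]; norm_num)
  have hs : Setup F 2 τ := ⟨by rw [hF]; norm_num, hτ⟩
  have heven : Even (m + 2) := by
    rcases hm with rfl | ⟨-, h⟩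
    · decide
    · exact h.add (by decide)
  have hS := sCount_even' (F := F) (q := 2) (by rw [hF]; norm_num) (n := m + 2) (by omega) heven
  have hN := card_nline hs (m + 2)
  obtain ⟨A, hA⟩ : ∃ A, 2 ^ (m + 1) = A := ⟨_, rfl⟩
  have hA' : 2 ^ (m + 2) = 2 * A := by rw [← hA, pow_succ']
  have hA1 : 1 ≤ A := hA ▸ Nat.one_le_two_pow
  rw [show m + 2 - 1 = m + 1 from rfl, hA, hA'] at hS
  rw [pow_mul', hA'] at hN
  have hkey : Nat.card (NLine F (m + 2)) * 3 = A * (2 * A - 1) := by
    obtain ⟨B, hB⟩ : ∃ B, 2 * A = B + 1 := ⟨2 * A - 1, by omega⟩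
    rw [hS, hB] at hN
    rw [Nat.add_sub_cancel] at hN
    rw [hB, Nat.add_sub_cancel]
    nlinarith [congrArg (B * ·) hB]
  have hB : Nat.card (NLine F (m + 2)) = 2 ^ (m + 1) * (2 ^ (m + 2) - 1) / 3 := by
    rw [hA, hA', ← hkey, Nat.mul_div_cancel _ (by norm_num)]
  rw [← hB]
  let e := suEquiv (n := m + 2) (show Fintype.card F = 2 ^ 2 by rw [hF]; norm_num) hτ hinv hne (by omega) (by omega)
  let π : Cfsg.SU (m + 2) F 2 →* Cfsg.PSU (m + 2) F 2 := QuotientGroup.mk' _
  have hπ : Function.Surjective π := QuotientGroup.mk'_surjective _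
  refine ⟨fun H hH => ?_, ?_⟩
  · by_contra hlt
    push Not at hlt
    refine hH ?_
    have hidx : ((H.comap π).map e.toMonoidHom).index = H.index := by
      rw [← Subgroup.index_comap_of_surjective H hπ]
      exact Subgroup.index_map_equiv _ e
    have htop : (H.comap π).map e.toMonoidHom = ⊤ := by
      have hm' : m = 4 ∨ 7 ≤ m := hm.imp id And.left
      rcases hm' with rfl | h7
      · refine eq_top_of_index_six hs _ ?_
        rw [hidx]
        obtain rfl : A = 32 := by rw [← hA]; norm_num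
        norm_num at hkey
        omega
      · refine eq_top_of_index' hs (by omega) (fun _ => Or.inr h7) _ ?_ ?_
        all_goals rw [hidx]; norm_num
        · have h1 : H.index * 3 < A * (2 * A - 1) := by omega
          have h2 : A * (2 * A - 1) ≤ sCount F 2 (m + 2) := by
            rw [hS, mul_comm]
            exact Nat.mul_le_mul_left _ (Nat.le_succ A)
          exact lt_of_lt_of_le h1 h2
        · rw [pow_mul', hA']
          omega
    rw [← Subgroup.index_eq_one, ← hidx, htop, Subgroup.index_top]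
  · obtain ⟨P, hPc, hP⟩ := exists_nline_subgroup hs (m := m) (by omega)
    refine ⟨(P.comap e.toMonoidHom).map π, ?_⟩
    rw [Subgroup.index_map_eq _ hπ, Subgroup.index_comap_of_surjective _ e.surjective, hP]
    rw [QuotientGroup.ker_mk']
    intro a ha
    exact hPc (Subgroup.mem_center_iff.2 fun y => e.symm.injective (by
      simpa using Subgroup.mem_center_iff.1 ha (e.symm y)))

end CfsgLib.UnMinIndex
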